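import Mathlib.Data.ZMod.Basic
import Mathlib.Algebra.Group.MinimalAxioms
import Mathlib.Algebra.Field.ZMod
import Mathlib.Tactic.Ring
import Mathlib.Tactic.DeriveFintype
import Mathlib.GroupTheory.PGroup
import Mathlib.Tactic.LinearCombination
import Mathlib.Tactic.ReduceModChar
import Mathlib.LinearAlgebra.GeneralLinearGroup.Basic
import Mathlib.GroupTheory.Index
import Mathlib.Data.Fin.VecNotation
import Mathlib.Tactic.FinCases
import Mathlib.Tactic.Group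
import Cfsg.Agent.Lib.FinFast
import Cfsg.Agent.FastGrp
import Cfsg.Agent.Prune
set_option linter.all false

section
prune_inst 0x7f00000000000000000000000000000000000000000000000000000000000000000000000000000000000000000000000000000000000000000000000000000000000000000000000000000000000000003fffffffffffffffffffffffffffbeffbdffffffff

-- part: H776/Co/Maps
section
set_option linter.all false
open scoped Cfsg.Agent.FastGrp

-- part: H776/Co/Model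
section
/-!
The model `P` of a Sylow 3-subgroup of `Sp₆(3)` (and of `Co₁`): pairs `M · t` with `M` a symmetric 3×3 matrix over
`F₃` (coordinates `m11 m12 m22 m13 m23 m33`) and `t` the unitriangular matrix with entries `a` (position 12),
`b` (position 23), `c` (position 13), acting by `M ↦ t M tᵀ`.
-/

set_option autoImplicit false
set_option linter.style.longLine false

namespace Cfsg.Agent.H776.Co

/-- the model group: the product `M · t` -/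
@[ext] structure P where
  a : ZMod 3
  b : ZMod 3
  c : ZMod 3
  m11 : ZMod 3
  m12 : ZMod 3
  m22 : ZMod 3
  m13 : ZMod 3
  m23 : ZMod 3
  m33 : ZMod 3
deriving DecidableEq

namespace P

/-- multiplication `(M t)(M' t') = (M + t M' tᵀ)(t t')` -/
def mul (x y : P) : P where
  a := x.a + y.a
  b := x.b + y.b
  c := x.c + y.c + x.a * y.b
  m11 := x.m11 + (y.m11 + 2 * x.a * y.m12 + 2 * x.c * y.m13 + x.a ^ 2 * y.m22 + 2 * x.a * x.c * y.m23 + x.c ^ 2 * y.m33)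
  m12 := x.m12 + (y.m12 + x.a * y.m22 + x.c * y.m23 + x.b * (y.m13 + x.a * y.m23 + x.c * y.m33))
  m22 := x.m22 + (y.m22 + 2 * x.b * y.m23 + x.b ^ 2 * y.m33)
  m13 := x.m13 + (y.m13 + x.a * y.m23 + x.c * y.m33)
  m23 := x.m23 + (y.m23 + x.b * y.m33)
  m33 := x.m33 + y.m33

/-- inverse: `t⁻¹` has entries `-a, -b, -c + a b`, and the matrix is `- t⁻¹ M t⁻ᵀ` -/
def inv (x : P) : P where
  a := -x.a
  b := -x.b
  c := -x.c + x.a * x.b
  m11 := -(x.m11 + 2 * (-x.a) * x.m12 + 2 * (-x.c + x.a * x.b) * x.m13 + (-x.a) ^ 2 * x.m22 + 2 * (-x.a) * (-x.c + x.a * x.b) * x.m23 + (-x.c + x.a * x.b) ^ 2 * x.m33)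
  m12 := -(x.m12 + (-x.a) * x.m22 + (-x.c + x.a * x.b) * x.m23 + (-x.b) * (x.m13 + (-x.a) * x.m23 + (-x.c + x.a * x.b) * x.m33))
  m22 := -(x.m22 + 2 * (-x.b) * x.m23 + (-x.b) ^ 2 * x.m33)
  m13 := -(x.m13 + (-x.a) * x.m23 + (-x.c + x.a * x.b) * x.m33)
  m23 := -(x.m23 + (-x.b) * x.m33)
  m33 := -x.m33

instance : Mul P := ⟨mul⟩
instance : One P := ⟨⟨0, 0, 0, 0, 0, 0, 0, 0, 0⟩⟩
instance : Inv P := ⟨inv⟩

theorem mul_def (x y : P) : x * y = mul x y := rfl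
theorem one_def : (1 : P) = ⟨0, 0, 0, 0, 0, 0, 0, 0, 0⟩ := rfl
theorem inv_def (x : P) : x⁻¹ = inv x := rfl

theorem mul_assoc' (x y z : P) : x * y * z = x * (y * z) := by
  ext <;> simp only [mul_def, mul] <;> ring

theorem one_mul' (x : P) : 1 * x = x := by
  ext <;> simp only [mul_def, mul, one_def] <;> ring

theorem inv_mul_cancel' (x : P) : x⁻¹ * x = 1 := by
  ext <;> simp only [mul_def, mul, one_def, inv_def, inv] <;> ring

instance : Group P := Group.ofLeftAxioms mul_assoc' one_mul' inv_mul_cancel'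

@[simp] theorem mul_a (x y : P) : (x * y).a = x.a + y.a := rfl
@[simp] theorem mul_b (x y : P) : (x * y).b = x.b + y.b := rfl
@[simp] theorem mul_c (x y : P) : (x * y).c = x.c + y.c + x.a * y.b := rfl
@[simp] theorem mul_m11 (x y : P) : (x * y).m11 = x.m11 + (y.m11 + 2 * x.a * y.m12 + 2 * x.c * y.m13 + x.a ^ 2 * y.m22 + 2 * x.a * x.c * y.m23 + x.c ^ 2 * y.m33) := rfl
@[simp] theorem mul_m12 (x y : P) : (x * y).m12 = x.m12 + (y.m12 + x.a * y.m22 + x.c * y.m23 + x.b * (y.m13 + x.a * y.m23 + x.c * y.m33)) := rfl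
@[simp] theorem mul_m22 (x y : P) : (x * y).m22 = x.m22 + (y.m22 + 2 * x.b * y.m23 + x.b ^ 2 * y.m33) := rfl
@[simp] theorem mul_m13 (x y : P) : (x * y).m13 = x.m13 + (y.m13 + x.a * y.m23 + x.c * y.m33) := rfl
@[simp] theorem mul_m23 (x y : P) : (x * y).m23 = x.m23 + (y.m23 + x.b * y.m33) := rfl
@[simp] theorem mul_m33 (x y : P) : (x * y).m33 = x.m33 + y.m33 := rfl
@[simp] theorem one_a : (1 : P).a = 0 := rfl
@[simp] theorem one_b : (1 : P).b = 0 := rfl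
@[simp] theorem one_c : (1 : P).c = 0 := rfl
@[simp] theorem one_m11 : (1 : P).m11 = 0 := rfl
@[simp] theorem one_m12 : (1 : P).m12 = 0 := rfl
@[simp] theorem one_m22 : (1 : P).m22 = 0 := rfl
@[simp] theorem one_m13 : (1 : P).m13 = 0 := rfl
@[simp] theorem one_m23 : (1 : P).m23 = 0 := rfl
@[simp] theorem one_m33 : (1 : P).m33 = 0 := rfl
@[simp] theorem inv_a (x : P) : (x⁻¹).a = -x.a := rfl
@[simp] theorem inv_b (x : P) : (x⁻¹).b = -x.b := rfl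
@[simp] theorem inv_c (x : P) : (x⁻¹).c = -x.c + x.a * x.b := rfl
@[simp] theorem inv_m11 (x : P) : (x⁻¹).m11 = -(x.m11 + 2 * (-x.a) * x.m12 + 2 * (-x.c + x.a * x.b) * x.m13 + (-x.a) ^ 2 * x.m22 + 2 * (-x.a) * (-x.c + x.a * x.b) * x.m23 + (-x.c + x.a * x.b) ^ 2 * x.m33) := rfl
@[simp] theorem inv_m12 (x : P) : (x⁻¹).m12 = -(x.m12 + (-x.a) * x.m22 + (-x.c + x.a * x.b) * x.m23 + (-x.b) * (x.m13 + (-x.a) * x.m23 + (-x.c + x.a * x.b) * x.m33)) := rfl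
@[simp] theorem inv_m22 (x : P) : (x⁻¹).m22 = -(x.m22 + 2 * (-x.b) * x.m23 + (-x.b) ^ 2 * x.m33) := rfl
@[simp] theorem inv_m13 (x : P) : (x⁻¹).m13 = -(x.m13 + (-x.a) * x.m23 + (-x.c + x.a * x.b) * x.m33) := rfl
@[simp] theorem inv_m23 (x : P) : (x⁻¹).m23 = -(x.m23 + (-x.b) * x.m33) := rfl
@[simp] theorem inv_m33 (x : P) : (x⁻¹).m33 = -x.m33 := rfl

/-- coordinates -/
def equivTuple : P ≃ (ZMod 3 × ZMod 3 × ZMod 3 × ZMod 3 × ZMod 3 × ZMod 3 × ZMod 3 × ZMod 3 × ZMod 3) where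
  toFun x := (x.a, x.b, x.c, x.m11, x.m12, x.m22, x.m13, x.m23, x.m33)
  invFun t := ⟨t.1, t.2.1, t.2.2.1, t.2.2.2.1, t.2.2.2.2.1, t.2.2.2.2.2.1, t.2.2.2.2.2.2.1, t.2.2.2.2.2.2.2.1, t.2.2.2.2.2.2.2.2⟩
  left_inv _ := rfl
  right_inv _ := rfl

instance : Fintype P := Fintype.ofEquiv _ equivTuple.symm

theorem card_P : Nat.card P = 3 ^ 9 := by
  rw [Nat.card_congr equivTuple]
  simp only [Nat.card_prod, Nat.card_zmod]
  norm_num

theorem isPGroup_P : IsPGroup 3 P := IsPGroup.of_card card_P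

end P

open Subgroup P

/-! ### subgroups -/

/-- `A = 3^6` -/
def A : Subgroup P where
  carrier := {x | x.a = 0 ∧ x.b = 0 ∧ x.c = 0}
  mul_mem' := by
    rintro x y ⟨h1, h2, h3⟩ ⟨h4, h5, h6⟩
    exact ⟨by simp [h1, h4], by simp [h2, h5], by simp [h1, h3, h6]⟩
  one_mem' := ⟨rfl, rfl, rfl⟩
  inv_mem' := by
    rintro x ⟨h1, h2, h3⟩
    exact ⟨by simp [h1], by simp [h2], by simp [h1, h3]⟩

/-- `W5 = [A, S]` -/
def W5 : Subgroup P where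
  carrier := {x | x.a = 0 ∧ x.b = 0 ∧ x.c = 0 ∧ x.m33 = 0}
  mul_mem' := by
    rintro x y ⟨h1, h2, h3, h7⟩ ⟨h4, h5, h6, h8⟩
    exact ⟨by simp [h1, h4], by simp [h2, h5], by simp [h1, h3, h6], by simp [h7, h8]⟩
  one_mem' := ⟨rfl, rfl, rfl, rfl⟩
  inv_mem' := by
    rintro x ⟨h1, h2, h3, h7⟩
    exact ⟨by simp [h1], by simp [h2], by simp [h1, h3], by simp [h7]⟩

/-- `W3 = Z(Q_L)` -/
def W3 : Subgroup P where
  carrier := {x | x.a = 0 ∧ x.b = 0 ∧ x.c = 0 ∧ x.m13 = 0 ∧ x.m23 = 0 ∧ x.m33 = 0}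
  mul_mem' := by
    rintro x y ⟨h1, h2, h3, h7, h9, h11⟩ ⟨h4, h5, h6, h8, h10, h12⟩
    exact ⟨by simp [h1, h4], by simp [h2, h5], by simp [h1, h3, h6], by simp [h1, h3, h7, h8],
      by simp [h2, h9, h10], by simp [h11, h12]⟩
  one_mem' := ⟨rfl, rfl, rfl, rfl, rfl, rfl⟩
  inv_mem' := by
    rintro x ⟨h1, h2, h3, h7, h9, h11⟩
    exact ⟨by simp [h1], by simp [h2], by simp [h1, h3], by simp [h1, h3, h7, h9], by simp [h2, h9, h11], by simp [h11]⟩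

/-- `W1 = Z(S)` -/
def W1 : Subgroup P where
  carrier := {x | x.a = 0 ∧ x.b = 0 ∧ x.c = 0 ∧ x.m12 = 0 ∧ x.m22 = 0 ∧ x.m13 = 0 ∧ x.m23 = 0 ∧ x.m33 = 0}
  mul_mem' := by
    rintro x y ⟨h1, h2, h3, h7, h9, h11, h13, h15⟩ ⟨h4, h5, h6, h8, h10, h12, h14, h16⟩
    exact ⟨by simp [h1, h4], by simp [h2, h5], by simp [h1, h3, h6], by simp [h1, h2, h3, h7, h8],
      by simp [h2, h9, h10], by simp [h1, h3, h11, h12], by simp [h2, h13, h14], by simp [h15, h16]⟩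
  one_mem' := ⟨rfl, rfl, rfl, rfl, rfl, rfl, rfl, rfl⟩
  inv_mem' := by
    rintro x ⟨h1, h2, h3, h7, h9, h11, h13, h15⟩
    exact ⟨by simp [h1], by simp [h2], by simp [h1, h3], by simp [h1, h2, h3, h7, h9],
      by simp [h2, h9, h13], by simp [h1, h3, h11, h13], by simp [h2, h13, h15], by simp [h15]⟩

/-- `R1 = A U1 = C_S(W3)` (no root group `e1 - e2`) -/
def R1 : Subgroup P where
  carrier := {x | x.a = 0}
  mul_mem' := by
    intro x y (h1 : x.a = 0) (h2 : y.a = 0)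
    show x.a + y.a = 0
    rw [h1, h2, add_zero]
  one_mem' := rfl
  inv_mem' := by
    intro x (h1 : x.a = 0)
    show -x.a = 0
    rw [h1, neg_zero]

/-- `R2 = A U2` (no root group `e2 - e3`) -/
def R2 : Subgroup P where
  carrier := {x | x.b = 0}
  mul_mem' := by
    intro x y (h1 : x.b = 0) (h2 : y.b = 0)
    show x.b + y.b = 0
    rw [h1, h2, add_zero]
  one_mem' := rfl
  inv_mem' := by
    intro x (h1 : x.b = 0)
    show -x.b = 0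
    rw [h1, neg_zero]

/-- `R3` (no root group `2 e3`) -/
def R3 : Subgroup P where
  carrier := {x | x.m33 = 0}
  mul_mem' := by
    intro x y (h1 : x.m33 = 0) (h2 : y.m33 = 0)
    show x.m33 + y.m33 = 0
    rw [h1, h2, add_zero]
  one_mem' := rfl
  inv_mem' := by
    intro x (h1 : x.m33 = 0)
    show -x.m33 = 0
    rw [h1, neg_zero]

/-- the three conjugates `DD i` of `W5` in `Q_L` outside `A` -/
def DD (i : ZMod 3) : Subgroup P where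
  carrier := {x | x.a = 0 ∧ x.m33 = 0 ∧ x.m13 = i * x.c ∧ x.m23 = i * x.b}
  mul_mem' := by
    rintro x y ⟨h1, h2, h3, h4⟩ ⟨h5, h6, h7, h8⟩
    exact ⟨by simp [h1, h5], by simp [h2, h6], by simp [h1, h3, h6, h7]; ring, by simp [h4, h6, h8]; ring⟩
  one_mem' := ⟨rfl, rfl, by simp, by simp⟩
  inv_mem' := by
    rintro x ⟨h1, h2, h3, h4⟩
    exact ⟨by simp [h1], by simp [h2], by simp [h1, h2, h3], by simp [h2, h4]⟩

theorem mem_A {x : P} : x ∈ A ↔ x.a = 0 ∧ x.b = 0 ∧ x.c = 0 := Iff.rfl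
theorem mem_W5 {x : P} : x ∈ W5 ↔ x.a = 0 ∧ x.b = 0 ∧ x.c = 0 ∧ x.m33 = 0 := Iff.rfl
theorem mem_W3 {x : P} : x ∈ W3 ↔ x.a = 0 ∧ x.b = 0 ∧ x.c = 0 ∧ x.m13 = 0 ∧ x.m23 = 0 ∧ x.m33 = 0 := Iff.rfl
theorem mem_W1 {x : P} : x ∈ W1 ↔ x.a = 0 ∧ x.b = 0 ∧ x.c = 0 ∧ x.m12 = 0 ∧ x.m22 = 0 ∧ x.m13 = 0 ∧ x.m23 = 0 ∧ x.m33 = 0 := Iff.rfl
theorem mem_R1 {x : P} : x ∈ R1 ↔ x.a = 0 := Iff.rfl
theorem mem_R2 {x : P} : x ∈ R2 ↔ x.b = 0 := Iff.rfl
theorem mem_DD {i : ZMod 3} {x : P} : x ∈ DD i ↔ x.a = 0 ∧ x.m33 = 0 ∧ x.m13 = i * x.c ∧ x.m23 = i * x.b := Iff.rfl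

end Cfsg.Agent.H776.Co
end

-- part: H776/Co/Maps
section
/-!
Explicit automorphisms of `P` and of `R1`, `R2`, `R3`.
-/

set_option autoImplicit false
set_option linter.style.longLine false

namespace Cfsg.Agent.H776.Co

open P

/-- torus: `x12 ↦ x12^e1`, `x23 ↦ x23^e2`, `x33 ↦ x33^e3` (for signs `e_i`) -/
def tor (e1 e2 e3 : ZMod 3) (p : P) : P :=
  ⟨e1 * p.a, e2 * p.b, e1 * e2 * p.c, e3 * p.m11, e1 * e3 * p.m12, e3 * p.m22, e1 * e2 * e3 * p.m13, e2 * e3 * p.m23, e3 * p.m33⟩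

theorem tor_mul {e1 e2 e3 : ZMod 3} (h1 : e1 ^ 2 = 1) (h2 : e2 ^ 2 = 1) (x y : P) :
    tor e1 e2 e3 (x * y) = tor e1 e2 e3 x * tor e1 e2 e3 y := by
  ext
  · simp only [tor, mul_a]; ring
  · simp only [tor, mul_b]; ring
  · simp only [tor, mul_c]; ring
  · simp only [tor, mul_m11]
    linear_combination (-e3 * 2 * x.a * y.m12 - e3 * x.a ^ 2 * y.m22 - e3 * 2 * x.c * y.m13 * e2 ^ 2 - e3 * 2 * x.a * x.c * y.m23 * e2 ^ 2 - e3 * x.c ^ 2 * y.m33 * e2 ^ 2) * h1 + (-e3 * 2 * x.c * y.m13 - e3 * 2 * x.a * x.c * y.m23 - e3 * x.c ^ 2 * y.m33) * h2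
  · simp only [tor, mul_m12]
    linear_combination (- e1 * e3 * x.c * y.m23 - e1 * e3 * x.b * (y.m13 + x.a * y.m23 + x.c * y.m33)) * h2
  · simp only [tor, mul_m22]
    linear_combination (-e3 * 2 * x.b * y.m23 - e3 * x.b ^ 2 * y.m33) * h2
  · simp only [tor, mul_m13]; ring
  · simp only [tor, mul_m23]; ring
  · simp only [tor, mul_m33]; ring

/-- the central automorphism `x33 ↦ x33 z^k` -/
def del (k : ZMod 3) (p : P) : P := ⟨p.a, p.b, p.c, p.m11 + k * p.m33, p.m12, p.m22, p.m13, p.m23, p.m33⟩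

theorem del_mul (k : ZMod 3) (x y : P) : del k (x * y) = del k x * del k y := by
  ext <;> simp only [del, mul_a, mul_b, mul_c, mul_m11, mul_m12, mul_m22, mul_m13, mul_m23, mul_m33] <;> ring

/-- the Weyl element of `R1` (rotation of `e1, e2`) -/
def w1 (p : P) : P := ⟨p.a, p.c, -p.b, p.m22, -p.m12, p.m11, -p.m23, p.m13, p.m33⟩

theorem w1_mul {x y : P} (hx : x ∈ R1) (hy : y ∈ R1) : w1 (x * y) = w1 x * w1 y := by
  have h1 : x.a = 0 := hx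
  have h2 : y.a = 0 := hy
  ext <;> simp only [w1, mul_a, mul_b, mul_c, mul_m11, mul_m12, mul_m22, mul_m13, mul_m23, mul_m33, h1, h2] <;> ring

/-- the Weyl element of `R2` (rotation of `e2, e3`), with parameter `k` -/
def w2 (k : ZMod 3) (p : P) : P := ⟨-p.c, p.b, p.a, p.m11 + k * (p.m22 - p.m33), -p.m13, p.m33, p.m12, -p.m23, p.m22⟩

theorem w2_mul (k : ZMod 3) {x y : P} (hx : x ∈ R2) (hy : y ∈ R2) : w2 k (x * y) = w2 k x * w2 k y := by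
  have h1 : x.b = 0 := hx
  have h2 : y.b = 0 := hy
  ext <;> simp only [w2, mul_a, mul_b, mul_c, mul_m11, mul_m12, mul_m22, mul_m13, mul_m23, mul_m33, h1, h2] <;> ring

/-- `x12^a` -/
def xa (a : ZMod 3) : P := ⟨a, 0, 0, 0, 0, 0, 0, 0, 0⟩

/-- the Weyl element on `Q_L` -/
def w3Q (p : P) : P := ⟨0, p.m23, p.m13, p.m11 + p.c * p.m13, p.m12 - (p.c * p.m23 + p.b * p.m13), p.m22 + p.b * p.m23, -p.c, -p.b, 0⟩

/-- the Weyl element of `R3` -/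
def w3 (p : P) : P := xa p.a * w3Q ((xa p.a)⁻¹ * p)

theorem w3_mul {x y : P} (hx : x ∈ R3) (hy : y ∈ R3) : w3 (x * y) = w3 x * w3 y := by
  have h1 : x.m33 = 0 := hx
  have h2 : y.m33 = 0 := hy
  ext <;> simp only [w3, w3Q, xa, mul_a, mul_b, mul_c, mul_m11, mul_m12, mul_m22, mul_m13, mul_m23, mul_m33, inv_a, inv_b, inv_c,
    inv_m11, inv_m12, inv_m22, inv_m13, inv_m23, h1, h2] <;> ring_nf <;> reduce_mod_char <;> ring_nf <;> reduce_mod_char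

end Cfsg.Agent.H776.Co
end

private theorem dce_2f8fbc022184 : _root_.True := by
  try have : _root_.True := by simp only [_root_.Cfsg.Agent.H776.Co.w3Q.eq_1]
  try have : _root_.True := by simp only [_root_.Cfsg.Agent.H776.Co.P.mul.eq_1]
  try have : _root_.True := by simp only [_root_.Cfsg.Agent.H776.Co.del.eq_1]
  try have : _root_.True := by simp only [_root_.Cfsg.Agent.H776.Co.w3.eq_1]
  try have : _root_.True := by simp only [_root_.Cfsg.Agent.H776.Co.tor.eq_1]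
  try have : _root_.True := by simp only [_root_.Cfsg.Agent.H776.Co.P.inv.eq_1]
  try have : _root_.True := by simp only [_root_.Cfsg.Agent.H776.Co.xa.eq_1]
  try have : _root_.True := by simp only [_root_.Cfsg.Agent.H776.Co.w1.eq_1]
  try have : _root_.True := by simp only [_root_.Cfsg.Agent.H776.Co.w2.eq_1]
  exact _root_.True.intro
end

-- part: H776/Co/Lin
section
set_option linter.all false
open scoped Cfsg.Agent.FastGrp

/-!
The linear side: `V = F₃⁶` (coordinates `m11 m12 m22 m13 m23 m33`), the group `T = 3^{1+2}` acting on it.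
-/

set_option autoImplicit false
set_option linter.style.longLine false

namespace Cfsg.Agent.H776.Co.Lin

/-- the module `A` written additively -/
abbrev V := Fin 6 → ZMod 3

/-- its linear group -/
abbrev L := V ≃ₗ[ZMod 3] V

/-- the action of `t(a,b,c)` -/
def tf (a b c : ZMod 3) (v : V) : V :=
  ![v 0 + 2 * a * v 1 + 2 * c * v 3 + a ^ 2 * v 2 + 2 * a * c * v 4 + c ^ 2 * v 5,
    v 1 + a * v 2 + c * v 4 + b * (v 3 + a * v 4 + c * v 5),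
    v 2 + 2 * b * v 4 + b ^ 2 * v 5,
    v 3 + a * v 4 + c * v 5,
    v 4 + b * v 5,
    v 5]

theorem tf_tf (a b c a' b' c' : ZMod 3) (v : V) : tf a b c (tf a' b' c' v) = tf (a + a') (b + b') (c + c' + a * b') v := by
  funext i
  fin_cases i <;> simp [tf] <;> ring

theorem tf_zero (v : V) : tf 0 0 0 v = v := by
  funext i
  fin_cases i <;> simp [tf]

/-- `t(a,b,c)` as a linear equivalence -/
def tl (a b c : ZMod 3) : L where
  toFun := tf a b c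
  map_add' u v := by
    funext i
    fin_cases i <;> simp [tf] <;> ring
  map_smul' r v := by
    funext i
    fin_cases i <;> simp [tf] <;> ring
  invFun := tf (-a) (-b) (-c + a * b)
  left_inv v := by
    rw [tf_tf]
    have : tf (-a + a) (-b + b) (-c + a * b + c + -a * b) v = tf 0 0 0 v := by
      congr 1 <;> ring
    rw [this, tf_zero]
  right_inv v := by
    rw [tf_tf]
    have : tf (a + -a) (b + -b) (c + (-c + a * b) + a * -b) v = tf 0 0 0 v := by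
      congr 1 <;> ring
    rw [this, tf_zero]

@[simp] theorem tl_apply (a b c : ZMod 3) (v : V) : tl a b c v = tf a b c v := rfl

theorem tl_mul (a b c a' b' c' : ZMod 3) : tl a b c * tl a' b' c' = tl (a + a') (b + b') (c + c' + a * b') :=
  LinearEquiv.ext fun v => tf_tf a b c a' b' c' v

theorem tl_one : tl 0 0 0 = 1 := LinearEquiv.ext tf_zero

theorem tl_inv (a b c : ZMod 3) : (tl a b c)⁻¹ = tl (-a) (-b) (-c + a * b) := by
  rw [inv_eq_iff_mul_eq_one, tl_mul, ← tl_one]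
  congr 1 <;> ring

/-- the Sylow subgroup `T = 3^{1+2}` -/
def T : Subgroup L where
  carrier := {g | ∃ a b c, g = tl a b c}
  mul_mem' := by
    rintro _ _ ⟨a, b, c, rfl⟩ ⟨a', b', c', rfl⟩
    exact ⟨_, _, _, tl_mul a b c a' b' c'⟩
  one_mem' := ⟨0, 0, 0, tl_one.symm⟩
  inv_mem' := by
    rintro _ ⟨a, b, c, rfl⟩
    exact ⟨_, _, _, tl_inv a b c⟩

/-- `U1`: `a = 0` -/
def U1 : Subgroup L where
  carrier := {g | ∃ b c, g = tl 0 b c}
  mul_mem' := by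
    rintro _ _ ⟨b, c, rfl⟩ ⟨b', c', rfl⟩
    exact ⟨_, _, by rw [tl_mul, add_zero]⟩
  one_mem' := ⟨0, 0, tl_one.symm⟩
  inv_mem' := by
    rintro _ ⟨b, c, rfl⟩
    exact ⟨_, _, by rw [tl_inv, neg_zero]⟩

/-- `U2`: `b = 0` -/
def U2 : Subgroup L where
  carrier := {g | ∃ a c, g = tl a 0 c}
  mul_mem' := by
    rintro _ _ ⟨a, c, rfl⟩ ⟨a', c', rfl⟩
    exact ⟨_, _, by rw [tl_mul, add_zero]⟩
  one_mem' := ⟨0, 0, tl_one.symm⟩
  inv_mem' := by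
    rintro _ ⟨a, c, rfl⟩
    exact ⟨_, _, by rw [tl_inv, neg_zero]⟩

/-- signs (the torus) -/
def sf (e1 e2 e3 : ZMod 3) (v : V) : V :=
  ![e3 * v 0, e1 * e3 * v 1, e3 * v 2, e1 * e2 * e3 * v 3, e2 * e3 * v 4, e3 * v 5]

/-- `g` is one of the eight sign matrices of the torus -/
def IsSign (g : L) : Prop := ∃ e1 e2 e3 : ZMod 3, e1 ^ 2 = 1 ∧ e2 ^ 2 = 1 ∧ e3 ^ 2 = 1 ∧ ∀ v, g v = sf e1 e2 e3 v

/-- Weyl element of `N(U1)` -/
def w1f (v : V) : V := ![v 2, -v 1, v 0, -v 4, v 3, v 5]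
/-- Weyl element of `N(U2)` with parameter `k` -/
def w2f (k : ZMod 3) (v : V) : V := ![v 0 + k * (v 2 - v 5), -v 3, v 5, v 1, -v 4, v 2]
/-- `x33 ↦ x33 z^k` -/
def df (k : ZMod 3) (v : V) : V := ![v 0 + k * v 5, v 1, v 2, v 3, v 4, v 5]
/-- `W1`, `W3` inside `V` -/
def inW1 (v : V) : Prop := v 1 = 0 ∧ v 2 = 0 ∧ v 3 = 0 ∧ v 4 = 0 ∧ v 5 = 0
/-- `W3` -/
def inW3 (v : V) : Prop := v 3 = 0 ∧ v 4 = 0 ∧ v 5 = 0

/-- `G` is a linear group with Sylow 3-subgroup `T` -/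
structure Syl (G : Subgroup L) : Prop where
  le : T ≤ G
  idx : ¬ 3 ∣ T.relIndex G

end Cfsg.Agent.H776.Co.Lin

private theorem dce_7da84ee38711 : _root_.True := by
  try have : _root_.True := by simp only [_root_.Cfsg.Agent.H776.Co.Lin.tf.eq_1]
  exact _root_.True.intro
end

-- part: N2/Sp4/Co1A
section
set_option linter.all false
open scoped Cfsg.Agent.FastGrp

/-!
# S3519, `Co1`, `p = 3`: quadratic action (helper15)
-/

set_option autoImplicit false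

namespace Cfsg.Agent.N2.Sp4.CoT

open Subgroup

variable {G : Type*} [Group G] {A Y W : Subgroup G} {x x' y z : G}

/-- the commutator -/
def cm (x y : G) : G := x * y * x⁻¹ * y⁻¹

theorem cm_mul (x y : G) : cm x y * y = x * y * x⁻¹ := inv_mul_cancel_right _ _

theorem cm_eq_one : cm x y = 1 ↔ Commute x y := mul_inv_eq_one.trans mul_inv_eq_iff_eq_mul

theorem cm_left (x x' y : G) : cm (x * x') y = x * cm x' y * x⁻¹ * cm x y := by simp only [cm]; group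

theorem cm_right (x y y' : G) : cm x (y * y') = cm x y * (y * cm x y' * y⁻¹) := by simp only [cm]; group

theorem cm_inv (x y : G) : cm x⁻¹ y = x⁻¹ * (cm x y)⁻¹ * x⁻¹⁻¹ := by simp only [cm]; group

theorem cm_conj (g x y : G) : cm (g * x * g⁻¹) (g * y * g⁻¹) = g * cm x y * g⁻¹ := by simp only [cm]; group

theorem cj_mul (s a b : G) : s * (a * b) * s⁻¹ = s * a * s⁻¹ * (s * b * s⁻¹) := conj_mul.symm

theorem cj_inv (s a : G) : s * a⁻¹ * s⁻¹ = (s * a * s⁻¹)⁻¹ := conj_inv.symm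

theorem fix (h : Commute x y) : x * y * x⁻¹ = y := by rw [h.eq, mul_inv_cancel_right]

theorem cjc (h : Commute x y) (g : G) : Commute (g * x * g⁻¹) (g * y * g⁻¹) := h.map (MulAut.conj g)

theorem back (g x : G) : g * (g⁻¹ * x * g⁻¹⁻¹) * g⁻¹ = x := by group

/-- `Y = O₃(A)` is self-centralising, `A = N(Y)` has no element of order nine -/
structure Cr (A Y : Subgroup G) : Prop where
  le : Y ≤ A
  nrm : ∀ s ∈ A, ∀ y ∈ Y, s * y * s⁻¹ ∈ Y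
  cen : ∀ x, (∀ y ∈ Y, Commute x y) → x ∈ Y
  full : ∀ x, (∀ y ∈ Y, x * y * x⁻¹ ∈ Y) → x ∈ A
  cube : ∀ x ∈ A, ∀ k, x ^ 3 ^ k = 1 → x ^ 3 = 1
  pg : IsPGroup 3 Y
  max : ∀ X ≤ A, (∀ s ∈ A, ∀ x ∈ X, s * x * s⁻¹ ∈ X) → IsPGroup 3 X → X ≤ Y

/-- quadratic elements -/
def Qd (A Y : Subgroup G) (x : G) : Prop := x ∈ A ∧ ∀ y ∈ Y, Commute x (cm x y)

namespace Cr

variable (h : Cr A Y)
include h

theorem cub (hy : y ∈ Y) : y ^ 3 = 1 := by
  obtain ⟨k, hk⟩ := h.pg ⟨y, hy⟩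
  exact h.cube y (h.le hy) k (congrArg Subtype.val hk)

theorem cm_mem (hx : x ∈ A) (hy : y ∈ Y) : cm x y ∈ Y := mul_mem (h.nrm x hx y hy) (inv_mem hy)

theorem conj_all {p : G → Prop} {g : G} (hg : g ∈ A) (k : ∀ y ∈ Y, p (g * y * g⁻¹)) : ∀ y ∈ Y, p y := fun y hy =>
  back g y ▸ k _ (h.nrm _ (inv_mem hg) y hy)

theorem nine (hx : x ∈ A) (k : ∀ y ∈ Y, x ^ 3 * y * (x ^ 3)⁻¹ = y) : x ^ 3 = 1 :=
  h.cube x hx 2 (by rw [pow_two, pow_mul, h.cub (h.cen _ fun y hy => mul_inv_eq_iff_eq_mul.1 (k y hy))])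

theorem _root_.Cfsg.Agent.N2.Sp4.CoT.Qd.cube (q : Qd A Y x) : x ^ 3 = 1 := h.nine q.1 fun y hy => by
  have h1 := fix (q.2 y hy)
  rw [show x ^ 3 * y * (x ^ 3)⁻¹ = x * (x * (x * y * x⁻¹) * x⁻¹) * x⁻¹ by simp only [pow_three]; group]
  have h2 := (cm_mul x y).symm
  have h3 := h.cub (h.cm_mem q.1 hy)
  generalize cm x y = w at h1 h2 h3
  rw [h2, cj_mul x w, h1, h2, cj_mul x w, cj_mul x w, h1, h2, ← mul_assoc, ← mul_assoc, ← pow_three', h3, one_mul]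

/-- **the stabiliser of a chain** -/
theorem rad (h2 : ∀ s ∈ A, ∀ w ∈ W, s * w * s⁻¹ ∈ W) (hx : x ∈ A) (h3 : ∀ y ∈ Y, cm x y ∈ W)
    (h4 : ∀ w ∈ W, Commute x w) : x ∈ Y := by
  let X : Subgroup G :=
    { carrier := {x | x ∈ A ∧ (∀ y ∈ Y, cm x y ∈ W) ∧ ∀ w ∈ W, Commute x w}
      one_mem' := ⟨one_mem _, fun y _ => by rw [cm_eq_one.2 (Commute.one_left y)]; exact one_mem _, fun w _ => Commute.one_left w⟩
      mul_mem' := fun {a b} ha hb => ⟨mul_mem ha.1 hb.1, fun y hy => cm_left a b y ▸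
        mul_mem (h2 a ha.1 _ (hb.2.1 y hy)) (ha.2.1 y hy), fun w hw => (ha.2.2 w hw).mul_left (hb.2.2 w hw)⟩
      inv_mem' := fun {a} ha => ⟨inv_mem ha.1, fun y hy => cm_inv a y ▸ h2 _ (inv_mem ha.1) _ (inv_mem (ha.2.1 y hy)),
        fun w hw => (ha.2.2 w hw).inv_left⟩ }
  refine h.max X (fun _ k => k.1) (fun s hs a ha => ⟨mul_mem (mul_mem hs ha.1) (inv_mem hs), h.conj_all hs fun y hy =>
    cm_conj s a y ▸ h2 s hs _ (ha.2.1 y hy), fun w hw => back s w ▸ cjc (ha.2.2 _ (h2 _ (inv_mem hs) w hw)) s⟩)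
    (fun a => ⟨1, Subtype.ext (Qd.cube h ⟨a.2.1, fun y hy => a.2.2.2 _ (a.2.2.1 y hy)⟩)⟩) ⟨hx, h3, h4⟩

/-- the stabiliser of the chain which is defined by an element -/
theorem rad' (hx : x ∈ A) (k : ∀ g ∈ A, ∀ y ∈ Y, Commute (g * x * g⁻¹) (cm x y)) : x ∈ Y := by
  refine h.rad (W := closure {w | ∃ g ∈ A, ∃ y ∈ Y, w = g * cm x y * g⁻¹})
    (fun s hs w hw => mem_comap.1 ((closure_le (Subgroup.comap (MulAut.conj s).toMonoidHom (closure _))).2 ?_ hw)) hx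
    (fun y hy => subset_closure ⟨1, one_mem _, y, hy, by group⟩)
    fun w hw => (mem_centralizer_singleton_iff.1 ((closure_le (centralizer {x})).2 ?_ hw)).symm
  · rintro _ ⟨g, hg, y, hy, rfl⟩
    exact subset_closure ⟨s * g, mul_mem hs hg, y, hy, by simp [mul_assoc]⟩
  · rintro _ ⟨g, hg, y, hy, rfl⟩
    exact mem_centralizer_singleton_iff.2 (back g x ▸ cjc (k _ (inv_mem hg) y hy) g).symm

variable (ab : ∀ a ∈ Y, ∀ b ∈ Y, Commute a b)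
include ab

theorem quad (hx : x ∈ A) (h3 : x ^ 3 = 1) : Qd A Y x := ⟨hx, fun y hy => by
  have h1 : (y * x) ^ 3 = y * (x * y * x⁻¹) * (x * (x * y * x⁻¹) * x⁻¹) := by
    rw [← mul_one (y * _ * _), ← h3]
    simp only [pow_three]
    group
  have h2 := h.nrm x hx y hy
  have h4 := h.cube _ (mul_mem (h.le hy) hx) 2 (by
    rw [pow_two, pow_mul, h1, h.cub (mul_mem (mul_mem hy h2) (h.nrm x hx _ h2))])
  rw [h1] at h4
  have h5 := ab _ hy _ h2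
  have h6 := h.cub h2
  rw [← mul_inv_eq_iff_eq_mul.trans (Iff.rfl : _ ↔ Commute x (cm x y)), cm, cj_mul x _ y⁻¹, cj_inv x y]
  generalize x * y * x⁻¹ = u at h4 h5 h6
  rw [eq_inv_of_mul_eq_one_right h4, mul_inv_rev, mul_assoc, h5.inv_inv.eq, ← mul_assoc,
    ← mul_inv_rev, inv_eq_of_mul_eq_one_right ((pow_three' u).symm.trans h6)]⟩

/-- **the symmetry** -/
theorem sym (q : Qd A Y x) (q' : Qd A Y x') (k : ∀ y ∈ Y, Commute x (cm x' y)) : ∀ y ∈ Y, Commute x' (cm x y) := by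
  have h1 : ∀ y, x * x' * y * (x * x')⁻¹ = x * (cm x' y * y) * x⁻¹ := fun y => by rw [cm_mul]; group
  have h2 : ∀ y ∈ Y, x * x' * y * (x * x')⁻¹ = cm x' y * (cm x y * y) := fun y hy => by
    rw [h1, cj_mul x (cm x' y), fix (k y hy), cm_mul]
  have h3 : ∀ y ∈ Y, x * x' * cm x' y * (x * x')⁻¹ = cm x' y := fun y hy => fix ((k y hy).mul_left (q'.2 y hy))
  have h4 : ∀ y ∈ Y, x * x' * cm x y * (x * x')⁻¹ = cm x' (cm x y) * cm x y := fun y hy => by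
    rw [h2 _ (h.cm_mem q.1 hy), cm_eq_one.2 (q.2 y hy), one_mul]
  have hs := mul_mem q.1 q'.1
  have h5 := h.quad ab hs (h.nine hs fun y hy => by
    have m1 := h.cm_mem q.1 hy
    have m2 := h.cm_mem q'.1 hy
    have m3 := h.cm_mem q'.1 m1
    have k1 := h2 y hy
    have k2 := h3 y hy
    have k3 := h4 y hy
    have k4 := h3 _ m1
    generalize x * x' = s at k1 k2 k3 k4
    rw [show s ^ 3 * y * (s ^ 3)⁻¹ = s * (s * (s * y * s⁻¹) * s⁻¹) * s⁻¹ by simp only [pow_three]; group]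
    generalize cm x' (cm x y) = w at *
    generalize cm x y = u at *
    generalize cm x' y = v at *
    rw [k1, cj_mul s v, cj_mul s u, k1, k2, k3, cj_mul s v, cj_mul s (w * u), cj_mul s w, cj_mul s v, cj_mul s u, k1, k2, k3, k4]
    calc _ = w ^ 3 * (v ^ 3 * (u ^ 3 * y)) := by
          simp only [pow_three, mul_assoc, (ab v m2 w m3).left_comm, (ab u m1 w m3).left_comm, (ab u m1 v m2).left_comm]
      _ = y := by rw [h.cub m1, h.cub m2, h.cub m3, one_mul, one_mul, one_mul])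
  intro y hy
  have h6 := fix (h5.2 y hy)
  rw [cm, h2 y hy, ← mul_assoc (cm x' y), mul_inv_cancel_right, cj_mul (x * x') (cm x' y), h3 y hy, h4 y hy, mul_right_inj,
    mul_eq_right] at h6
  exact cm_eq_one.1 h6

/-- **transvections with a common centre** -/
theorem tv1 {x₁ x₂ : G} (hz : z ∈ Y) (a1 : x₁ ∈ A) (a2 : x₂ ∈ A) (c1 : Commute x₁ z) (c2 : Commute x₂ z)
    (k1 : ∀ y ∈ Y, cm x₁ y = 1 ∨ cm x₁ y = z ∨ cm x₁ y = z⁻¹) (k2 : ∀ y ∈ Y, cm x₂ y = 1 ∨ cm x₂ y = z ∨ cm x₂ y = z⁻¹)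
    (n : x₁ ∉ Y ∧ x₂ ∉ Y ∧ x₁ * x₂ ∉ Y ∧ x₁ * x₂⁻¹ ∉ Y) : False := by
  have z3 := h.cub hz
  have cz : ∀ {x w}, Commute x z → w ∈ zpowers z → Commute x w := by
    rintro x _ k ⟨i, rfl⟩
    exact k.zpow_right i
  have mz : ∀ {w}, w = 1 ∨ w = z ∨ w = z⁻¹ → w ∈ zpowers z := by
    rintro _ (rfl | rfl | rfl)
    exacts [one_mem _, mem_zpowers _, inv_mem (mem_zpowers _)]
  have e1 : ∀ y ∈ Y, cm (x₁ * x₂) y = cm x₂ y * cm x₁ y := fun y hy => by rw [cm_left, fix (cz c1 (mz (k2 y hy)))]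
  have e2 : ∀ y ∈ Y, cm (x₁ * x₂⁻¹) y = (cm x₂ y)⁻¹ * cm x₁ y := fun y hy => by
    rw [cm_left, cm_inv, fix (cz c2 (mz (k2 y hy))).inv_inv, fix (cz c1 (mz (k2 y hy))).inv_right]
  refine n.1 (h.rad' a1 fun g hg y hy => cz ?_ (mz (k1 y hy)))
  have hz' := h.nrm g hg z hz
  have key : ∀ x ∈ A, x ∉ Y → Commute x z → (∀ y ∈ Y, cm x y ∈ zpowers z) → cm x (g * z * g⁻¹) = 1 →
      Commute (g * x₁ * g⁻¹) z := fun x m1 m2 m3 m4 m5 => by
    have m6 : ∀ {u}, Commute u (g * z * g⁻¹) → ∀ y ∈ Y, Commute u (cm (g * x₁ * g⁻¹) y) := fun {u} k =>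
      h.conj_all hg fun y hy => by
        rw [cm_conj]
        rcases k1 y hy with e | e | e <;> rw [e]
        exacts [by simp, k, cj_inv g z ▸ k.inv_right]
    have m7 := h.sym ab ⟨m1, fun y hy => cz m3 (m4 y hy)⟩ ⟨mul_mem (mul_mem hg a1) (inv_mem hg), m6 (cjc c1 g)⟩
      (m6 (cm_eq_one.1 m5))
    by_contra m8
    refine m2 (h.cen x fun y hy => cm_eq_one.1 ?_)
    obtain ⟨i, hi⟩ := m4 y hy
    have m9 := m7 y hy
    simp only at hi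
    rw [← hi, zpow_eq_zpow_emod' i z3] at m9 ⊢
    obtain e | e | e : i % (3 : ℕ) = 0 ∨ i % (3 : ℕ) = 1 ∨ i % (3 : ℕ) = 2 := by omega
    · rw [e, zpow_zero]
    · exact absurd (by rwa [e, zpow_one] at m9) m8
    · rw [e] at m9
      refine absurd ?_ m8
      have := m9.mul_right m9
      rwa [← zpow_add, show (2 + 2 : ℤ) = (3 : ℕ) + 1 by norm_num, zpow_add_one, zpow_natCast, z3, one_mul] at this
  have t3 := key _ (mul_mem a1 a2) n.2.2.1 (c1.mul_left c2) fun y hy => e1 y hy ▸ mul_mem (mz (k2 y hy)) (mz (k1 y hy))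
  have t4 := key _ (mul_mem a1 (inv_mem a2)) n.2.2.2 (c1.mul_left c2.inv_left)
    fun y hy => e2 y hy ▸ mul_mem (inv_mem (mz (k2 y hy))) (mz (k1 y hy))
  rw [e1 _ hz'] at t3
  rw [e2 _ hz'] at t4
  rcases k1 _ hz' with e | e | e
  · exact key _ a1 n.1 c1 (fun y hy => mz (k1 y hy)) e
  all_goals rcases k2 _ hz' with f | f | f
  exacts [key _ a2 n.2.1 c2 (fun y hy => mz (k2 y hy)) f, t4 (by rw [e, f, inv_mul_cancel]), t3 (by rw [e, f, inv_mul_cancel]),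
    key _ a2 n.2.1 c2 (fun y hy => mz (k2 y hy)) f, t3 (by rw [e, f, mul_inv_cancel]), t4 (by rw [e, f, inv_mul_cancel])]

/-- **transvections with a common axis** -/
theorem tv2 {x₁ x₂ y₀ : G} {C : Subgroup G} (hy : y₀ ∈ Y) (a1 : x₁ ∈ A) (a2 : x₂ ∈ A) (c1 : ∀ c ∈ C, Commute x₁ c)
    (c2 : ∀ c ∈ C, Commute x₂ c) (hC : ∀ y ∈ Y, y ∈ C ∨ y * y₀⁻¹ ∈ C ∨ y * y₀ ∈ C) (k1 : cm x₁ y₀ ∈ C) (k2 : cm x₂ y₀ ∈ C)
    (n : x₁ ∉ Y ∧ x₂ ∉ Y ∧ x₁ * x₂ ∉ Y ∧ x₁ * x₂⁻¹ ∉ Y) : False := by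
  have cy : ∀ x ∈ A, (∀ c ∈ C, Commute x c) → ∀ y ∈ Y, cm x y = 1 ∧ y ∈ C ∨ cm x y = cm x y₀ ∨ cm x y = (cm x y₀)⁻¹ :=
    fun x m1 m2 y k => by
      have m3 := ab _ k _ (h.cm_mem m1 hy)
      refine (hC y k).imp (fun e => ⟨cm_eq_one.2 (m2 y e), e⟩) (Or.imp (fun e => ?_) fun e => ?_)
      · have m4 := cm_right x (y * y₀⁻¹) y₀
        rwa [inv_mul_cancel_right, cm_eq_one.2 (m2 _ e), one_mul,
          fix (ab _ (mul_mem k (inv_mem hy)) _ (h.cm_mem m1 hy))] at m4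
      · have m4 := cm_right x y y₀
        rw [cm_eq_one.2 (m2 _ e), fix m3] at m4
        exact eq_inv_of_mul_eq_one_left m4.symm
  have cz : ∀ x ∈ A, (∀ c ∈ C, Commute x c) → ∀ u, Commute u (cm x y₀) → ∀ y ∈ Y, Commute u (cm x y) :=
    fun x m1 m2 u m3 y k => by
      rcases cy x m1 m2 y k with e | e | e
      exacts [e.1 ▸ Commute.one_right u, e ▸ m3, e ▸ m3.inv_right]
  have e1 : cm (x₁ * x₂) y₀ = cm x₂ y₀ * cm x₁ y₀ := by rw [cm_left, fix (c1 _ k2)]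
  have e2 : cm (x₁ * x₂⁻¹) y₀ = (cm x₂ y₀)⁻¹ * cm x₁ y₀ := by rw [cm_left, cm_inv, fix (c2 _ k2).inv_inv, fix (c1 _ k2).inv_right]
  refine n.1 (h.rad' a1 fun g hg y k => ?_)
  have key : ∀ x ∈ A, x ∉ Y → (∀ c ∈ C, Commute x c) → cm x y₀ ∈ C → g * cm x y₀ * g⁻¹ ∈ C →
      Commute (g * x₁ * g⁻¹) (cm x₁ y) := fun x m1 m2 m3 m4 m5 => by
    have m6 := h.sym ab ⟨a1, cz _ a1 c1 _ (c1 _ k1)⟩ (x' := g * x * g⁻¹) ⟨mul_mem (mul_mem hg m1) (inv_mem hg),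
      h.conj_all hg fun y k => cm_conj g x y ▸ cjc (cz x m1 m3 _ (m3 _ m4) y k) g⟩ (h.conj_all hg fun y k => by
        have := cjc (cz x m1 m3 (g⁻¹ * x₁ * g⁻¹⁻¹) (by simpa [mul_assoc] using cjc (c1 _ m5) g⁻¹) y k) g
        rwa [back, ← cm_conj] at this) y k
    have m7 := h.nrm _ (inv_mem hg) _ (h.cm_mem a1 k)
    have m8 : cm x (g⁻¹ * cm x₁ y * g⁻¹⁻¹) = 1 := cm_eq_one.2 (by simpa [mul_assoc] using cjc m6 g⁻¹)
    have m9 : cm x y₀ ≠ 1 := fun e => m2 (h.cen x fun y k => cm_eq_one.1 (by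
      rcases cy x m1 m3 y k with f | f | f
      exacts [f.1, f.trans e, by rw [f, e, inv_one]]))
    rcases cy x m1 m3 _ m7 with e | e | e
    · exact back g (cm x₁ y) ▸ cjc (c1 _ e.2) g
    · exact absurd (e.symm.trans m8) m9
    · exact absurd (inv_eq_one.1 (e.symm.trans m8)) m9
  have t3 := key _ (mul_mem a1 a2) n.2.2.1 (fun c hc => (c1 c hc).mul_left (c2 c hc)) (e1 ▸ mul_mem k2 k1)
  have t4 := key _ (mul_mem a1 (inv_mem a2)) n.2.2.2 (fun c hc => (c1 c hc).mul_left (c2 c hc).inv_left)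
    (e2 ▸ mul_mem (inv_mem k2) k1)
  rw [e1, cj_mul g (cm x₂ y₀)] at t3
  rw [e2, cj_mul g (cm x₂ y₀)⁻¹, cj_inv g] at t4
  have m1 := h.nrm g hg _ (h.cm_mem a1 hy)
  have m2 := h.nrm g hg _ (h.cm_mem a2 hy)
  have t1 := key _ a1 n.1 c1 k1
  have t2 := key _ a2 n.2.1 c2 k2
  generalize g * cm x₁ y₀ * g⁻¹ = u at *
  generalize g * cm x₂ y₀ * g⁻¹ = v at *
  have f1 : ∀ w ∈ Y, v * w⁻¹ ∈ C → u * w ∈ C → v * u ∈ C := fun w hw e f => by
    have := mul_mem e f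
    rwa [(ab u m1 w hw).eq, mul_assoc, inv_mul_cancel_left] at this
  have f2 : ∀ w ∈ Y, v * w ∈ C → u * w ∈ C → v⁻¹ * u ∈ C := fun w hw e f => by
    have := mul_mem (inv_mem e) f
    rwa [(ab u m1 w hw).eq, (ab v m2 w hw).eq, mul_inv_rev, mul_assoc, inv_mul_cancel_left] at this
  rcases hC u m1 with e | e | e
  · exact t1 e
  all_goals rcases hC v m2 with f | f | f
  exacts [t2 f, t4 (f2 _ (inv_mem hy) f e), t3 (f1 _ (inv_mem hy) (by rwa [inv_inv]) e), t2 f, t3 (f1 _ hy f e),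
    t4 (f2 _ hy f e)]

end Cr

end Cfsg.Agent.N2.Sp4.CoT

private theorem dce_15bd4e30937d : _root_.True := by
  try have : _root_.True := by simp only [_root_.Cfsg.Agent.N2.Sp4.CoT.cm.eq_1]
  exact _root_.True.intro
end

-- part: N2/Sp4/Co1M
section
set_option linter.all false
open scoped Cfsg.Agent.FastGrp

/-!
# S3519, `Co1`, `p = 3`: the Sylow subgroup (helper15)
-/

set_option autoImplicit false
set_option synthInstance.maxSize 1000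
set_option synthInstance.maxHeartbeats 200000

namespace Cfsg.Agent.N2.Sp4.CoT

open Subgroup Cfsg.Agent.H776.Co Cfsg.Agent.H776.Co.P

/-- the facts on the subgroup of the model -/
structure Md (Y : Subgroup P) : Prop where
  cen : ∀ x, (∀ y ∈ Y, cm x y = 1) → x ∈ Y
  cube : ∀ x, (∀ y ∈ Y, cm x y ∈ Y) → x ^ 3 = 1
  radZ : ∀ x, (∀ y ∈ Y, ∀ y' ∈ Y, cm (cm x y) y' = 1) → (∀ z ∈ Y, (∀ y ∈ Y, Commute z y) → cm x z = 1) → x ∈ Y
  radC : ∀ x, ∀ a ∈ Y, ∀ b ∈ Y, (∀ y ∈ Y, cm x y ∈ zpowers (cm a b)) → (∀ a ∈ Y, ∀ b ∈ Y, cm x (cm a b) = 1) → x ∈ Y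
  tv1 : (∀ a ∈ Y, ∀ b ∈ Y, Commute a b) → ∀ x₁ x₂, ∀ z ∈ Y, Commute x₁ z → Commute x₂ z →
    (∀ y ∈ Y, cm x₁ y = 1 ∨ cm x₁ y = z ∨ cm x₁ y = z⁻¹) → (∀ y ∈ Y, cm x₂ y = 1 ∨ cm x₂ y = z ∨ cm x₂ y = z⁻¹) →
    x₁ ∉ Y ∧ x₂ ∉ Y ∧ x₁ * x₂ ∉ Y ∧ x₁ * x₂⁻¹ ∉ Y → False
  tv2 : (∀ a ∈ Y, ∀ b ∈ Y, Commute a b) → ∀ x₁ ∈ A, ∀ x₂ ∈ A, ∀ y₀ ∈ Y, (∀ y ∈ Y, cm x₁ y ∈ Y) → (∀ y ∈ Y, cm x₂ y ∈ Y) →
    (∀ y ∈ Y, y ∈ A ∨ y * y₀⁻¹ ∈ A ∨ y * y₀ ∈ A) → x₁ ∉ Y ∧ x₂ ∉ Y ∧ x₁ * x₂ ∉ Y ∧ x₁ * x₂⁻¹ ∉ Y → False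

/-- the elements of `3 ^ 6` -/
abbrev j (p q r s t u : ZMod 3) : P := ⟨0, 0, 0, p, q, r, s, t, u⟩

theorem cm_of {G : Type*} [Group G] {x y d : G} (h : x * y = d * (y * x)) : cm x y = d := by rw [cm, h]; group

theorem cm_j (p q r s t u : ZMod 3) (y : P) : cm (j p q r s t u) y =
    j (-(2 * y.a * q + 2 * y.c * s + y.a ^ 2 * r + 2 * y.a * y.c * t + y.c ^ 2 * u))
      (-(y.a * r + y.c * t + y.b * (s + y.a * t + y.c * u))) (-(2 * y.b * t + y.b ^ 2 * u)) (-(y.a * t + y.c * u))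
      (-(y.b * u)) 0 := cm_of (by ext <;> simp only [_root_.Cfsg.Agent.H776.Co.P.mul_a, _root_.zero_add, _root_.neg_add_rev, _root_.add_zero, _root_.Cfsg.Agent.H776.Co.P.mul_b, _root_.Cfsg.Agent.H776.Co.P.mul_c, _root_.MulZeroClass.zero_mul, _root_.MulZeroClass.mul_zero, _root_.Cfsg.Agent.H776.Co.P.mul_m11, _root_.ne_eq, _root_.OfNat.ofNat_ne_zero, _root_.not_false_eq_true, _root_.zero_pow, _root_.Cfsg.Agent.H776.Co.P.mul_m12, _root_.Cfsg.Agent.H776.Co.P.mul_m13, _root_.Cfsg.Agent.H776.Co.P.mul_m22, _root_.Cfsg.Agent.H776.Co.P.mul_m23, _root_.Cfsg.Agent.H776.Co.P.mul_m33] <;> ring)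

theorem conj_j (p q r s t u : ZMod 3) (y : P) : y * j p q r s t u * y⁻¹ =
    j (p + 2 * y.a * q + 2 * y.c * s + y.a ^ 2 * r + 2 * y.a * y.c * t + y.c ^ 2 * u)
      (q + y.a * r + y.c * t + y.b * (s + y.a * t + y.c * u)) (r + 2 * y.b * t + y.b ^ 2 * u) (s + y.a * t + y.c * u)
      (t + y.b * u) u := mul_inv_eq_iff_eq_mul.2 (by ext <;> simp only [_root_.Cfsg.Agent.H776.Co.P.mul_a, _root_.add_zero, _root_.zero_add, _root_.Cfsg.Agent.H776.Co.P.mul_b, _root_.Cfsg.Agent.H776.Co.P.mul_c, _root_.MulZeroClass.mul_zero, _root_.MulZeroClass.zero_mul, _root_.Cfsg.Agent.H776.Co.P.mul_m11, _root_.ne_eq, _root_.OfNat.ofNat_ne_zero, _root_.not_false_eq_true, _root_.zero_pow, _root_.Cfsg.Agent.H776.Co.P.mul_m12, _root_.Cfsg.Agent.H776.Co.P.mul_m22, _root_.Cfsg.Agent.H776.Co.P.mul_m13, _root_.Cfsg.Agent.H776.Co.P.mul_m23, _root_.Cfsg.Agent.H776.Co.P.mul_m33] <;> ring)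

theorem commA {x y : P} (hx : x ∈ A) (hy : y ∈ A) : Commute x y := by
  obtain ⟨h1, h2, h3⟩ := hx
  obtain ⟨h4, h5, h6⟩ := hy
  show x * y = y * x
  ext <;> simp [h1, h2, h3, h4, h5, h6, add_comm]

theorem cmA {x : P} (hx : x ∈ A) (y : P) : cm x y ∈ A := by
  obtain ⟨h1, h2, h3⟩ := hx
  refine ⟨?_, ?_, ?_⟩ <;> simp only [cm, h1, h2, h3, _root_.Cfsg.Agent.H776.Co.P.mul_a, _root_.zero_add, _root_.Cfsg.Agent.H776.Co.P.inv_a, _root_.neg_zero, _root_.add_zero, _root_.add_neg_cancel, _root_.Cfsg.Agent.H776.Co.P.mul_b, _root_.Cfsg.Agent.H776.Co.P.inv_b, _root_.Cfsg.Agent.H776.Co.P.mul_c, _root_.MulZeroClass.zero_mul, _root_.Cfsg.Agent.H776.Co.P.inv_c, _root_.MulZeroClass.mul_zero, _root_.add_neg_cancel_left, _root_.mul_neg]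

theorem c33 {y : P} (ha : y.a = 0) (h : y ^ 3 = 1) : y.b = 0 ∧ y.c = 0 ∨ y.m33 = 0 := by
  have h1 := congrArg P.m11 h
  have h2 := congrArg P.m22 h
  obtain ⟨a, b, c, p, q, r, s, t, u⟩ := y
  simp only at ha
  simp only [pow_three, mul_m11, mul_m12, mul_m13, mul_m22, mul_m23, mul_m33, one_m11, one_m22, ha, mul_zero, zero_mul,
    add_zero, pow_two] at h1 h2 ⊢
  clear h
  revert b c p r s t u
  (refine of_decide_eq_true ?_; (try (rewrite [Cfsg.Agent.LsF.zadd_pat, Cfsg.Agent.LsF.zmul_pat, Cfsg.Agent.LsF.zdecEq_eq, Cfsg.Agent.LsF.zFintype_eq, Cfsg.Agent.LsF.dForall_eq, Cfsg.Agent.LsF.dAnd_eq, Cfsg.Agent.LsF.dOr_eq, Cfsg.Agent.LsF.dAllP_eq, Cfsg.Agent.LsF.decide_eq])); decide +kernel)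

section tr

variable {G : Type*} [Group G] {B Y : Subgroup G}

theorem map_cm (ι : P →* G) (x y : P) : ι (cm x y) = cm (ι x) (ι y) := by simp only [cm, _root_.map_mul, _root_.map_inv]

theorem md_of (h : Cr B Y) (ι : P →* G) (hi : Function.Injective ι) (hY : Y ≤ ι.range) : Md (Y.comap ι) := by
  have all : ∀ {p : G → Prop}, (∀ y ∈ Y.comap ι, p (ι y)) → ∀ y ∈ Y, p y := fun k y hy => by
    obtain ⟨y, rfl⟩ := hY hy
    exact k y hy
  have one : ∀ {x y}, cm x y = 1 → Commute (ι x) (ι y) := fun k => (cm_eq_one.1 k).map ι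
  have mem : ∀ {x}, (∀ y ∈ Y.comap ι, cm x y ∈ Y.comap ι) → ι x ∈ B := fun {x} k =>
    h.full _ (all fun y hy => by rw [← cm_mul, ← map_cm]; exact mul_mem (k y hy) hy)
  have cen : ∀ x, (∀ y ∈ Y.comap ι, cm x y = 1) → x ∈ Y.comap ι := fun x k => h.cen _ (all fun y hy => one (k y hy))
  have ab : (∀ a ∈ Y.comap ι, ∀ b ∈ Y.comap ι, Commute a b) → ∀ a ∈ Y, ∀ b ∈ Y, Commute a b := fun k =>
    all fun a ha => all fun b hb => (k a ha b hb).map ι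
  have ne : ∀ {x₁ x₂}, x₁ ∉ Y.comap ι ∧ x₂ ∉ Y.comap ι ∧ x₁ * x₂ ∉ Y.comap ι ∧ x₁ * x₂⁻¹ ∉ Y.comap ι →
      ι x₁ ∉ Y ∧ ι x₂ ∉ Y ∧ ι x₁ * ι x₂ ∉ Y ∧ ι x₁ * (ι x₂)⁻¹ ∉ Y := fun k => by simpa only [_root_.Subgroup.mem_comap, _root_.map_mul, _root_.map_inv] using k
  refine ⟨cen, fun x k => hi ?_, fun x k1 k2 => ?_, fun x a ha b hb k1 k2 => ?_, fun k0 x₁ x₂ z hz c1 c2 k1 k2 n => ?_,
    fun k0 x₁ a1 x₂ a2 y₀ hy k1 k2 k3 n => ?_⟩
  · obtain ⟨n, hn⟩ := isPGroup_P x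
    rw [map_pow, map_one]
    exact h.cube _ (mem k) n (by rw [← map_pow, hn, map_one])
  · have k3 := fun y hy => cen _ (k1 y hy)
    refine h.rad (W := Y ⊓ centralizer Y) (fun s hs w hw => ⟨h.nrm s hs w hw.1, mem_centralizer_iff.2
      (h.conj_all hs fun y hy => cjc (mem_centralizer_iff.1 hw.2 y hy) s)⟩) (mem k3)
      (all fun y hy => map_cm ι x y ▸ ⟨k3 y hy, mem_centralizer_iff.2 (all fun u hu => (one (k1 y hy u hu)).symm)⟩)
      fun w hw => ?_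
    obtain ⟨w, rfl⟩ := hY hw.1
    exact one (k2 w hw.1 fun y hy => Commute.of_map hi (Eq.symm (mem_centralizer_iff.1 hw.2 _ hy)))
  · have k3 : cm a b ∈ Y.comap ι := mul_mem (mul_mem (mul_mem ha hb) (inv_mem ha)) (inv_mem hb)
    refine h.rad (W := closure {w | ∃ a ∈ Y, ∃ b ∈ Y, w = cm a b})
      (fun s hs w hw => mem_comap.1 ((closure_le (Subgroup.comap (MulAut.conj s).toMonoidHom (closure _))).2 ?_ hw))
      (mem fun y hy => zpowers_le.2 k3 (k1 y hy)) (all fun y hy => ?_)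
      fun w hw => (mem_centralizer_singleton_iff.1 ((closure_le (centralizer {ι x})).2 ?_ hw)).symm
    · rintro _ ⟨a, ha, b, hb, rfl⟩
      exact subset_closure ⟨_, h.nrm s hs a ha, _, h.nrm s hs b hb, (cm_conj s a b).symm⟩
    · obtain ⟨i, e⟩ := k1 y hy
      rw [← map_cm, ← e, map_zpow, map_cm]
      exact zpow_mem (subset_closure (by exact ⟨_, ha, _, hb, rfl⟩)) i
    · rintro _ ⟨a, ha, b, hb, rfl⟩
      obtain ⟨a, rfl⟩ := hY ha
      obtain ⟨b, rfl⟩ := hY hb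
      exact mem_centralizer_singleton_iff.2 (map_cm ι a b ▸ (one (k2 a ha b hb)).symm)
  · have k3 : ∀ {x}, (∀ y ∈ Y.comap ι, cm x y = 1 ∨ cm x y = z ∨ cm x y = z⁻¹) → ι x ∈ B ∧ ∀ y ∈ Y, cm (ι x) y = 1 ∨
        cm (ι x) y = ι z ∨ cm (ι x) y = (ι z)⁻¹ := fun {x} k => ⟨mem fun y hy => by
      rcases k y hy with e | e | e <;> rw [e]
      exacts [one_mem _, hz, inv_mem hz], all fun y hy => by
        rw [← map_cm]
        rcases k y hy with e | e | e <;> simp [e]⟩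
    exact h.tv1 (ab k0) hz (k3 k1).1 (k3 k2).1 (c1.map ι) (c2.map ι) (k3 k1).2 (k3 k2).2 (ne n)
  · have k4 : ∀ x ∈ A, ∀ c ∈ A.map ι, Commute (ι x) c := by
      rintro x hx _ ⟨c, hc, rfl⟩
      exact (commA hx hc).map ι
    refine h.tv2 (ab k0) (C := A.map ι) hy (mem k1) (mem k2) (k4 _ a1) (k4 _ a2) (all fun y hy => ?_)
      ⟨_, cmA a1 _, map_cm ι _ _⟩ ⟨_, cmA a2 _, map_cm ι _ _⟩ (ne n)
    exact (k3 y hy).imp (fun e => ⟨_, e, rfl⟩) (Or.imp (fun e => ⟨_, e, by simp⟩) fun e => ⟨_, e, by simp⟩)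

end tr

namespace Md

variable {Y : Subgroup P} (h : Md Y) {x y : P}
include h

theorem cub (hy : y ∈ Y) : y ^ 3 = 1 :=
  h.cube y fun _ hu => mul_mem (mul_mem (mul_mem hy hu) (inv_mem hy)) (inv_mem hu)

theorem sum3 (k : ∀ y ∈ Y, cm x y ∈ Y) (hy : y ∈ Y) : x * (y * x * y⁻¹) * (y * (y * x * y⁻¹) * y⁻¹) = 1 := by
  have h1 := h.cube (x * y) fun u hu => by
    rw [show cm (x * y) u = cm x (y * u * y⁻¹) * (y * u * y⁻¹) * u⁻¹ by simp only [cm]; group]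
    have := mul_mem (mul_mem hy hu) (inv_mem hy)
    exact mul_mem (mul_mem (k _ this) this) (inv_mem hu)
  rwa [show (x * y) ^ 3 = x * (y * x * y⁻¹) * (y * (y * x * y⁻¹) * y⁻¹) * y ^ 3 by simp only [pow_three]; group, h.cub hy,
    mul_one] at h1

theorem z_mem (p : ZMod 3) : j p 0 0 0 0 0 ∈ Y := h.cen _ fun y _ => by rw [cm_j]; simp [one_def]

/-- the cyclic case -/
theorem cyc {y₀ x₁ x₂ : P} (hy : y₀ ∈ Y) (hc : ∀ y ∈ Y, Commute y₀ y) (k : ∀ y ∈ Y, y ∈ A ∨ y * y₀⁻¹ ∈ A ∨ y * y₀ ∈ A)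
    (a1 : x₁ ∈ A) (a2 : x₂ ∈ A) (k1 : cm (cm x₁ y₀) y₀ = 1) (k2 : cm (cm x₂ y₀) y₀ = 1)
    (n : cm x₁ y₀ ≠ 1 ∧ cm x₂ y₀ ≠ 1 ∧ cm (x₁ * x₂) y₀ ≠ 1 ∧ cm (x₁ * x₂⁻¹) y₀ ≠ 1) : False := by
  have h1 : ∀ S : Subgroup P, y₀ ∈ S → (∀ y ∈ Y, y ∈ A → y ∈ S) → ∀ y ∈ Y, y ∈ S := fun S k3 k4 y k5 => by
    rcases k y k5 with e | e | e
    exacts [k4 y k5 e, (mul_mem_cancel_right (inv_mem k3)).1 (k4 _ (mul_mem k5 (inv_mem hy)) e),
      (mul_mem_cancel_right k3).1 (k4 _ (mul_mem k5 hy) e)]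
  have h2 : ∀ x ∈ A, Commute y₀ x → ∀ y ∈ Y, Commute y x := fun x k3 k4 y k5 => mem_centralizer_singleton_iff.1
    (h1 (centralizer {x}) (mem_centralizer_singleton_iff.2 k4)
      (fun u _ k6 => mem_centralizer_singleton_iff.2 (commA k6 k3)) y k5)
  have h3 : ∀ x ∈ A, cm (cm x y₀) y₀ = 1 → ∀ y ∈ Y, cm x y ∈ Y := fun x k3 k4 y k5 =>
    mul_mem (h1 (Y.comap (MulAut.conj x).toMonoidHom) (show x * y₀ * x⁻¹ ∈ Y from cm_mul x y₀ ▸ mul_mem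
      (h.cen _ fun u hu => cm_eq_one.2 (h2 _ (cmA k3 _) (cm_eq_one.1 k4).symm u hu).symm) hy)
      (fun u k6 k7 => show x * u * x⁻¹ ∈ Y by rwa [fix (commA k3 k7)]) y k5) (inv_mem k5)
  have h4 : ∀ {x}, cm x y₀ ≠ 1 → x ∉ Y := fun k3 k4 => k3 (cm_eq_one.2 (hc _ k4).symm)
  exact h.tv2 (fun a ha b hb => mem_centralizer_singleton_iff.1 (h1 (centralizer {b})
    (mem_centralizer_singleton_iff.2 (hc b hb)) (fun u k3 k4 => mem_centralizer_singleton_iff.2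
      (h2 u k4 (hc u k3) b hb).symm) a ha)) _ a1 _ a2 _ hy (h3 _ a1 k1) (h3 _ a2 k2) k ⟨h4 n.1, h4 n.2.1, h4 n.2.2.1, h4 n.2.2.2⟩

theorem one (h1 : y ∈ Y) (h2 : y.a ≠ 0) : False := by
  have n12 : ∀ p q, j p q 0 0 0 0 ∈ Y → q = 0 := fun p q k => by
    by_contra k1
    have k2 := h.sum3 (x := j 0 0 1 0 0 0) (fun u _ => by
      rw [cm_j]
      simp only [mul_zero, add_zero, neg_zero]
      obtain ⟨i, r, e⟩ := (by decide +kernel : ∀ p q p' q' : ZMod 3, q ≠ 0 → ∃ (i : Fin 3) (r : ZMod 3),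
        j p' q' 0 0 0 0 = j p q 0 0 0 0 ^ i.1 * j r 0 0 0 0 0) p q _ _ k1
      exact e ▸ mul_mem (pow_mem k _) (h.z_mem r)) h1
    rw [conj_j, conj_j] at k2
    generalize y.a = a, y.b = b, y.c = c at k2 h2
    revert a b c
    decide +kernel
  have n1 : j 0 1 0 0 0 0 ∉ Y := fun k => absurd (n12 _ _ k) (by decide)
  have e1 : ∀ u : P, cm (j 0 1 0 0 0 0) u = j (-(2 * u.a)) 0 0 0 0 0 := fun u => by rw [cm_j]; simp
  obtain ⟨y₀, hy, hc, ha⟩ : ∃ y₀ ∈ Y, (∀ y ∈ Y, Commute y₀ y) ∧ y₀.a ≠ 0 := by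
    by_contra! k
    exact n1 (h.radZ _ (fun u _ v _ => by rw [e1, cm_j]; simp [one_def]) fun u hu k1 => by rw [e1, k u hu k1]; rfl)
  have hb : ∀ u ∈ Y, y₀.a * u.b = u.a * y₀.b := fun u hu => by
    have := congrArg P.c (hc u hu).eq
    simp only [mul_c] at this
    linear_combination this
  have dec : ∀ u ∈ Y, ∃ v ∈ Y, v.a = 0 ∧ v.b = 0 ∧ (v = u ∨ v = u * y₀⁻¹ ∨ v = u * y₀) := fun u hu => by
    have k : ∀ v ∈ Y, v.a = 0 → v.a = 0 ∧ v.b = 0 := fun v hv e =>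
      ⟨e, (mul_eq_zero.1 (by rw [hb v hv, e, zero_mul])).resolve_left ha⟩
    rcases (by decide : ∀ a b : ZMod 3, b ≠ 0 → a = 0 ∨ a + -b = 0 ∨ a + b = 0) u.a y₀.a ha with e | e | e
    · exact ⟨u, hu, (k u hu e).1, (k u hu e).2, Or.inl rfl⟩
    · have := mul_mem hu (inv_mem hy)
      exact ⟨_, this, (k _ this e).1, (k _ this e).2, Or.inr (Or.inl rfl)⟩
    · have := mul_mem hu hy
      exact ⟨_, this, (k _ this e).1, (k _ this e).2, Or.inr (Or.inr rfl)⟩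
  have com : ∀ u ∈ Y, ∀ v ∈ Y, ∃ p, cm u v = j p 0 0 0 0 0 := by
    have k1 : ∀ u ∈ Y, ∀ v ∈ Y, ∀ w, w = u ∨ w = u * y₀⁻¹ ∨ w = u * y₀ → cm u v = cm w v ∧ cm v u = cm v w := by
      rintro u hu v hv _ (rfl | rfl | rfl)
      · exact ⟨rfl, rfl⟩
      · simp [cm_left, cm_right, cm_eq_one.2 (hc v hv).inv_left, cm_eq_one.2 (hc v hv).symm.inv_right]
      · simp [cm_left, cm_right, cm_eq_one.2 (hc v hv), cm_eq_one.2 (hc v hv).symm]
    intro u hu v hv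
    obtain ⟨u', hu', a1, b1, e1⟩ := dec u hu
    obtain ⟨v', hv', a2, b2, e2⟩ := dec v hv
    rw [(k1 u hu v hv _ e1).1, (k1 v hv u' hu' _ e2).2]
    have k2 := c33 a1 (h.cub hu')
    have k3 := c33 a2 (h.cub hv')
    have k4 := c33 (y := u' * v') (by simp [a1, a2]) (h.cub (mul_mem hu' hv'))
    have k5 : cm u' v' = j (2 * u'.c * v'.m13 + u'.c ^ 2 * v'.m33 - 2 * v'.c * u'.m13 - v'.c ^ 2 * u'.m33)
        (u'.c * v'.m23 - v'.c * u'.m23) 0 (u'.c * v'.m33 - v'.c * u'.m33) 0 0 :=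
      cm_of (by ext <;> simp only [a1, a2, b1, b2, _root_.Cfsg.Agent.H776.Co.P.mul_a, _root_.add_zero, _root_.Cfsg.Agent.H776.Co.P.mul_b, _root_.Cfsg.Agent.H776.Co.P.mul_c, _root_.MulZeroClass.mul_zero, _root_.zero_add, _root_.Cfsg.Agent.H776.Co.P.mul_m11, _root_.MulZeroClass.zero_mul, _root_.ne_eq, _root_.OfNat.ofNat_ne_zero, _root_.not_false_eq_true, _root_.zero_pow, _root_.Cfsg.Agent.H776.Co.P.mul_m12, _root_.Cfsg.Agent.H776.Co.P.mul_m13, _root_.Cfsg.Agent.H776.Co.P.mul_m22, _root_.Cfsg.Agent.H776.Co.P.mul_m23, _root_.Cfsg.Agent.H776.Co.P.mul_m33] <;> ring)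
    have k6 : u'.c * v'.m33 - v'.c * u'.m33 = 0 := by
      simp only [mul_b, mul_c, mul_m33, a1, b1, b2, true_and, add_zero, mul_zero] at k2 k3 k4
      generalize u'.c = a, v'.c = b, u'.m33 = c, v'.m33 = d at k2 k3 k4
      revert a b c d
      decide +kernel
    rw [k6] at k5
    have k7 : cm u' v' ∈ Y := mul_mem (mul_mem (mul_mem hu' hv') (inv_mem hu')) (inv_mem hv')
    rw [k5] at k7
    rw [n12 _ _ k7] at k5
    exact ⟨_, k5⟩
  have ab : ∀ u ∈ Y, ∀ v ∈ Y, Commute u v := fun u hu v hv => by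
    by_contra k
    obtain ⟨p, e⟩ := com u hu v hv
    refine n1 (h.radC _ u hu v hv (fun w _ => ?_) fun a k1 b k2 => ?_)
    · obtain ⟨i, f⟩ := (by decide +kernel : ∀ p q : ZMod 3, j p 0 0 0 0 0 ≠ 1 → ∃ i : Fin 3,
        j q 0 0 0 0 0 = j p 0 0 0 0 0 ^ i.1) p (-(2 * w.a)) fun f => k (cm_eq_one.1 (e.trans f))
      rw [e1, e, f]
      exact npow_mem_zpowers _ _
    · obtain ⟨q, f⟩ := com a k1 b k2
      rw [f, e1]
      simp [one_def]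
  have zz : ∀ p : ZMod 3, j p 0 0 0 0 0 = 1 ∨ j p 0 0 0 0 0 = j 1 0 0 0 0 0 ∨ j p 0 0 0 0 0 = (j 1 0 0 0 0 0)⁻¹ := by
    decide +kernel
  by_cases h3 : ∃ u ∈ Y, u.a = 0 ∧ u.b = 0 ∧ u.c ≠ 0
  · obtain ⟨u, hu, k1, k2, k3⟩ := h3
    have k4 : ∀ q r s, j 0 q r s 0 0 ∈ Y → s = 0 := fun q r s k => by
      have := congrArg P.m11 (cm_eq_one.2 (ab _ k u hu))
      rw [cm_j] at this
      simpa [k1, k3, show (2 : ZMod 3) ≠ 0 by decide] using this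
    refine h.tv1 ab _ (j 0 0 (-(y₀.a * y₀.b)) 1 0 0) _ (h.z_mem 1) (commA ⟨rfl, rfl, rfl⟩ ⟨rfl, rfl, rfl⟩)
      (commA ⟨rfl, rfl, rfl⟩ ⟨rfl, rfl, rfl⟩) (fun v _ => e1 v ▸ zz _) (fun v hv => ?_)
      ⟨n1, fun k => absurd (k4 _ _ _ k) (by decide), fun k => absurd (k4 1 (-(y₀.a * y₀.b)) 1 (by convert k using 1; ext <;> simp))
        (by decide), fun k => absurd (k4 1 (y₀.a * y₀.b) (-1) (by convert k using 1; ext <;> simp)) (by decide)⟩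
    rw [cm_j]
    simp only [mul_zero, add_zero, neg_zero, mul_one]
    rw [(by decide +kernel : ∀ a b c d : ZMod 3, a ≠ 0 → a * d = c * b → -(c * -(a * b) + d) = 0) _ _ _ _ ha (hb v hv)]
    exact zz _
  · obtain ⟨r, s, t, u, k⟩ := (by decide +kernel : ∀ a b c : ZMod 3, a ≠ 0 → ∃ r s t u : ZMod 3,
      2 * a * (a * r + c * t + b * (s + a * t + c * u)) + 2 * c * (a * t + c * u) + a ^ 2 * (2 * b * t + b ^ 2 * u) +
        2 * a * c * (b * u) = 0 ∧ a * (2 * b * t + b ^ 2 * u) + c * (b * u) + b * (a * t + c * u + a * (b * u)) = 0 ∧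
        2 * b * (b * u) = 0 ∧ a * (b * u) = 0 ∧
        (a * r + c * t + b * (s + a * t + c * u) ≠ 0 ∨ a * t + c * u ≠ 0)) y₀.a y₀.b y₀.c ha
    have k5 : ∀ q e : ZMod 3, e ≠ 0 → cm (j 0 q (e * r) (e * s) (e * t) (e * u)) y₀ ≠ 1 := fun q e he f => by
      rw [cm_j] at f
      have f1 := congrArg P.m12 f
      have f2 := congrArg P.m13 f
      simp only [one_m12, one_m13] at f1 f2
      exact k.2.2.2.2.elim (fun g => mul_ne_zero he g (by linear_combination -f1))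
        fun g => mul_ne_zero he g (by linear_combination -f2)
    refine h.cyc (x₁ := j 0 1 0 0 0 0) (x₂ := j 0 0 r s t u) hy hc (fun v hv => ?_) ⟨rfl, rfl, rfl⟩ ⟨rfl, rfl, rfl⟩
      (by rw [e1, cm_j]; simp [one_def]) ?_ ⟨fun f => ha ?_, by simpa using k5 0 1 (by decide),
        by convert k5 1 1 (by decide) using 2; ext <;> simp, by convert k5 1 (-1) (by decide) using 2; ext <;> simp⟩
    · obtain ⟨w, hw, k1, k2, e⟩ := dec v hv
      have k3 : w ∈ A := ⟨k1, k2, by_contra fun f => h3 ⟨w, hw, k1, k2, f⟩⟩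
      rcases e with rfl | rfl | rfl
      exacts [Or.inl k3, Or.inr (Or.inl k3), Or.inr (Or.inr k3)]
    · rw [cm_j, cm_j]
      ext <;> simp only [one_a, one_b, one_c, one_m11, one_m12, one_m13, one_m22, one_m23, one_m33]
      exacts [by linear_combination k.1, by linear_combination k.2.1, by linear_combination k.2.2.1,
        by linear_combination k.2.2.2.1, by ring]
    · have := congrArg P.m11 ((e1 _).symm.trans f)
      simpa [show (2 : ZMod 3) ≠ 0 by decide] using this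

theorem no : False := by
  have ha : ∀ y ∈ Y, y.a = 0 := fun y hy => by_contra (h.one hy)
  have c0 : ∀ p q r, ∀ y ∈ Y, cm (j p q r 0 0 0) y = 1 := fun p q r y hy => by rw [cm_j]; simp [one_def, ha y hy]
  have nx : (⟨1, 0, 0, 0, 0, 1, 0, 0, 0⟩ : P) ^ 3 ≠ 1 := by decide +kernel
  obtain ⟨y, hy, h1⟩ : ∃ y ∈ Y, ¬ (y.b = 0 ∧ y.c = 0) := by
    by_contra! k
    refine nx (h.cube _ fun u hu => h.cen _ fun v hv => cm_eq_one.2 (commA ?_ ⟨ha v hv, k v hv⟩))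
    refine ⟨?_, ?_, ?_⟩ <;> simp only [cm, ha u hu, k u hu, _root_.Cfsg.Agent.H776.Co.P.mul_a, _root_.add_zero, _root_.Cfsg.Agent.H776.Co.P.inv_a, _root_.add_neg_cancel, _root_.neg_zero, _root_.Cfsg.Agent.H776.Co.P.mul_b, _root_.Cfsg.Agent.H776.Co.P.inv_b, _root_.Cfsg.Agent.H776.Co.P.mul_c, _root_.MulZeroClass.mul_zero, _root_.Cfsg.Agent.H776.Co.P.inv_c]
  have e1 : ∀ s t, ∀ u ∈ Y, cm (j 0 0 0 s t 0) u = j (-(2 * u.c * s)) (-(u.c * t + u.b * s)) (-(2 * u.b * t)) 0 0 0 :=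
    fun s t u hu => by rw [cm_j]; simp [ha u hu]
  obtain ⟨y₀, hy₀, hc, h2⟩ : ∃ y₀ ∈ Y, (∀ y ∈ Y, Commute y₀ y) ∧ ¬ (y₀.b = 0 ∧ y₀.c = 0) := by
    by_contra! k
    have k1 : ∀ s t, j 0 0 0 s t 0 ∈ Y := fun s t => h.radZ _ (fun u hu v hv => by rw [e1 s t u hu, c0 _ _ _ v hv])
      fun u hu k2 => cm_eq_one.2 (commA ⟨rfl, rfl, rfl⟩ ⟨ha u hu, k u hu k2⟩)
    have k2 := h.sum3 (x := j 0 0 0 0 0 1) (fun u _ => by
      rw [cm_j, show ∀ p q r s t : ZMod 3, j p q r s t 0 = j p q r 0 0 0 * j 0 0 0 s t 0 from fun _ _ _ _ _ => by ext <;> simp]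
      exact mul_mem (h.cen _ (c0 _ _ _)) (k1 _ _)) hy
    rw [conj_j, conj_j, ha y hy] at k2
    generalize y.b = b, y.c = c at k2 h1
    revert b c
    decide +kernel
  have h3 := (c33 (ha _ hy₀) (h.cub hy₀)).resolve_left h2
  have h4 : ∀ u ∈ Y, u.m33 = 0 ∧ y₀.c * u.m13 = u.c * y₀.m13 ∧ y₀.b * u.m23 = u.b * y₀.m23 ∧
      y₀.c * u.m23 + y₀.b * u.m13 = u.c * y₀.m23 + u.b * y₀.m13 := fun u hu => by
    have k := P.ext_iff.1 (hc u hu).eq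
    simp only [mul_m11, mul_m12, mul_m13, mul_m22, mul_m23, ha u hu, ha _ hy₀, h3] at k
    obtain ⟨-, -, -, k1, k2, k3, k4, k5, -⟩ := k
    have k6 : u.m33 = 0 := by_contra fun f => h2 ⟨(mul_eq_zero.1 (by linear_combination k5)).resolve_right f,
      (mul_eq_zero.1 (by linear_combination k4)).resolve_right f⟩
    rw [k6] at k1 k2 k3
    have k7 : (3 : ZMod 3) = 0 := rfl
    exact ⟨k6, by linear_combination -k1 + (y₀.c * u.m13 - u.c * y₀.m13) * k7,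
      by linear_combination -k3 + (y₀.b * u.m23 - u.b * y₀.m23) * k7, by linear_combination k2⟩
  by_cases h5 : ∃ α, y₀.m13 = α * y₀.c ∧ y₀.m23 = α * y₀.b
  · obtain ⟨α, k1, k2⟩ := h5
    have k3 : ∀ u ∈ Y, u.m13 = α * u.c ∧ u.m23 = α * u.b := fun u hu => by
      have k4 := (h4 u hu).2
      rw [k1, k2] at k4
      generalize y₀.b = a, y₀.c = b, u.b = c, u.c = d, u.m13 = e, u.m23 = f at k4 h2
      clear k1 k2
      revert α a b c d e f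
      (refine of_decide_eq_true ?_; (try (rewrite [Cfsg.Agent.LsF.zadd_pat, Cfsg.Agent.LsF.zmul_pat, Cfsg.Agent.LsF.zdecEq_eq, Cfsg.Agent.LsF.zFintype_eq, Cfsg.Agent.LsF.dForall_eq, Cfsg.Agent.LsF.dAnd_eq, Cfsg.Agent.LsF.dNot_eq, Cfsg.Agent.LsF.dAllP_eq, Cfsg.Agent.LsF.decide_eq])); decide +kernel)
    refine nx (h.cube _ fun u hu => h.cen _ fun v hv => cm_eq_one.2 ?_)
    have k4 : cm (⟨1, 0, 0, 0, 0, 1, 0, 0, 0⟩ : P) u = ⟨0, 0, u.b, (cm (⟨1, 0, 0, 0, 0, 1, 0, 0, 0⟩ : P) u).m11,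
        (cm (⟨1, 0, 0, 0, 0, 1, 0, 0, 0⟩ : P) u).m12, (cm (⟨1, 0, 0, 0, 0, 1, 0, 0, 0⟩ : P) u).m22, α * u.b, 0, 0⟩ := by
      ext <;> simp only [cm, ha u hu, k3 u hu, (h4 u hu).1, _root_.Cfsg.Agent.H776.Co.P.mul_a, _root_.add_zero, _root_.Cfsg.Agent.H776.Co.P.inv_a, _root_.add_neg_cancel, _root_.neg_zero, _root_.Cfsg.Agent.H776.Co.P.mul_b, _root_.zero_add, _root_.Cfsg.Agent.H776.Co.P.inv_b, _root_.Cfsg.Agent.H776.Co.P.mul_c, _root_.one_mul, _root_.Cfsg.Agent.H776.Co.P.inv_c, _root_.MulZeroClass.mul_zero, _root_.MulZeroClass.zero_mul, _root_.add_neg_cancel_comm, _root_.mul_neg, _root_.Cfsg.Agent.H776.Co.P.mul_m11, _root_.mul_one, _root_.one_pow, _root_.ne_eq, _root_.OfNat.ofNat_ne_zero, _root_.not_false_eq_true, _root_.zero_pow, _root_.Cfsg.Agent.H776.Co.P.inv_m11, _root_.even_two, _root_.Even.neg_pow, _root_.Cfsg.Agent.H776.Co.P.inv_m12, _root_.neg_neg, _root_.Cfsg.Agent.H776.Co.P.inv_m13,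 _root_.Cfsg.Agent.H776.Co.P.inv_m22, _root_.Cfsg.Agent.H776.Co.P.inv_m23, _root_.Cfsg.Agent.H776.Co.P.inv_m33, _root_.neg_mul, _root_.neg_add_rev, _root_.Cfsg.Agent.H776.Co.P.mul_m12, _root_.Cfsg.Agent.H776.Co.P.mul_m22, _root_.Cfsg.Agent.H776.Co.P.mul_m13, _root_.Cfsg.Agent.H776.Co.P.mul_m23, _root_.Cfsg.Agent.H776.Co.P.mul_m33]
    rw [k4]
    show _ * v = v * _
    ext <;> simp only [ha v hv, k3 v hv, (h4 v hv).1, _root_.Cfsg.Agent.H776.Co.P.mul_a, _root_.add_zero, _root_.Cfsg.Agent.H776.Co.P.mul_b, _root_.zero_add, _root_.Cfsg.Agent.H776.Co.P.mul_c, _root_.MulZeroClass.zero_mul, _root_.MulZeroClass.mul_zero, _root_.Cfsg.Agent.H776.Co.P.mul_m11, _root_.ne_eq, _root_.OfNat.ofNat_ne_zero, _root_.not_false_eq_true, _root_.zero_pow, _root_.Cfsg.Agent.H776.Co.P.mul_m12, _root_.Cfsg.Agent.H776.Co.P.mul_m22, _root_.Cfsg.Agent.H776.Co.P.mul_m13, _root_.Cfsg.Agent.H776.Co.P.mul_m23,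 _root_.Cfsg.Agent.H776.Co.P.mul_m33] <;> ring
  · have k5 : ∀ s t : ZMod 3, ¬ (s = 0 ∧ t = 0) → cm (j 0 0 0 s t 0) y₀ ≠ 1 := fun s t k => by
      rw [e1 s t _ hy₀]
      generalize y₀.b = b, y₀.c = c at h2
      revert s t b c
      decide +kernel
    refine h.cyc (x₁ := j 0 0 0 1 0 0) (x₂ := j 0 0 0 0 1 0) hy₀ hc (fun v hv => ?_) ⟨rfl, rfl, rfl⟩ ⟨rfl, rfl, rfl⟩
      (by rw [e1 _ _ _ hy₀, c0 _ _ _ _ hy₀]) (by rw [e1 _ _ _ hy₀, c0 _ _ _ _ hy₀])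
      ⟨k5 _ _ (by decide), k5 _ _ (by decide), k5 1 1 (by decide), k5 1 (-1) (by decide)⟩
    have k4 := (h4 v hv).2
    have k6 : (v.b = 0 ∧ v.c = 0) ∨ (v.b + -y₀.b = 0 ∧ v.c + -y₀.c = 0) ∨ (v.b + y₀.b = 0 ∧ v.c + y₀.c = 0) := by
      generalize y₀.b = a, y₀.c = b, v.b = c, v.c = d, v.m13 = e, v.m23 = f, y₀.m13 = g, y₀.m23 = i at k4 h2 h5
      revert a b c d e f g i
      (refine of_decide_eq_true ?_; (try (rewrite [Cfsg.Agent.LsF.zadd_pat, Cfsg.Agent.LsF.zmul_pat, Cfsg.Agent.LsF.zneg_pat, Cfsg.Agent.LsF.zdecEq_eq, Cfsg.Agent.LsF.zFintype_eq, Cfsg.Agent.LsF.dForall_eq, Cfsg.Agent.LsF.dExists_eq, Cfsg.Agent.LsF.dAnd_eq, Cfsg.Agent.LsF.dOr_eq, Cfsg.Agent.LsF.dNot_eq, Cfsg.Agent.LsF.dAllP_eq, Cfsg.Agent.LsF.decide_eq])); decide +kernel)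
    exact k6.imp (fun e => ⟨ha v hv, e⟩) (Or.imp (fun e => ⟨by simp [ha v hv, ha _ hy₀], e.1, by simpa only [ha v hv, ha _ hy₀, _root_.Cfsg.Agent.H776.Co.P.mul_c, _root_.Cfsg.Agent.H776.Co.P.inv_c, _root_.MulZeroClass.zero_mul, _root_.add_zero, _root_.Cfsg.Agent.H776.Co.P.inv_b, _root_.mul_neg, _root_.neg_zero] using e.2⟩)
      fun e => ⟨by simp [ha v hv, ha _ hy₀], e.1, by simpa [ha v hv] using e.2⟩)

end Md

end Cfsg.Agent.N2.Sp4.CoT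
end
end
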