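import Cfsg.Agent.H800.Co.C7_mg
import Cfsg.Agent.S3083
import Mathlib
import Cfsg.Prelude.Def_Local
import Cfsg.Agent.Lib.NormalAbelian
import Cfsg.Agent.SignalizersComponents.CompBasic
import Cfsg.Agent.H776.Co.Lin_m3
import Mathlib.GroupTheory.PGroup
import Mathlib.GroupTheory.Sylow
import Mathlib.Tactic
import Cfsg.Agent.H482.SylowNumbers
import Cfsg.Agent.S5116
import Cfsg.Agent.H410.Co1.MoveA_m3
import Cfsg.Agent.H341.ThreeList_m3
import Cfsg.Agent.OrdDiv.Table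
import Cfsg.Agent.S0000
import Cfsg.Agent.S5303
import Mathlib.LinearAlgebra.Matrix.GeneralLinearGroup.Card
import Mathlib.Tactic.LinearCombination
import Cfsg.Agent.H184.FusBad
import Cfsg.Agent.H802.FusNorm
import Cfsg.Agent.H765.Ess
import Cfsg.Agent.H802.FusEss
import Cfsg.Agent.H956.Co1P.Main
import Cfsg.Agent.H752.Mp
import Cfsg.Agent.H781.Realized
import Mathlib.Algebra.Group.Shrink
import Mathlib.GroupTheory.Transfer
import Mathlib.GroupTheory.SpecificGroups.Cyclic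
import Cfsg.Agent.S2215
import Cfsg.Agent.S1059
import Cfsg.Agent.S1068
import Cfsg.Agent.H603.SporElim
import Cfsg.Agent.SmallSimple.S1000.PSLFacts
import Cfsg.Agent.J2Type.ExtCube
import Cfsg.Agent.H776.ThIn
import Cfsg.Agent.H759.FusTransportD
import Cfsg.Agent.FastGrp
import Cfsg.Agent.Prune
set_option linter.all false

section
prune_inst 0x7ffcfcfb8bf8addfffff7e7ff6f5cffdf9f81fffe6dff9cb7fe1e9ff0fdf43658be5fbaf8fe4d0fd9ef6e21410b87813f97eceffe06bdc7ffffd5ff45ffbee1fa5efbd0851d69c340fbc2ffff3f0778e7f3fffffffffffffffffffffffffffefffbdffffffff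

-- part: H834/Co1/NotEss_mg
section
prune_inst 0x200240000000000000001080002000000000000000000080600d020000834000000100000024000000000000000060000000300000000000000000000004010000100090080104040000800082000000000000000000000000000000010000200000000
set_option linter.all false
open scoped Cfsg.Agent.FastGrp

-- part: H834/Co1/NotEss
section
/-!
# S5227, task C3: the exceptional subgroups `DD i` are not essential (helper834)

* `sq_le_of_essential` : an elementary abelian essential subgroup `Q` with `|N_S(Q) : Q| ≥ p ^ k` has order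
  at least `p ^ (2 k)` (S3083).
* `not_essential_DD`.
-/

set_option autoImplicit false
set_option linter.style.longLine false

namespace Cfsg.Agent.H834.Co1

open Subgroup Cfsg Cfsg.Agent.H752 Cfsg.Agent.H776.Co Cfsg.Agent.H776.Co.P

/-- the linear action on an elementary abelian group -/
noncomputable def lin {Q : Type*} [CommGroup Q] {K : Type*} [Group K] (p : ℕ)
    [Module (ZMod p) (Additive Q)] (φ : K →* MulAut Q) :
    K →* Module.End (ZMod p) (Additive Q) where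
  toFun g := AddMonoidHom.toZModLinearMap p (MonoidHom.toAdditive (φ g).toMonoidHom)
  map_one' := by
    apply LinearMap.ext
    intro v
    show Additive.ofMul (φ 1 v.toMul) = v
    rw [map_one]
    rfl
  map_mul' g h := by
    apply LinearMap.ext
    intro v
    show Additive.ofMul (φ (g * h) v.toMul) = Additive.ofMul (φ g (φ h v.toMul))
    rw [map_mul]
    rfl

theorem lin_apply {Q : Type*} [CommGroup Q] {K : Type*} [Group K] (p : ℕ)
    [Module (ZMod p) (Additive Q)] (φ : K →* MulAut Q) (g : K) (q : Q) :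
    lin p φ g (Additive.ofMul q) = Additive.ofMul (φ g q) := rfl

theorem lin_eq_one {Q : Type*} [CommGroup Q] {K : Type*} [Group K] {p : ℕ}
    [Module (ZMod p) (Additive Q)] {φ : K →* MulAut Q} {g : K} (h : lin p φ g = 1) : φ g = 1 := by
  apply MulEquiv.ext
  intro q
  have h1 : lin p φ g (Additive.ofMul q) = Additive.ofMul q := by rw [h]; rfl
  rw [lin_apply] at h1
  exact Additive.ofMul.injective h1

/-- S3083 for a group of automorphisms of an elementary abelian group -/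
theorem sq_le_of_aut {Q : Type*} [CommGroup Q] [Finite Q] {p : ℕ} [Fact p.Prime] (he : ∀ x : Q, x ^ p = 1)
    (A : Subgroup (MulAut Q)) {I : Subgroup A} [I.Normal] (hI : I = ⊥) (E : Subgroup (A ⧸ I))
    (hE : IsStronglyPEmbedded p E) {k : ℕ} (hk : p ^ k ∣ Nat.card A) : (p ^ k) ^ 2 ≤ Nat.card Q := by
  obtain ⟨inst⟩ : Nonempty (Module (ZMod p) (Additive Q)) :=
    ⟨AddCommGroup.zmodModule (n := p) (fun v => by exact he v.toMul)⟩
  have hfQ : Finite (Additive Q) := inferInstanceAs (Finite Q)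
  have hfA : Finite (MulAut Q) := inferInstance
  have hfH : Finite (A ⧸ I) := inferInstance
  let σ : A →* Module.End (ZMod p) (Additive Q) := lin p A.subtype
  let ρ : (A ⧸ I) →* Module.End (ZMod p) (Additive Q) := QuotientGroup.lift I σ (by
    intro a ha
    rw [hI, mem_bot] at ha
    rw [ha]
    exact one_mem _)
  have hρ : Function.Injective ρ := by
    rw [← MonoidHom.ker_eq_bot_iff, eq_bot_iff]
    intro x hx
    obtain ⟨a, rfl⟩ := QuotientGroup.mk_surjective x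
    rw [MonoidHom.mem_ker] at hx
    have h1 : σ a = 1 := hx
    have h2 : A.subtype a = 1 := lin_eq_one h1
    have h3 : a = 1 := Subtype.ext h2
    rw [mem_bot, h3]
    rfl
  obtain ⟨T⟩ : Nonempty (Sylow p (A ⧸ I)) := inferInstance
  have hcard : Nat.card (A ⧸ I) = Nat.card A := by
    subst hI
    exact Nat.card_congr (QuotientGroup.quotientBot (G := A)).toEquiv
  have hT : p ^ k ≤ Nat.card T := by
    obtain ⟨m, hm⟩ : ∃ m, Nat.card T = m := ⟨_, rfl⟩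
    have h1 : p ^ k ∣ Nat.card T := by
      rw [T.card_eq_multiplicity]
      refine pow_dvd_pow p ?_
      rw [← (Fact.out : p.Prime).pow_dvd_iff_le_factorization Nat.card_pos.ne', hcard]
      exact hk
    exact Nat.le_of_dvd Nat.card_pos h1
  have h := Cfsg.Agent.S3083.result p E hE T (Additive Q) ρ hρ
  exact (Nat.pow_le_pow_left hT 2).trans h

/-- an elementary abelian essential subgroup `Q` with `|N_S(Q) : Q| ≥ p ^ k` has order at least `p ^ (2 k)` -/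
theorem sq_le_of_essential {Ω : Type*} [Group Ω] [Finite Ω] {F : FusionSystem (⊤ : Subgroup Ω)} {p : ℕ}
    [Fact p.Prime] {Q : Subgroup Ω} (hQ : F.IsEssential p Q) (hc : ∀ x ∈ Q, ∀ y ∈ Q, x * y = y * x)
    (he : ∀ x ∈ Q, x ^ p = 1) {R : Subgroup Ω} (hR : R ≤ normalizer (Q : Set Ω)) (hQR : Q ≤ R)
    (hcen : ∀ r ∈ R, (∀ x ∈ Q, r * x = x * r) → r ∈ Q) {k : ℕ} (hk : Nat.card R = p ^ k * Nat.card Q) :
    (p ^ k) ^ 2 ≤ Nat.card Q := by
  obtain ⟨-, -, hn, E, hE⟩ := hQ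
  let cg : CommGroup Q := { (inferInstance : Group Q) with mul_comm := fun x y => Subtype.ext (hc x x.2 y y.2) }
  have hI : (Inn Q).subgroupOf (F.autGroup Q) = ⊥ := by
    rw [eq_bot_iff]
    rintro ⟨a, ha⟩ ha'
    rw [mem_subgroupOf] at ha'
    obtain ⟨q, hq⟩ := ha'
    rw [mem_bot]
    apply Subtype.ext
    have hq' : MulAut.conj q = a := hq
    show a = 1
    rw [← hq']
    apply MulEquiv.ext
    intro x
    show q * x * q⁻¹ = x
    rw [mul_inv_eq_iff_eq_mul]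
    exact Subtype.ext (hc q q.2 x x.2)
  let φ : R →* MulAut Q := (normalizerMonoidHom Q).comp (inclusion hR)
  have hφ : ∀ (r : R) (x : Q), ((φ r x : Q) : Ω) = r * x * (r : Ω)⁻¹ := fun r x => rfl
  have hker : φ.ker = Q.subgroupOf R := by
    ext r
    rw [MonoidHom.mem_ker, mem_subgroupOf]
    constructor
    · intro h
      refine hcen r r.2 fun x hx => ?_
      have h1 := hφ r ⟨x, hx⟩
      rw [h] at h1
      have h2 : x = r * x * (r : Ω)⁻¹ := h1
      rw [eq_mul_inv_iff_mul_eq] at h2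
      exact h2.symm
    · intro h
      apply MulEquiv.ext
      intro x
      apply Subtype.ext
      rw [hφ]
      show (r : Ω) * x * (r : Ω)⁻¹ = x
      rw [mul_inv_eq_iff_eq_mul]
      exact hc r h x x.2
  have hcard : Nat.card φ.range = p ^ k := by
    have h1 := Subgroup.card_eq_card_quotient_mul_card_subgroup φ.ker
    rw [Nat.card_congr (QuotientGroup.quotientKerEquivRange φ).toEquiv, hker,
      Nat.card_congr (Subgroup.subgroupOfEquivOfLe hQR).toEquiv, hk] at h1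
    exact (Nat.eq_of_mul_eq_mul_right Nat.card_pos h1).symm
  have hle : φ.range ≤ F.autGroup Q := by
    rintro _ ⟨r, rfl⟩
    exact (mp_conj F le_top (mem_top (r : Ω))).mem_autGroup fun x hx => (hφ r ⟨x, hx⟩).symm
  have hdvd : p ^ k ∣ Nat.card (F.autGroup Q) := by
    rw [← hcard]
    exact Subgroup.card_dvd_of_le hle
  exact sq_le_of_aut (Q := Q) (fun x => Subtype.ext (he x x.2)) (F.autGroup Q) hI E hE hdvd

/-! ### The subgroups `DD i` -/

/-- coordinates on `DD i` -/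
def equivDD (i : ZMod 3) : DD i ≃ ZMod 3 × ZMod 3 × ZMod 3 × ZMod 3 × ZMod 3 where
  toFun x := (x.1.b, x.1.c, x.1.m11, x.1.m12, x.1.m22)
  invFun t := ⟨⟨0, t.1, t.2.1, t.2.2.1, t.2.2.2.1, t.2.2.2.2, i * t.2.1, i * t.1, 0⟩, ⟨rfl, rfl, rfl, rfl⟩⟩
  left_inv x := by
    obtain ⟨x, h1, h2, h3, h4⟩ := x
    apply Subtype.ext
    ext <;> simp [h1, h2, h3, h4]
  right_inv _ := rfl

theorem card_DD (i : ZMod 3) : Nat.card (DD i) = 3 ^ 5 := by
  rw [Nat.card_congr (equivDD i)]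
  simp only [Nat.card_prod, Nat.card_zmod]
  norm_num

/-- coordinates on `R3` -/
def equivR3 : R3 ≃ ZMod 3 × ZMod 3 × ZMod 3 × ZMod 3 × ZMod 3 × ZMod 3 × ZMod 3 × ZMod 3 where
  toFun x := (x.1.a, x.1.b, x.1.c, x.1.m11, x.1.m12, x.1.m22, x.1.m13, x.1.m23)
  invFun t := ⟨⟨t.1, t.2.1, t.2.2.1, t.2.2.2.1, t.2.2.2.2.1, t.2.2.2.2.2.1, t.2.2.2.2.2.2.1, t.2.2.2.2.2.2.2, 0⟩, rfl⟩
  left_inv x := by
    obtain ⟨x, h1⟩ := x
    have h2 : x.m33 = 0 := h1
    apply Subtype.ext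
    ext <;> simp [h2]
  right_inv _ := rfl

theorem card_R3 : Nat.card R3 = 3 ^ 8 := by
  rw [Nat.card_congr equivR3]
  simp only [Nat.card_prod, Nat.card_zmod]
  norm_num

theorem DD_comm {i : ZMod 3} {x y : P} (hx : x ∈ DD i) (hy : y ∈ DD i) : x * y = y * x := by
  obtain ⟨h1, h2, h3, h4⟩ := hx
  obtain ⟨h5, h6, h7, h8⟩ := hy
  ext <;> simp only [h1, h2, h3, h4, h5, h6, h7, h8, _root_.Cfsg.Agent.H776.Co.P.mul_a, _root_.add_zero, _root_.Cfsg.Agent.H776.Co.P.mul_b, _root_.Cfsg.Agent.H776.Co.P.mul_c, _root_.MulZeroClass.zero_mul, _root_.Cfsg.Agent.H776.Co.P.mul_m11, _root_.MulZeroClass.mul_zero, _root_.ne_eq, _root_.OfNat.ofNat_ne_zero, _root_.not_false_eq_true, _root_.zero_pow, _root_.Cfsg.Agent.H776.Co.P.mul_m12, _root_.Cfsg.Agent.H776.Co.P.mul_m22, _root_.Cfsg.Agent.H776.Co.P.mul_m13, _root_.Cfsg.Agent.H776.Co.P.mul_m23, _root_.Cfsg.Agent.H776.Co.P.mul_m33] <;> ring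

theorem three_eq_zero : (3 : ZMod 3) = 0 := by decide

theorem DD_pow {i : ZMod 3} {x : P} (hx : x ∈ DD i) : x ^ 3 = 1 := by
  obtain ⟨h1, h2, h3, h4⟩ := hx
  rw [pow_succ, pow_two]
  ext
  · simp [h1]
  · simp only [mul_b, one_b]; linear_combination x.b * three_eq_zero
  · simp only [mul_c, mul_a, one_c, h1]; linear_combination x.c * three_eq_zero
  · simp only [mul_m11, mul_c, mul_b, mul_a, one_m11, h1, h2, h3, h4, mul_m13, mul_m33]
    linear_combination (x.m11 + 2 * i * x.c ^ 2) * three_eq_zero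
  · simp only [mul_m12, mul_c, mul_b, mul_a, one_m12, h1, h2, h3, h4, mul_m13, mul_m33]
    linear_combination (x.m12 + 2 * i * x.c * x.b) * three_eq_zero
  · simp only [mul_m22, mul_c, mul_b, mul_a, one_m22, h1, h2, h3, h4, mul_m13, mul_m33]
    linear_combination (x.m22 + 2 * i * x.b ^ 2) * three_eq_zero
  · simp only [mul_m13, mul_c, mul_b, mul_a, one_m13, h1, h2, h3, h4, mul_m33]
    linear_combination (i * x.c) * three_eq_zero
  · simp only [mul_m23, mul_c, mul_b, mul_a, one_m23, h1, h2, h3, h4, mul_m33]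
    linear_combination (i * x.b) * three_eq_zero
  · simp [h2]

theorem DD_conj {i : ZMod 3} {r x : P} (hr : r ∈ R3) (hx : x ∈ DD i) : r * x * r⁻¹ ∈ DD i := by
  obtain ⟨h1, h2, h3, h4⟩ := hx
  have h5 : r.m33 = 0 := hr
  refine ⟨?_, ?_, ?_, ?_⟩
  · simp [h1]
  · simp [h2, h5]
  · simp only [h1, h2, h3, h4, h5, _root_.Cfsg.Agent.H776.Co.P.mul_m13, _root_.MulZeroClass.mul_zero, _root_.add_zero, _root_.Cfsg.Agent.H776.Co.P.inv_m13, _root_.neg_mul, _root_.neg_add_rev, _root_.neg_neg, _root_.Cfsg.Agent.H776.Co.P.mul_a, _root_.Cfsg.Agent.H776.Co.P.inv_m23, _root_.mul_neg, _root_.add_neg_cancel_comm, _root_.Cfsg.Agent.H776.Co.P.mul_c, _root_.Cfsg.Agent.H776.Co.P.inv_m33, _root_.neg_zero, _root_.Cfsg.Agent.H776.Co.P.inv_c, _root_.Cfsg.Agent.H776.Co.P.inv_b]; ring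
  · simp [h2, h4, h5]

theorem R3_le_normalizer (i : ZMod 3) : R3 ≤ normalizer (DD i : Set P) := by
  intro r hr
  rw [mem_normalizer_iff]
  intro x
  refine ⟨fun h => DD_conj hr h, fun h => ?_⟩
  have h1 := DD_conj (R3.inv_mem hr) h
  have h2 : r⁻¹ * (r * x * r⁻¹) * r⁻¹⁻¹ = x := by group
  rwa [h2] at h1

theorem DD_le_R3 (i : ZMod 3) : DD i ≤ R3 := fun _ h => h.2.1

theorem mem_DD_of_centralizes {i : ZMod 3} {r : P} (hr : r ∈ R3) (h : ∀ x ∈ DD i, r * x = x * r) : r ∈ DD i := by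
  have h0 : r.m33 = 0 := hr
  have h1 := h ⟨0, 0, 0, 0, 0, 1, 0, 0, 0⟩ ⟨rfl, rfl, by simp, by simp⟩
  have h2 := h ⟨0, 1, 0, 0, 0, 0, 0, i, 0⟩ ⟨rfl, rfl, by simp, by simp⟩
  have ha : r.a = 0 := by
    have := congrArg P.m12 h1
    simpa using this
  have hc : r.m13 = i * r.c := by
    have := congrArg P.m12 h2
    simp [ha, h0] at this
    rw [← this]
    ring
  have hb : r.m23 = i * r.b := by
    have := congrArg P.m22 h2
    simp [h0] at this
    have h3 : (2 : ZMod 3) * (r.b * i - r.m23) = 0 := by linear_combination this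
    have h4 : (2 : ZMod 3) ≠ 0 := by decide
    have h5 := (mul_eq_zero.1 h3).resolve_left h4
    linear_combination -h5
  exact ⟨ha, h0, hc, hb⟩

theorem not_essential_DD (F : FusionSystem (⊤ : Subgroup P)) (hF : F.IsSaturated 3) (i : ZMod 3) :
    ¬ F.IsEssential 3 (DD i) := by
  intro hess
  have : Fact (Nat.Prime 3) := ⟨Nat.prime_three⟩
  have h := sq_le_of_essential (k := 3) hess (fun x hx y hy => DD_comm hx hy) (fun x hx => DD_pow hx)
    (R3_le_normalizer i) (DD_le_R3 i) (fun r hr h => mem_DD_of_centralizes hr h)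
    (by rw [card_R3, card_DD]; norm_num)
  rw [card_DD] at h
  norm_num at h

end Cfsg.Agent.H834.Co1
end

-- part: H511/Co/LocBasic
section
/-!
Basic facts on the local situation `Loc T U1 U2 z ⊥` (S5227, section A).
-/

set_option autoImplicit false
set_option linter.style.longLine false

namespace Cfsg.Agent.H511.Co.LocBasic

open Subgroup Cfsg.Agent.H776.Co

universe u
variable {Γ : Type u} [Group Γ] [Finite Γ] {T U1 U2 : Subgroup Γ} {z : Γ}

theorem z_mem_T {Z : Subgroup Γ} (h : Loc T U1 U2 z Z) : z ∈ T := by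
  have : z ∈ U1 ⊓ U2 := by rw [h.inf]; exact mem_zpowers z
  exact h.le1 this.1

theorem orderOf_z {Z : Subgroup Γ} (h : Loc T U1 U2 z Z) : orderOf z = 3 :=
  orderOf_eq_prime (h.exp z (z_mem_T h)) h.z_ne

theorem isPGroup_T {Z : Subgroup Γ} (h : Loc T U1 U2 z Z) : IsPGroup 3 T :=
  IsPGroup.of_card (n := 3) (by rw [h.card_T]; norm_num)

/-- an element of `⟨z⟩` other than `1` is `z` or `z⁻¹` -/
theorem mem_zpowers_z {Z : Subgroup Γ} (h : Loc T U1 U2 z Z) {x : Γ} (hx : x ∈ zpowers z) :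
    x = 1 ∨ x = z ∨ x = z⁻¹ := by
  obtain ⟨k, hk⟩ := mem_zpowers_iff.1 hx
  have h3 : z ^ (3 : ℤ) = 1 := by
    have := h.exp z (z_mem_T h)
    exact_mod_cast this
  have hk' : z ^ (k % 3) = x := by
    rw [← hk]
    conv_rhs => rw [← Int.emod_add_mul_ediv k 3, zpow_add, zpow_mul, h3, one_zpow, mul_one]
  have h1 : 0 ≤ k % 3 := Int.emod_nonneg _ (by norm_num)
  have h2 : k % 3 < 3 := Int.emod_lt_of_pos _ (by norm_num)
  have h4 : k % 3 = 0 ∨ k % 3 = 1 ∨ k % 3 = 2 := by omega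
  rcases h4 with h4 | h4 | h4
  · left; rw [← hk', h4, zpow_zero]
  · right; left; rw [← hk', h4, zpow_one]
  · right; right
    rw [← hk', h4]
    rw [eq_inv_iff_mul_eq_one]
    rw [← zpow_add_one]
    exact h3

/-- a subgroup normalised by `T` which meets `T` contains `z` -/
theorem z_mem {Z : Subgroup Γ} (h : Loc T U1 U2 z Z) {R : Subgroup Γ} (hR : ∀ t ∈ T, ∀ r ∈ R, t * r * t⁻¹ ∈ R)
    {y : Γ} (hyT : y ∈ T) (hyR : y ∈ R) (hy : y ≠ 1) : z ∈ R := by
  have hp := isPGroup_T h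
  have : Fact (Nat.Prime 3) := ⟨by norm_num⟩
  have : Group.IsNilpotent T := hp.isNilpotent
  have hn : (R.subgroupOf T).Normal := by
    constructor
    intro n hn g
    rw [mem_subgroupOf] at hn ⊢
    exact hR g g.2 n hn
  have hne : R.subgroupOf T ≠ ⊥ := by
    intro he
    have : (⟨y, hyT⟩ : T) ∈ R.subgroupOf T := hyR
    rw [he, mem_bot] at this
    exact hy (congrArg Subtype.val this)
  have h1 := Cfsg.Agent.Lib.NormalAbelian.normal_inf_center_ne_bot (R.subgroupOf T) hne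
  obtain ⟨c', hc1'⟩ := (Subgroup.ne_bot_iff_exists_ne_one).1 h1
  obtain ⟨c, hc⟩ := c'
  have hc1 : c ≠ 1 := fun he => hc1' (Subtype.ext he)
  have hcz : (c : T).1 ∈ zpowers z := by
    refine h.center _ (c : T).2 ?_
    intro y hy
    have := (mem_center_iff.1 hc.2) ⟨y, hy⟩
    have := congrArg Subtype.val this
    exact this.symm
  have hcR : (c : T).1 ∈ R := hc.1
  have hc2 : (c : T).1 ≠ 1 := fun he => hc1 (Subtype.ext he)
  rcases mem_zpowers_z h hcz with h2 | h2 | h2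
  · exact absurd h2 hc2
  · rw [← h2]; exact hcR
  · rw [← inv_inv z, ← h2]; exact R.inv_mem hcR

theorem pPrimeCore_eq_bot (h : Loc T U1 U2 z ⊥) : Cfsg.pPrimeCore 3 Γ = ⊥ := by
  have hn := Cfsg.Agent.Lib.Cores.pPrimeCore_normal (G := Γ) 3
  have hc := Cfsg.Agent.Lib.Cores.pPrimeCore_coprime (G := Γ) 3
  rw [eq_bot_iff]
  refine h.sig _ (fun t _ r hr => hn.conj_mem r hr t) ?_
  exact (Nat.Prime.coprime_iff_not_dvd (by norm_num)).1 hc.symm

theorem pCore_eq_bot (h : Loc T U1 U2 z ⊥) : Cfsg.pCore 3 Γ = ⊥ :=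
  h.core _ (Cfsg.Agent.Lib.Cores.pCore_normal 3) (Cfsg.Agent.Lib.Cores.pCore_isPGroup 3)

theorem card_mul_relIndex' {A B : Subgroup Γ} (h : A ≤ B) :
    Nat.card A * A.relIndex B = Nat.card B := by
  have h4 := Subgroup.relIndex_mul_relIndex ⊥ A B bot_le h
  rwa [Subgroup.relIndex_bot_left, Subgroup.relIndex_bot_left] at h4

theorem eq_bot_of_coprime (h : Loc T U1 U2 z ⊥) {R : Subgroup Γ} (hR : R.IsSubnormal) (h3 : ¬ 3 ∣ Nat.card R) : R = ⊥ := by
  have := Cfsg.Agent.SignalizersComponents.CompBasic.subnormal_coprime_le_pPrimeCore (p := 3) hR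
    ((Nat.Prime.coprime_iff_not_dvd (by norm_num)).2 h3).symm
  rw [pPrimeCore_eq_bot h] at this
  exact le_bot_iff.1 this

theorem eq_bot_of_pGroup (h : Loc T U1 U2 z ⊥) {R : Subgroup Γ} (hR : R.IsSubnormal) (h3 : IsPGroup 3 R) : R = ⊥ := by
  have := Cfsg.Agent.SignalizersComponents.CompBasic.subnormal_pGroup_le_pCore (p := 3) hR h3
  rw [pCore_eq_bot h] at this
  exact le_bot_iff.1 this

/-- `T ∩ K` is a Sylow 3-subgroup of the normal subgroup `K` -/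
theorem not_dvd_relIndex {Z : Subgroup Γ} (h : Loc T U1 U2 z Z) (K : Subgroup Γ) [hK : K.Normal] : ¬ 3 ∣ T.relIndex K := by
  intro hd
  apply h.syl
  refine dvd_trans hd ?_
  have h1 : (T ⊓ K).relIndex K = T.relIndex K := inf_relIndex_right T K
  have h2 : Nat.card ↥(T ⊓ K) * (T ⊓ K).relIndex K = Nat.card K := card_mul_relIndex' inf_le_right
  have h3 : Nat.card ↥(T ⊓ K) * (T ⊓ K).relIndex T = Nat.card T := card_mul_relIndex' inf_le_left
  have h4 : Nat.card T * T.relIndex (T ⊔ K) = Nat.card ↥(T ⊔ K) := card_mul_relIndex' le_sup_left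
  have h5 : Nat.card K * K.relIndex (T ⊔ K) = Nat.card ↥(T ⊔ K) := card_mul_relIndex' le_sup_right
  rw [relIndex_sup_right] at h5
  rw [inf_relIndex_left] at h3
  have h6 : T.relIndex (T ⊔ K) = T.relIndex K := by
    have hpos : 0 < Nat.card T := Nat.card_pos
    apply Nat.eq_of_mul_eq_mul_left hpos
    rw [h4, ← h5, ← h2, ← h3, h1]
    ring
  rw [← h6]
  exact relIndex_dvd_index_of_le le_sup_left

/-- every nontrivial subgroup `R` of `K` invariant under `K`, where `K` is normal, meets `T` -/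
theorem exists_mem (h : Loc T U1 U2 z ⊥) {K R : Subgroup Γ} (hK : K.Normal) (hRK : R ≤ K)
    (hR : ∀ k ∈ K, ∀ r ∈ R, k * r * k⁻¹ ∈ R) (hne : R ≠ ⊥) : ∃ y ∈ T, y ∈ R ∧ y ≠ 1 := by
  have : Fact (Nat.Prime 3) := ⟨by norm_num⟩
  have hn : (R.subgroupOf K).Normal := by
    constructor
    intro n hn g
    rw [mem_subgroupOf] at hn ⊢
    exact hR g g.2 n hn
  have hsub : R.IsSubnormal :=
    IsSubnormal.step _ K hRK hK.isSubnormal hn
  have h3 : 3 ∣ Nat.card R := by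
    by_contra h3
    exact hne (eq_bot_of_coprime h hsub h3)
  obtain ⟨y, hy⟩ := exists_prime_orderOf_dvd_card' (G := R) 3 h3
  -- the Sylow subgroup `T ∩ K` of `K`
  have hTK : IsPGroup 3 ↥(T.subgroupOf K) :=
    (isPGroup_T h).comap_of_injective K.subtype K.subtype_injective
  have hyo : orderOf (y : Γ) = 3 := by rw [← hy]; exact Subgroup.orderOf_coe y
  have hyK : (y : Γ) ∈ K := hRK y.2
  obtain ⟨P, hP⟩ := hTK.exists_le_sylow
  have hPT : (P : Subgroup K) = T.subgroupOf K := by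
    symm
    apply Subgroup.eq_of_le_of_card_ge hP
    have h1 : Nat.card ↥(T.subgroupOf K) * (T.subgroupOf K).index = Nat.card K := card_mul_index _
    have h2 : Nat.card P ∣ Nat.card K := card_subgroup_dvd_card _
    obtain ⟨n, hn⟩ := (IsPGroup.iff_card).1 P.isPGroup'
    have hco : (Nat.card P).Coprime (T.subgroupOf K).index := by
      rw [hn]
      apply Nat.Coprime.pow_left
      exact (Nat.Prime.coprime_iff_not_dvd (by norm_num)).2 (not_dvd_relIndex h K)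
    rw [← h1] at h2
    exact Nat.le_of_dvd Nat.card_pos (hco.dvd_of_dvd_mul_right h2)
  have hyp : IsPGroup 3 ↥(zpowers (⟨y, hyK⟩ : K)) := by
    apply IsPGroup.of_card (n := 1)
    rw [Nat.card_zpowers, Subgroup.orderOf_mk, hyo, pow_one]
  obtain ⟨Q, hQ⟩ := hyp.exists_le_sylow
  obtain ⟨k, hk⟩ := MulAction.exists_smul_eq K Q P
  have hm : (k * ⟨y, hyK⟩ * k⁻¹ : K) ∈ (P : Subgroup K) := by
    rw [← hk]
    have : (⟨y, hyK⟩ : K) ∈ (Q : Subgroup K) := hQ (mem_zpowers _)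
    rw [Sylow.coe_subgroup_smul]
    exact Subgroup.smul_mem_pointwise_smul _ (MulAut.conj k) _ this
  rw [hPT, mem_subgroupOf] at hm
  refine ⟨_, hm, ?_, ?_⟩
  · exact hR k k.2 y y.2
  · intro he
    have h5 : (k : Γ) * y * (k : Γ)⁻¹ = 1 := he
    have h6 : (y : Γ) = 1 := by
      have := congrArg (fun w => (k : Γ)⁻¹ * w * k) h5
      simpa only [mul_assoc, _root_.OneMemClass.coe_eq_one, _root_.inv_mul_cancel_left, _root_.inv_mul_cancel, _root_.mul_one] using this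
    rw [h6, orderOf_one] at hyo
    norm_num at hyo

/-- a commutative subgroup `R` of a normal subgroup `K`, invariant under `K`, is trivial -/
theorem eq_bot_of_comm (h : Loc T U1 U2 z ⊥) {K R : Subgroup Γ} (hK : K.Normal) (hRK : R ≤ K)
    (hR : ∀ k ∈ K, ∀ r ∈ R, k * r * k⁻¹ ∈ R) (hc : ∀ x ∈ R, ∀ y ∈ R, x * y = y * x) : R = ⊥ := by
  by_contra hne
  obtain ⟨y, hyT, hyR, hy1⟩ := exists_mem h hK hRK hR hne
  let R3 : Subgroup Γ :=
    { carrier := {x | x ∈ R ∧ x ^ 3 = 1}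
      one_mem' := ⟨R.one_mem, one_pow 3⟩
      mul_mem' := by
        intro a b ha hb
        refine ⟨R.mul_mem ha.1 hb.1, ?_⟩
        have : Commute a b := hc a ha.1 b hb.1
        rw [this.mul_pow, ha.2, hb.2, one_mul]
      inv_mem' := by
        intro a ha
        exact ⟨R.inv_mem ha.1, by rw [inv_pow, ha.2, inv_one]⟩ }
  have hRR : R3 ≤ R := fun x hx => hx.1
  have hn : (R3.subgroupOf K).Normal := by
    constructor
    intro n hn g
    rw [mem_subgroupOf] at hn ⊢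
    refine ⟨hR g g.2 n hn.1, ?_⟩
    have : ((g * n * g⁻¹ : K) : Γ) ^ 3 = (g : Γ) * (n : Γ) ^ 3 * (g : Γ)⁻¹ := by
      push_cast
      rw [conj_pow]
    rw [this, hn.2, mul_one, mul_inv_cancel]
  have hsub : R3.IsSubnormal :=
    IsSubnormal.step _ K (hRR.trans hRK) hK.isSubnormal hn
  have hp : IsPGroup 3 R3 := by
    intro x
    refine ⟨1, ?_⟩
    ext
    push_cast
    exact x.2.2
  have := eq_bot_of_pGroup h hsub hp
  have hy3 : y ∈ R3 := ⟨hyR, h.exp y hyT⟩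
  rw [this, mem_bot] at hy3
  exact hy1 hy3

/-- commutators of elements of `T` lie in `⟨z⟩` -/
theorem comm_mem {Z : Subgroup Γ} (h : Loc T U1 U2 z Z) {x y : Γ} (hx : x ∈ T) (hy : y ∈ T) : x * y * x⁻¹ * y⁻¹ ∈ zpowers z := by
  have : Fact (Nat.Prime 3) := ⟨by norm_num⟩
  let N : Subgroup T := (zpowers z).subgroupOf T
  have hN : N.Normal := by
    constructor
    intro n hn g
    rw [mem_subgroupOf] at hn ⊢
    obtain ⟨k, hk⟩ := mem_zpowers_iff.1 hn
    have hc : Commute (g : Γ) (z ^ k) := Commute.zpow_right (h.z_comm g g.2) k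
    have : ((g * n * g⁻¹ : T) : Γ) = (g : Γ) * (n : Γ) * (g : Γ)⁻¹ := rfl
    rw [this, ← hk, hc.eq, mul_assoc, mul_inv_cancel, mul_one]
    exact zpow_mem (mem_zpowers z) k
  have hcN : Nat.card N = 3 := by
    have h1 : Nat.card N = Nat.card (zpowers z) := by
      refine Nat.card_congr (subgroupOfEquivOfLe ?_).toEquiv
      rw [zpowers_le]
      exact z_mem_T h
    rw [h1, Nat.card_zpowers, orderOf_z h]
  have hq : Nat.card (T ⧸ N) = 3 ^ 2 := by
    have := N.card_mul_index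
    rw [hcN, h.card_T] at this
    have h2 : N.index = Nat.card (T ⧸ N) := rfl
    omega
  have hcom := IsPGroup.commutative_of_card_eq_prime_sq hq
  have h3 := hcom (QuotientGroup.mk ⟨y, hy⟩) (QuotientGroup.mk ⟨x, hx⟩)
  rw [← QuotientGroup.mk_mul, ← QuotientGroup.mk_mul, QuotientGroup.eq] at h3
  have h4 : (((⟨y, hy⟩ : T) * ⟨x, hx⟩)⁻¹ * ((⟨x, hx⟩ : T) * ⟨y, hy⟩) : T).1 ∈ zpowers z := h3
  have h5 : x⁻¹ * y⁻¹ * (x * y) ∈ zpowers z := by
    have : (((⟨y, hy⟩ : T) * ⟨x, hx⟩)⁻¹ * ((⟨x, hx⟩ : T) * ⟨y, hy⟩) : T).1 = x⁻¹ * y⁻¹ * (x * y) := by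
      simp only [mul_inv_rev, _root_.MulMemClass.mk_mul_mk, _root_.Subgroup.coe_mul, _root_.InvMemClass.coe_inv]
    rw [← this]; exact h4
  obtain ⟨k, hk⟩ := mem_zpowers_iff.1 h5
  have hcx : Commute x (z ^ k) := Commute.zpow_right (h.z_comm x hx) k
  have hcy : Commute y (z ^ k) := Commute.zpow_right (h.z_comm y hy) k
  rw [mem_zpowers_iff]
  refine ⟨k, ?_⟩
  have e1 : x * y = y * x * z ^ k := by rw [hk]; group
  rw [e1]
  have e2 : y * x * z ^ k = z ^ k * (y * x) := (hcy.mul_left hcx).eq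
  rw [e2]
  group

end Cfsg.Agent.H511.Co.LocBasic
end

-- part: H511/Co/ExistsSimple
section
/-!
S5227, section A: the simple normal subgroup (`exists_simple`) and the triviality of its centralizer.
-/

set_option autoImplicit false
set_option linter.style.longLine false

namespace Cfsg.Agent.H511.Co

open Subgroup Cfsg.Agent.H776.Co LocBasic

universe u
variable {Γ : Type u} [Group Γ] [Finite Γ] {T U1 U2 : Subgroup Γ} {z : Γ}

/-- nontrivial subgroups of `K` invariant under `K` -/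
def Inv (K S : Subgroup Γ) : Prop := S ≤ K ∧ S ≠ ⊥ ∧ ∀ k ∈ K, ∀ s ∈ S, k * s * k⁻¹ ∈ S

/-- minimal ones -/
def MinInv (K S : Subgroup Γ) : Prop := Inv K S ∧ ∀ R, Inv K R → R ≤ S → R = S

omit [Finite Γ] in
theorem Inv.inf {K A B : Subgroup Γ} (hA : Inv K A) (hB : Inv K B) (hne : A ⊓ B ≠ ⊥) : Inv K (A ⊓ B) :=
  ⟨inf_le_left.trans hA.1, hne, fun k hk s hs => ⟨hA.2.2 k hk s hs.1, hB.2.2 k hk s hs.2⟩⟩

theorem exists_minInv {K A : Subgroup Γ} (hA : Inv K A) : ∃ S, MinInv K S ∧ S ≤ A := by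
  classical
  obtain ⟨n, hn⟩ : ∃ n, ∃ S, Inv K S ∧ S ≤ A ∧ Nat.card S = n := ⟨_, A, hA, le_rfl, rfl⟩
  have hex : ∃ n, ∃ S, Inv K S ∧ S ≤ A ∧ Nat.card S = n := ⟨n, hn⟩
  obtain ⟨S, hS, hSA, hc⟩ := Nat.find_spec hex
  refine ⟨S, ⟨hS, fun R hR hRS => ?_⟩, hSA⟩
  apply Subgroup.eq_of_le_of_card_ge hRS
  rw [hc]
  exact Nat.find_min' hex ⟨R, hR, hRS.trans hSA, rfl⟩

omit [Finite Γ] in
theorem MinInv.inf_eq_bot {K A B : Subgroup Γ} (hA : MinInv K A) (hB : MinInv K B) (hne : A ≠ B) : A ⊓ B = ⊥ := by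
  by_contra h
  have h1 := Inv.inf hA.1 hB.1 h
  apply hne
  rw [← hA.2 _ h1 inf_le_left]
  exact hB.2 _ h1 inf_le_right

omit [Finite Γ] in
theorem MinInv.comm {K A B : Subgroup Γ} (hA : MinInv K A) (hB : MinInv K B) (hne : A ≠ B) {a b : Γ} (ha : a ∈ A) (hb : b ∈ B) :
    a * b = b * a := by
  have h := hA.inf_eq_bot hB hne
  have h1 : a * b * a⁻¹ * b⁻¹ ∈ A ⊓ B := by
    refine ⟨?_, ?_⟩
    · have := hA.1.2.2 b (hB.1.1 hb) a⁻¹ (A.inv_mem ha)
      have h2 := A.mul_mem ha this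
      simpa only [mul_assoc, _root_.Subgroup.coe_toSubmonoid, _root_.SetLike.mem_coe] using h2
    · exact B.mul_mem (hB.1.2.2 a (hA.1.1 ha) b hb) (B.inv_mem hb)
  rw [h, mem_bot] at h1
  have h2 : a * b * (b * a)⁻¹ = 1 := by rw [mul_inv_rev]; simpa only [mul_assoc] using h1
  exact mul_inv_eq_one.1 h2

/-- conjugate subgroup -/
abbrev cj (g : Γ) (S : Subgroup Γ) : Subgroup Γ := S.map (MulAut.conj g).toMonoidHom

omit [Finite Γ] in
theorem mem_cj {g : Γ} {S : Subgroup Γ} {x : Γ} : x ∈ cj g S ↔ g⁻¹ * x * g ∈ S := by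
  constructor
  · rintro ⟨y, hy, rfl⟩
    simpa [mul_assoc] using hy
  · intro h
    refine ⟨_, h, ?_⟩
    simp only [mul_assoc, _root_.MulEquiv.toMonoidHom_eq_coe, _root_.MonoidHom.coe_coe, _root_.MulAut.conj_apply, _root_.mul_inv_cancel_left, _root_.mul_inv_cancel, _root_.mul_one]

omit [Finite Γ] in
theorem Inv.cj {K S : Subgroup Γ} (hK : K.Normal) (hS : Inv K S) (g : Γ) : Inv K (cj g S) := by
  refine ⟨?_, ?_, ?_⟩
  · intro x hx
    rw [mem_cj] at hx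
    have := hK.conj_mem _ (hS.1 hx) g
    simpa [mul_assoc] using this
  · intro he
    apply hS.2.1
    exact (Subgroup.map_eq_bot_iff_of_injective _ (MulAut.conj g).injective).1 he
  · intro k hk s hs
    rw [mem_cj] at hs ⊢
    have h1 : g⁻¹ * k * g ∈ K := by
      have := hK.conj_mem _ hk g⁻¹
      simpa using this
    have := hS.2.2 _ h1 _ hs
    simpa only [mul_assoc, _root_.mul_inv_cancel_left, _root_.mul_inv_rev, _root_.inv_inv] using this

omit [Finite Γ] in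
theorem cj_cj (a b : Γ) (S : Subgroup Γ) : cj a (cj b S) = cj (a * b) S := by
  ext x
  rw [mem_cj, mem_cj, mem_cj]
  simp only [mul_assoc, _root_.mul_inv_rev]

omit [Finite Γ] in
theorem cj_one (S : Subgroup Γ) : cj 1 S = S := by
  ext x
  rw [mem_cj]
  simp

omit [Finite Γ] in
theorem cj_mono (g : Γ) {A B : Subgroup Γ} (h : A ≤ B) : cj g A ≤ cj g B := Subgroup.map_mono h

omit [Finite Γ] in
theorem MinInv.cj {K S : Subgroup Γ} (hK : K.Normal) (hS : MinInv K S) (g : Γ) : MinInv K (cj g S) := by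
  refine ⟨hS.1.cj hK g, fun R hR hle => ?_⟩
  have h1 := hR.cj hK g⁻¹
  have h2 : Co.cj g⁻¹ R ≤ S := by
    have := cj_mono g⁻¹ hle
    rwa [cj_cj, inv_mul_cancel, cj_one] at this
  have h3 := hS.2 _ h1 h2
  rw [← h3, cj_cj, mul_inv_cancel, cj_one]

/-- `T` normalises every minimal `K`-invariant subgroup of the normal subgroup `K` -/
theorem cj_eq (h : Loc T U1 U2 z ⊥) {K S : Subgroup Γ} (hK : K.Normal) (hS : MinInv K S) {t : Γ} (ht : t ∈ T) : cj t S = S := by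
  by_contra hne
  obtain ⟨y, hyT, hyS, hy1⟩ := exists_mem h hK hS.1.1 hS.1.2.2 hS.1.2.1
  have hti : cj t⁻¹ S ≠ S := by
    intro he
    apply hne
    conv_lhs => rw [← he]
    rw [cj_cj, mul_inv_cancel, cj_one]
  have htt : cj t S ≠ cj t⁻¹ S := by
    intro he
    have h1 : cj t (cj t S) = S := by rw [he, cj_cj, mul_inv_cancel, cj_one]
    apply hti
    have h2 : t⁻¹ = t * t := by
      have := h.exp t ht
      rw [inv_eq_iff_mul_eq_one]
      rw [← this, pow_succ, pow_two, mul_assoc]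
    rw [h2, ← cj_cj, h1]
  have m1 := hS.cj hK t
  have m2 := hS.cj hK t⁻¹
  have y1 : t * y * t⁻¹ ∈ cj t S := by rw [mem_cj]; simpa [mul_assoc] using hyS
  have y2 : t⁻¹ * y * t ∈ cj t⁻¹ S := by rw [mem_cj]; simpa only [mul_assoc, _root_.inv_inv, _root_.mul_inv_cancel_left, _root_.mul_inv_cancel, _root_.mul_one] using hyS
  have c1 : y⁻¹ * (t * y * t⁻¹) ∈ zpowers z := by
    have := comm_mem h (T.inv_mem hyT) ht
    simpa only [mul_assoc, _root_.inv_inv] using this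
  have c2 : y⁻¹ * (t⁻¹ * y * t) ∈ zpowers z := by
    have := comm_mem h (T.inv_mem hyT) (T.inv_mem ht)
    simpa only [mul_assoc, _root_.inv_inv] using this
  have n1 : y⁻¹ * (t * y * t⁻¹) ≠ 1 := by
    intro he
    have he' : t * y * t⁻¹ = y := (inv_mul_eq_one.1 he).symm
    rw [he'] at y1
    have : y ∈ cj t S ⊓ S := ⟨y1, hyS⟩
    rw [m1.inf_eq_bot hS hne] at this
    exact hy1 this
  have n2 : y⁻¹ * (t⁻¹ * y * t) ≠ 1 := by
    intro he
    have he' : t⁻¹ * y * t = y := (inv_mul_eq_one.1 he).symm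
    rw [he'] at y2
    have : y ∈ cj t⁻¹ S ⊓ S := ⟨y2, hyS⟩
    rw [m2.inf_eq_bot hS hti] at this
    exact hy1 this
  have hor : y⁻¹ * (t * y * t⁻¹) = y⁻¹ * (t⁻¹ * y * t) ∨ y⁻¹ * (t * y * t⁻¹) = (y⁻¹ * (t⁻¹ * y * t))⁻¹ := by
    rcases mem_zpowers_z h c1 with e1 | e1 | e1
    · exact absurd e1 n1
    · rcases mem_zpowers_z h c2 with e2 | e2 | e2
      · exact absurd e2 n2
      · left; rw [e1, e2]
      · right; rw [e1, e2, inv_inv]
    · rcases mem_zpowers_z h c2 with e2 | e2 | e2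
      · exact absurd e2 n2
      · right; rw [e1, e2]
      · left; rw [e1, e2]
  rcases hor with e | e
  · have e' : t * y * t⁻¹ = t⁻¹ * y * t := mul_left_cancel e
    have : t * y * t⁻¹ ∈ cj t S ⊓ cj t⁻¹ S := ⟨y1, by rw [e']; exact y2⟩
    rw [m1.inf_eq_bot m2 htt, mem_bot] at this
    apply hy1
    have h3 := congrArg (fun w => t⁻¹ * w * t) this
    simpa [mul_assoc] using h3
  · have e' : t * y * t⁻¹ = y * (t⁻¹ * y * t)⁻¹ * y := by
      have := congrArg (fun w => y * w) e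
      simpa only [mul_assoc, _root_.mul_inv_rev, _root_.inv_inv, _root_.mul_inv_cancel_left] using this
    -- `y' = t y t⁻¹` is central in `cj t S`
    let C : Subgroup Γ := cj t S ⊓ centralizer (cj t S : Set Γ)
    have hC : C = ⊥ := by
      refine eq_bot_of_comm h hK (inf_le_left.trans m1.1.1) ?_ ?_
      · intro k hk r hr
        refine ⟨m1.1.2.2 k hk r hr.1, ?_⟩
        refine mem_centralizer_iff.2 ?_
        intro s hs
        have h5 : k⁻¹ * s * k ∈ cj t S := by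
          have := m1.1.2.2 k⁻¹ (K.inv_mem hk) s hs
          simpa only [_root_.Subgroup.mem_map, _root_.MulEquiv.toMonoidHom_eq_coe, _root_.MonoidHom.coe_coe, _root_.MulAut.conj_apply, _root_.inv_inv] using this
        have h6 := (mem_centralizer_iff.1 hr.2) _ h5
        have h7 := congrArg (fun w => k * w * k⁻¹) h6
        simpa only [mul_assoc, _root_.mul_inv_cancel_left, _root_.mul_inv_cancel, _root_.mul_one] using h7
      · intro x hx y hy
        exact (mem_centralizer_iff.1 hx.2 y hy.1).symm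
    have hmem : t * y * t⁻¹ ∈ C := by
      refine ⟨y1, ?_⟩
      refine mem_centralizer_iff.2 ?_
      intro s hs
      have a1 : Commute s y := m1.comm hS hne hs hyS
      have a2 : Commute s (t⁻¹ * y * t) := m1.comm m2 htt hs y2
      have a3 : Commute s (t * y * t⁻¹) := by
        rw [e']
        exact (a1.mul_right a2.inv_right).mul_right a1
      exact a3
    rw [hC, mem_bot] at hmem
    apply hy1
    have h3 := congrArg (fun w => t⁻¹ * w * t) hmem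
    simpa [mul_assoc] using h3

theorem z_mem_minInv (h : Loc T U1 U2 z ⊥) {K S : Subgroup Γ} (hK : K.Normal) (hS : MinInv K S) : z ∈ S := by
  obtain ⟨y, hyT, hyS, hy1⟩ := exists_mem h hK hS.1.1 hS.1.2.2 hS.1.2.1
  refine z_mem h ?_ hyT hyS hy1
  intro t ht r hr
  have := cj_eq h hK hS ht
  rw [← this, mem_cj]
  simpa [mul_assoc] using hr

/-- a nontrivial normal subgroup of `Γ` contains `z` -/
theorem z_mem_of_normal (h : Loc T U1 U2 z ⊥) {N : Subgroup Γ} (hN : N.Normal) (hne : N ≠ ⊥) : z ∈ N := by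
  obtain ⟨y, hyT, hyS, hy1⟩ := exists_mem h hN le_rfl (fun k _ r hr => hN.conj_mem r hr k) hne
  exact z_mem h (fun t _ r hr => hN.conj_mem r hr t) hyT hyS hy1

/-- a minimal `K`-invariant subgroup of a normal subgroup is normal -/
theorem minInv_normal (h : Loc T U1 U2 z ⊥) {K S : Subgroup Γ} (hK : K.Normal) (hS : MinInv K S) : S.Normal := by
  have key : ∀ g : Γ, cj g S = S := by
    intro g
    by_contra hne
    have h1 := z_mem_minInv h hK (hS.cj hK g)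
    have h2 := z_mem_minInv h hK hS
    have : z ∈ cj g S ⊓ S := ⟨h1, h2⟩
    rw [(hS.cj hK g).inf_eq_bot hS hne] at this
    exact h.z_ne this
  constructor
  intro n hn g
  rw [← key g, mem_cj]
  simpa [mul_assoc] using hn

/-- the simple normal subgroup -/
theorem exists_simple (h : Loc T U1 U2 z ⊥) : ∃ K : Subgroup Γ, K.Normal ∧ IsSimpleGroup K ∧ (¬ IsMulCommutative K) ∧ z ∈ K := by
  have htop : Inv (⊤ : Subgroup Γ) ⊤ := by
    refine ⟨le_rfl, ?_, fun _ _ _ _ => mem_top _⟩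
    intro he
    have : z ∈ (⊤ : Subgroup Γ) := mem_top z
    rw [he] at this
    exact h.z_ne this
  obtain ⟨K, hK, -⟩ := exists_minInv htop
  have hKn : K.Normal := ⟨fun n hn g => hK.1.2.2 g (mem_top g) n hn⟩
  have hKne : K ≠ ⊥ := hK.1.2.1
  have hz : z ∈ K := z_mem_of_normal h hKn hKne
  refine ⟨K, hKn, ?_, ?_, hz⟩
  · have hnt : Nontrivial K := (nontrivial_iff_ne_bot K).2 hKne
    refine { eq_bot_or_eq_top_of_normal := ?_ }
    intro N hN
    by_contra hcon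
    push Not at hcon
    obtain ⟨hb, ht⟩ := hcon
    have hNi : Inv K (N.map K.subtype) := by
      refine ⟨?_, ?_, ?_⟩
      · rintro x ⟨y, _, rfl⟩
        exact y.2
      · intro he
        exact hb ((Subgroup.map_eq_bot_iff_of_injective _ K.subtype_injective).1 he)
      · rintro k hk s ⟨y, hy, rfl⟩
        exact ⟨(⟨k, hk⟩ * y * ⟨k, hk⟩⁻¹ :), hN.conj_mem y hy _, rfl⟩
    obtain ⟨S, hS, hSN⟩ := exists_minInv hNi
    have hSn := minInv_normal h hKn hS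
    have h1 : Inv ⊤ S := ⟨le_top, hS.1.2.1, fun k _ s hs => hSn.conj_mem s hs k⟩
    have h2 := hK.2 _ h1 hS.1.1
    rw [h2] at hSN
    apply ht
    rw [eq_top_iff]
    intro x _
    obtain ⟨y, hy, hyx⟩ := hSN x.2
    have : y = x := Subtype.ext hyx
    rw [← this]
    exact hy
  · intro hc
    apply hKne
    refine eq_bot_of_comm h hKn le_rfl (fun k _ r hr => hKn.conj_mem r hr k) ?_
    intro x hx y hy
    have := hc.is_comm.comm (⟨x, hx⟩ : K) ⟨y, hy⟩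
    exact congrArg Subtype.val this

end Cfsg.Agent.H511.Co
end

-- part: H119/Co1/ExplA
section
/-!
# S5227, task `Lin.explicit` , first half (helper119)

A linear group `G` on `F₃⁶` with Sylow 3-subgroup `T` and an element normalising `U1` (`U2`) and moving the centre of
`T` contains the standard Weyl elements.
-/

set_option autoImplicit false
set_option linter.style.longLine false

namespace Cfsg.Agent.H119.Co1

open Cfsg.Agent.H776.Co.Lin Subgroup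

instance finiteL : Finite L := Finite.of_injective (fun g : L => (g : V → V)) DFunLike.coe_injective

theorem three_eq : (3 : ZMod 3) = 0 := rfl

theorem tl_pow_three (a b c : ZMod 3) : tl a b c ^ 3 = 1 := by
  rw [pow_succ, pow_two, tl_mul, tl_mul, ← tl_one]
  have h3 := three_eq
  congr 1
  · linear_combination a * h3
  · linear_combination b * h3
  · linear_combination (c + a * b) * h3

theorem T_pgroup : IsPGroup 3 T := by
  rintro ⟨g, a, b, c, rfl⟩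
  exact ⟨1, Subtype.ext (by
    show tl a b c ^ 3 ^ 1 = 1
    rw [pow_one]
    exact tl_pow_three a b c)⟩

theorem tl_eq_one {a b c : ZMod 3} (h : tl a b c = 1) : a = 0 ∧ b = 0 ∧ c = 0 := by
  have h1 := congrArg (fun g : L => g ![0, 0, 0, 0, 0, 1]) h
  have h2 := congrArg (fun g : L => g ![0, 0, 0, 0, 1, 0]) h
  have e1 := congrFun h1 4
  have e2 := congrFun h1 3
  have e3 := congrFun h2 3
  simp [tf] at e1 e2 e3
  exact ⟨e3, e1, e2⟩

/-- a 3-group normalised by `T` and meeting it trivially -/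
theorem inf_bot {G S : Subgroup L} (hG : Syl G) (hS : IsPGroup 3 S)
    (hn : ∀ t ∈ T, ∀ s ∈ S, t * s * t⁻¹ ∈ S) (hi : ∀ s ∈ S, s ∈ T → s = 1) : ∀ s ∈ S, s ∈ G → s = 1 := by
  intro s hs hsG
  apply hi s hs
  have hle : T ≤ normalizer ((S ⊓ G : Subgroup L) : Set L) := by
    intro t ht
    rw [mem_normalizer_iff]
    intro x
    constructor
    · rintro ⟨h1, h2⟩
      exact ⟨hn t ht x h1, G.mul_mem (G.mul_mem (hG.le ht) h2) (G.inv_mem (hG.le ht))⟩
    · rintro ⟨h1, h2⟩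
      have h3 := hn t⁻¹ (T.inv_mem ht) _ h1
      have h4 := G.mul_mem (G.mul_mem (hG.le (T.inv_mem ht)) h2) (G.inv_mem (hG.le (T.inv_mem ht)))
      have e : t⁻¹ * (t * x * t⁻¹) * t⁻¹⁻¹ = x := by group
      rw [e] at h3 h4
      exact ⟨h3, h4⟩
  have hP : IsPGroup 3 ↥(T ⊔ (S ⊓ G)) := IsPGroup.to_sup_of_normal_right' T_pgroup (hS.to_le inf_le_left) hle
  have hPG : T ⊔ (S ⊓ G) ≤ G := sup_le hG.le inf_le_right
  have h1 : T.relIndex (T ⊔ (S ⊓ G)) ∣ T.relIndex G := ⟨_, (relIndex_mul_relIndex T _ G le_sup_left hPG).symm⟩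
  have h2 : T.relIndex (T ⊔ (S ⊓ G)) ∣ Nat.card ↥(T ⊔ (S ⊓ G)) := by
    rw [relIndex]
    exact index_dvd_card _
  have h33 : Fact (Nat.Prime 3) := ⟨Nat.prime_three⟩
  obtain ⟨n, hn'⟩ := IsPGroup.iff_card.1 hP
  rw [hn'] at h2
  obtain ⟨k, -, hk⟩ := (Nat.dvd_prime_pow Nat.prime_three).1 h2
  have h3 : k = 0 := by
    by_contra hk0
    apply hG.idx
    refine dvd_trans ?_ h1
    rw [hk]
    exact dvd_pow_self 3 hk0
  rw [h3, pow_zero] at hk
  exact (relIndex_eq_one.1 hk) (mem_sup_right ⟨hs, hsG⟩)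

/-! ### The group `U1` -/

/-- the action of `g` on `U1` -/
def Nm1 (g : L) (q p s r : ZMod 3) : Prop := g * tl 0 0 1 = tl 0 q p * g ∧ g * tl 0 1 0 = tl 0 s r * g

theorem Nm1.act {g : L} {q p s r : ZMod 3} (h : Nm1 g q p s r) (b c : ZMod 3) :
    g * tl 0 b c = tl 0 (b * s + c * q) (b * r + c * p) * g := by
  have h1 : ∀ n : ℕ, g * tl 0 0 n = tl 0 (n * q) (n * p) * g := by
    intro n
    induction n with
    | zero => simp [tl_one]
    | succ n ih =>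
      have e : tl 0 0 ((n + 1 : ℕ) : ZMod 3) = tl 0 0 n * tl 0 0 1 := by
        rw [tl_mul]
        congr 1 <;> push_cast <;> ring
      rw [e, ← mul_assoc, ih, mul_assoc, h.1, ← mul_assoc, tl_mul]
      congr 2 <;> push_cast <;> ring
  have h2 : ∀ n : ℕ, g * tl 0 n 0 = tl 0 (n * s) (n * r) * g := by
    intro n
    induction n with
    | zero => simp [tl_one]
    | succ n ih =>
      have e : tl 0 ((n + 1 : ℕ) : ZMod 3) 0 = tl 0 n 0 * tl 0 1 0 := by
        rw [tl_mul]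
        congr 1 <;> push_cast <;> ring
      rw [e, ← mul_assoc, ih, mul_assoc, h.2, ← mul_assoc, tl_mul]
      congr 2 <;> push_cast <;> ring
  have e : tl 0 b c = tl 0 (b.val : ZMod 3) 0 * tl 0 0 (c.val : ZMod 3) := by
    rw [tl_mul, ZMod.natCast_zmod_val, ZMod.natCast_zmod_val]
    congr 1 <;> ring
  rw [e, ← mul_assoc, h2, mul_assoc, h1, ← mul_assoc, tl_mul, ZMod.natCast_zmod_val, ZMod.natCast_zmod_val]
  congr 2 <;> ring

/-- the nilpotent operators of `U1` -/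
def nf (b c : ZMod 3) (v : V) : V := ![2 * c * v 3, c * v 4 + b * v 3, 2 * b * v 4, c * v 5, b * v 5, 0]

theorem nf_eq (b c : ZMod 3) (v : V) : nf b c v = tl 0 (-b) (-c) v - tl 0 b c v := by
  have h3 := three_eq
  funext i
  (revert i; simp only [nf, tf, _root_.Fin.forall_fin_succ, Fin.isValue, _root_.Cfsg.Agent.H776.Co.Lin.tl_apply, _root_.MulZeroClass.mul_zero, _root_.MulZeroClass.zero_mul, _root_.add_zero, _root_.mul_neg, _root_.neg_mul, _root_.ne_eq, _root_.OfNat.ofNat_ne_zero, _root_.not_false_eq_true, _root_.zero_pow, _root_.neg_zero, _root_.even_two, _root_.Even.neg_pow, _root_.Pi.sub_apply, _root_.Matrix.cons_val_zero, _root_.add_sub_add_right_eq_sub, _root_.add_sub_add_left_eq_sub, _root_.Matrix.cons_val_succ, _root_.Matrix.cons_val_fin_one, _root_.sub_self, _root_.implies_true, _root_.and_true, _root_.true_and]) <;> (repeat' with_reducible apply And.intro)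
  · linear_combination (2 * c * v 3) * h3
  · linear_combination (c * v 4 + b * v 3) * h3
  · linear_combination (2 * b * v 4) * h3
  · linear_combination (c * v 5) * h3
  · linear_combination (b * v 5) * h3

theorem nf_comm {g : L} {b c b' c' : ZMod 3} (h : g * tl 0 b c = tl 0 b' c' * g) (v : V) :
    g (nf b c v) = nf b' c' (g v) := by
  have h1 : g * tl 0 (-b) (-c) = tl 0 (-b') (-c') * g := by
    have e1 : tl 0 (-b) (-c) = (tl 0 b c)⁻¹ := by rw [tl_inv]; congr 1 <;> ring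
    have e2 : tl 0 (-b') (-c') = (tl 0 b' c')⁻¹ := by rw [tl_inv]; congr 1 <;> ring
    rw [e1, e2, eq_inv_mul_iff_mul_eq, ← mul_assoc, ← h, mul_inv_cancel_right]
  rw [nf_eq, nf_eq, map_sub]
  have e3 := congrArg (fun x : L => x v) h
  have e4 := congrArg (fun x : L => x v) h1
  simp only [LinearEquiv.mul_apply] at e3 e4
  rw [e3, e4]

theorem vec_eq (v : V) : v = v 0 • ![1, 0, 0, 0, 0, 0] + v 1 • ![0, 1, 0, 0, 0, 0] + v 2 • ![0, 0, 1, 0, 0, 0] +
    v 3 • ![0, 0, 0, 1, 0, 0] + v 4 • ![0, 0, 0, 0, 1, 0] + v 5 • ![0, 0, 0, 0, 0, 1] := by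
  funext i
  (revert i; simp only [_root_.Fin.forall_fin_succ, _root_.Nat.succ_eq_add_one, Nat.reduceAdd, Fin.isValue, _root_.Matrix.smul_cons, _root_.smul_eq_mul, _root_.mul_one, _root_.MulZeroClass.mul_zero, _root_.Matrix.smul_empty, _root_.Matrix.add_cons, _root_.Matrix.head_cons, _root_.add_zero, _root_.Matrix.tail_cons, _root_.zero_add, _root_.Matrix.empty_add_empty, _root_.Pi.add_apply, _root_.Matrix.cons_val_zero, _root_.Matrix.cons_val_succ, _root_.Fin.succ_zero_eq_one, _root_.Fin.succ_one_eq_two, Fin.reduceSucc, _root_.Matrix.cons_val_fin_one, _root_.IsEmpty.forall_iff, _root_.and_self])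

theorem formula1 {m : L} (h : Nm1 m 1 0 0 (-1)) {α β γ : ZMod 3} (he : m ![0, 0, 0, 0, 0, 1] = ![α, β, γ, 0, 0, 1])
    (v : V) : m v = ![v 2 + α * v 5, -v 1 + β * v 5, v 0 + γ * v 5, -v 4, v 3, v 5] := by
  have a01 : m * tl 0 0 1 = tl 0 1 0 * m := h.1
  have a10 : m * tl 0 1 0 = tl 0 0 (-1) * m := h.2
  have a0m : m * tl 0 0 (-1) = tl 0 (-1) 0 * m := by
    have := h.act 0 (-1)
    simpa only [_root_.MulZeroClass.mul_zero, _root_.mul_one, _root_.zero_add, _root_.mul_neg, _root_.neg_zero, _root_.add_zero] using this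
  have am0 : m * tl 0 (-1) 0 = tl 0 0 1 * m := by
    have := h.act (-1) 0
    simpa only [_root_.MulZeroClass.mul_zero, _root_.mul_one, _root_.add_zero, _root_.mul_neg, _root_.neg_neg] using this
  have e3 : m ![0, 0, 0, 1, 0, 0] = ![0, 0, 0, 0, 1, 0] := by
    have h1 := nf_comm a01 ![0, 0, 0, 0, 0, 1]
    rw [he] at h1
    have h2 : nf 0 1 ![0, 0, 0, 0, 0, 1] = ![0, 0, 0, 1, 0, 0] := by decide
    have h3 : nf 1 0 ![α, β, γ, 0, 0, 1] = ![0, 0, 0, 0, 1, 0] := by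
      funext i
      (revert i; simp [nf, _root_.Fin.forall_fin_succ])
    rw [h2, h3] at h1
    exact h1
  have e4 : m ![0, 0, 0, 0, 1, 0] = ![0, 0, 0, -1, 0, 0] := by
    have h1 := nf_comm a10 ![0, 0, 0, 0, 0, 1]
    rw [he] at h1
    have h2 : nf 1 0 ![0, 0, 0, 0, 0, 1] = ![0, 0, 0, 0, 1, 0] := by decide
    have h3 : nf 0 (-1) ![α, β, γ, 0, 0, 1] = ![0, 0, 0, -1, 0, 0] := by
      funext i
      (revert i; simp [nf, _root_.Fin.forall_fin_succ])
    rw [h2, h3] at h1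
    exact h1
  have e0 : m ![1, 0, 0, 0, 0, 0] = ![0, 0, 1, 0, 0, 0] := by
    have h1 := nf_comm a0m ![0, 0, 0, 1, 0, 0]
    rw [e3] at h1
    have h2 : nf 0 (-1) ![0, 0, 0, 1, 0, 0] = ![1, 0, 0, 0, 0, 0] := by decide
    have h3 : nf (-1) 0 ![0, 0, 0, 0, 1, 0] = ![0, 0, 1, 0, 0, 0] := by decide
    rw [h2, h3] at h1
    exact h1
  have e1 : m ![0, 1, 0, 0, 0, 0] = ![0, -1, 0, 0, 0, 0] := by
    have h1 := nf_comm a01 ![0, 0, 0, 0, 1, 0]
    rw [e4] at h1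
    have h2 : nf 0 1 ![0, 0, 0, 0, 1, 0] = ![0, 1, 0, 0, 0, 0] := by decide
    have h3 : nf 1 0 ![0, 0, 0, -1, 0, 0] = ![0, -1, 0, 0, 0, 0] := by decide
    rw [h2, h3] at h1
    exact h1
  have e2 : m ![0, 0, 1, 0, 0, 0] = ![1, 0, 0, 0, 0, 0] := by
    have h1 := nf_comm am0 ![0, 0, 0, 0, 1, 0]
    rw [e4] at h1
    have h2 : nf (-1) 0 ![0, 0, 0, 0, 1, 0] = ![0, 0, 1, 0, 0, 0] := by decide
    have h3 : nf 0 1 ![0, 0, 0, -1, 0, 0] = ![1, 0, 0, 0, 0, 0] := by decide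
    rw [h2, h3] at h1
    exact h1
  rw [vec_eq v]
  simp only [map_add, map_smul, e0, e1, e2, e3, e4, he]
  funext i
  (revert i; simp only [_root_.Fin.forall_fin_succ, Fin.isValue, _root_.Nat.succ_eq_add_one, Nat.reduceAdd, _root_.Matrix.smul_cons, _root_.smul_eq_mul, _root_.MulZeroClass.mul_zero, _root_.mul_one, _root_.Matrix.smul_empty, _root_.mul_neg, _root_.Matrix.add_cons, _root_.Matrix.head_cons, _root_.add_zero, _root_.Matrix.tail_cons, _root_.zero_add, _root_.Matrix.empty_add_empty, _root_.Pi.add_apply, _root_.Matrix.cons_val, _root_.Matrix.cons_val_one, _root_.Matrix.cons_val_zero, _root_.add_right_inj, _root_.Matrix.cons_val_succ, _root_.Matrix.cons_val_fin_one, _root_.implies_true, _root_.and_self, _root_.and_true]) <;> (repeat' with_reducible apply And.intro) <;> ring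

/-- the last coordinate is preserved by conjugates of `tl a b c` -/
theorem last1 {g : L} {q p s r : ZMod 3} (h : Nm1 g q p s r) : ∃ δ : ZMod 3, ∀ v : V, g v 5 = δ * v 5 := by
  have key : ∀ (b c : ZMod 3) (w : V), g (nf b c w) 5 = 0 := by
    intro b c w
    rw [nf_comm (h.act b c)]
    rfl
  refine ⟨g ![0, 0, 0, 0, 0, 1] 5, fun v => ?_⟩
  have e3 : g ![0, 0, 0, 1, 0, 0] 5 = 0 := key 0 1 ![0, 0, 0, 0, 0, 1]
  have e4 : g ![0, 0, 0, 0, 1, 0] 5 = 0 := key 1 0 ![0, 0, 0, 0, 0, 1]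
  have e0 : g ![1, 0, 0, 0, 0, 0] 5 = 0 := key 0 (-1) ![0, 0, 0, 1, 0, 0]
  have e1 : g ![0, 1, 0, 0, 0, 0] 5 = 0 := key 0 1 ![0, 0, 0, 0, 1, 0]
  have e2 : g ![0, 0, 1, 0, 0, 0] 5 = 0 := key (-1) 0 ![0, 0, 0, 0, 1, 0]
  conv_lhs => rw [vec_eq v]
  simp only [map_add, map_smul, Pi.add_apply, Pi.smul_apply, e0, e1, e2, e3, e4, smul_eq_mul]
  ring

theorem tl_mem (a b c : ZMod 3) : tl a b c ∈ T := ⟨a, b, c, rfl⟩

theorem tl_congr {a b c a' b' c' : ZMod 3} (ha : a = a') (hb : b = b') (hc : c = c') : tl a b c = tl a' b' c' := by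
  rw [ha, hb, hc]

theorem sq_one {x : ZMod 3} (h : x ≠ 0) : x * x = 1 := by
  revert x
  decide

theorem zpow_z (c : ZMod 3) : tl 0 0 c ∈ zpowers (tl 0 0 1) := by
  have h : ∀ n : ℕ, tl 0 0 1 ^ n = tl 0 0 n := by
    intro n
    induction n with
    | zero => simp [tl_one]
    | succ n ih =>
      rw [pow_succ, ih, tl_mul]
      refine tl_congr (by ring) (by ring) (by push_cast; ring)
  have h1 := h c.val
  rw [ZMod.natCast_zmod_val] at h1
  rw [← h1]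
  exact pow_mem (mem_zpowers _) _

theorem tl_mm {a b c a' b' c' x y z u v w : ZMod 3} (h1 : a + a' = x + u) (h2 : b + b' = y + v)
    (h3 : c + c' + a * b' = z + w + x * v) : tl a b c * tl a' b' c' = tl x y z * tl u v w := by
  rw [tl_mul, tl_mul, h1, h2, h3]

theorem Nm1.act' {g : L} {q p s r : ZMod 3} (h : Nm1 g q p s r) {b c b' c' : ZMod 3} (hb : b * s + c * q = b')
    (hc : b * r + c * p = c') : g * tl 0 b c = tl 0 b' c' * g := by
  rw [h.act, hb, hc]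

/-- a transvection with centre `tl 0 1 0`, from an antidiagonal element -/
theorem exists_b_aux {G : Subgroup L} (hTG : T ≤ G) {x : L} (hxG : x ∈ G) {q r' : ZMod 3} (hq : q ≠ 0) (hr' : r' ≠ 0)
    (hN' : Nm1 x q 0 0 r') : ∃ b ∈ G, Nm1 b 1 1 1 0 ∧ ∀ v : V, b v 5 = v 5 := by
  have hqq := sq_one hq
  have hrr := sq_one hr'
  obtain ⟨δ, hδ⟩ := last1 hN'
  -- the conjugate of `tl 1 0 0`
  have f1 : x⁻¹ * tl 0 0 1 = tl 0 r' 0 * x⁻¹ := by
    have h := hN'.act r' 0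
    have e : tl 0 (r' * 0 + 0 * q) (r' * r' + 0 * 0) = tl 0 0 1 := tl_congr rfl (by ring) (by linear_combination hrr)
    rw [e] at h
    rw [inv_mul_eq_iff_eq_mul, ← mul_assoc, h, mul_inv_cancel_right]
  have f2 : x⁻¹ * tl 0 1 0 = tl 0 0 q * x⁻¹ := by
    have h := hN'.act 0 q
    have e : tl 0 (0 * 0 + q * q) (0 * r' + q * 0) = tl 0 1 0 := tl_congr rfl (by linear_combination hqq) (by ring)
    rw [e] at h
    rw [inv_mul_eq_iff_eq_mul, ← mul_assoc, h, mul_inv_cancel_right]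
  have g1 : (x * tl 1 0 0 * x⁻¹) * tl 0 0 1 = tl 0 (r' * q) 1 * (x * tl 1 0 0 * x⁻¹) := by
    have a1 : tl 1 0 0 * tl 0 r' 0 = tl 0 r' r' * tl 1 0 0 := by
      exact tl_mm (by ring) (by ring) (by ring)
    have a2 : x * tl 0 r' r' = tl 0 (r' * q) 1 * x := by
      exact hN'.act' (by ring) (by linear_combination hrr)
    rw [mul_assoc _ x⁻¹, f1, ← mul_assoc, mul_assoc x, a1, ← mul_assoc, a2]
    simp only [mul_assoc]
  have g2 : (x * tl 1 0 0 * x⁻¹) * tl 0 1 0 = tl 0 1 0 * (x * tl 1 0 0 * x⁻¹) := by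
    have a1 : tl 1 0 0 * tl 0 0 q = tl 0 0 q * tl 1 0 0 := by
      exact tl_mm (by ring) (by ring) (by ring)
    have a2 : x * tl 0 0 q = tl 0 1 0 * x := by
      exact hN'.act' (by linear_combination hqq) (by ring)
    rw [mul_assoc _ x⁻¹, f2, ← mul_assoc, mul_assoc x, a1, ← mul_assoc, a2]
    simp only [mul_assoc]
  have hc : x * tl 1 0 0 * x⁻¹ ∈ G := G.mul_mem (G.mul_mem hxG (hTG (tl_mem _ _ _))) (G.inv_mem hxG)
  have hl : ∀ v : V, (x * tl 1 0 0 * x⁻¹) v 5 = v 5 := by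
    intro v
    have e1 : (x * tl 1 0 0 * x⁻¹) v = x (tl 1 0 0 (x⁻¹ v)) := rfl
    have e2 : x (x⁻¹ v) = v := by
      show (x * x⁻¹) v = v
      rw [mul_inv_cancel]
      rfl
    rw [e1, hδ]
    conv_rhs => rw [← e2, hδ]
    rfl
  have hN2 : Nm1 (x * tl 1 0 0 * x⁻¹) (r' * q) 1 1 0 := ⟨g1, g2⟩
  generalize x * tl 1 0 0 * x⁻¹ = y at *
  have hε : r' * q = 1 ∨ r' * q = -1 := by
    revert hq hr'
    clear * -
    revert r' q
    decide
  rcases hε with h | h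
  · rw [h] at hN2
    exact ⟨y, hc, hN2, hl⟩
  · rw [h] at hN2
    refine ⟨y⁻¹, G.inv_mem hc, ⟨?_, ?_⟩, ?_⟩
    · have h2 := hN2.act 1 1
      have e : tl 0 (1 * 1 + 1 * -1) (1 * 0 + 1 * 1) = tl 0 0 1 := tl_congr rfl (by ring) (by ring)
      rw [e] at h2
      rw [inv_mul_eq_iff_eq_mul, ← mul_assoc, h2, mul_inv_cancel_right]
    · rw [inv_mul_eq_iff_eq_mul, ← mul_assoc, hN2.2, mul_inv_cancel_right]
    · intro v
      have e2 : y (y⁻¹ v) = v := by
        show (y * y⁻¹) v = v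
        rw [mul_inv_cancel]
        rfl
      rw [← hl (y⁻¹ v), e2]

/-- a transvection with centre `tl 0 1 0` -/
theorem exists_b {G : Subgroup L} (hTG : T ≤ G)
    (h1 : ∃ g ∈ G, (∀ u ∈ U1, g * u * g⁻¹ ∈ U1) ∧ g * tl 0 0 1 * g⁻¹ ∉ zpowers (tl 0 0 1)) :
    ∃ b ∈ G, Nm1 b 1 1 1 0 ∧ ∀ v : V, b v 5 = v 5 := by
  obtain ⟨g, hg, hU, hz⟩ := h1
  obtain ⟨q, p, hqp⟩ := hU (tl 0 0 1) ⟨0, 1, rfl⟩
  obtain ⟨s, r, hsr⟩ := hU (tl 0 1 0) ⟨1, 0, rfl⟩
  have hN : Nm1 g q p s r := ⟨mul_inv_eq_iff_eq_mul.1 hqp, mul_inv_eq_iff_eq_mul.1 hsr⟩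
  have hq : q ≠ 0 := by
    rintro rfl
    exact hz (by rw [hqp]; exact zpow_z p)
  have hqq := sq_one hq
  have e1 : (tl (-(p * q)) 0 0 * g * tl (-(s * q)) 0 0) * tl 0 0 1 = tl 0 q 0 * (tl (-(p * q)) 0 0 * g * tl (-(s * q)) 0 0) := by
    have a1 : tl (-(s * q)) 0 0 * tl 0 0 1 = tl 0 0 1 * tl (-(s * q)) 0 0 := by
      exact tl_mm (by ring) (by ring) (by ring)
    have a2 : tl (-(p * q)) 0 0 * tl 0 q p = tl 0 q 0 * tl (-(p * q)) 0 0 := by
      exact tl_mm (by ring) (by ring) (by linear_combination (-p) * hqq)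
    rw [mul_assoc _ (tl (-(s * q)) 0 0), a1, ← mul_assoc, mul_assoc (tl (-(p * q)) 0 0), hN.1, ← mul_assoc, a2]
    simp only [mul_assoc]
  have e2 : (tl (-(p * q)) 0 0 * g * tl (-(s * q)) 0 0) * tl 0 1 0 =
      tl 0 0 (r - s * q * p) * (tl (-(p * q)) 0 0 * g * tl (-(s * q)) 0 0) := by
    have a1 : tl (-(s * q)) 0 0 * tl 0 1 0 = tl 0 1 (-(s * q)) * tl (-(s * q)) 0 0 := by
      exact tl_mm (by ring) (by ring) (by ring)
    have a3 : g * tl 0 1 (-(s * q)) = tl 0 0 (r - s * q * p) * g := by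
      exact hN.act' (by linear_combination (-s) * hqq) (by ring)
    have a2 : tl (-(p * q)) 0 0 * tl 0 0 (r - s * q * p) = tl 0 0 (r - s * q * p) * tl (-(p * q)) 0 0 := by
      exact tl_mm (by ring) (by ring) (by ring)
    rw [mul_assoc _ (tl (-(s * q)) 0 0), a1, ← mul_assoc, mul_assoc (tl (-(p * q)) 0 0), a3, ← mul_assoc, a2]
    simp only [mul_assoc]
  refine exists_b_aux hTG (G.mul_mem (G.mul_mem (hTG (tl_mem _ _ _)) hg) (hTG (tl_mem _ _ _))) hq ?_ ⟨e1, e2⟩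
  intro h0
  rw [h0, tl_one, one_mul] at e2
  exact one_ne_zero (tl_eq_one (mul_left_cancel (e2.trans (mul_one _).symm))).2.1

theorem vec_norm {u : V} (h3 : u 3 = 0) (h4 : u 4 = 0) (h5 : u 5 = 1) : u = ![u 0, u 1, u 2, 0, 0, 1] := by
  funext i
  fin_cases i <;> simp [h3, h4, h5]

theorem tf_norm {w : V} (h5 : w 5 = 1) :
    ∃ α β γ : ZMod 3, tf 0 (-w 4) (-w 3) w = ![α, β, γ, 0, 0, 1] := by
  have e3 : tf 0 (-w 4) (-w 3) w 3 = 0 := by simp only [tf, h5, _root_.Fin.isValue, _root_.MulZeroClass.mul_zero, _root_.MulZeroClass.zero_mul, _root_.add_zero, _root_.mul_neg, _root_.neg_mul, _root_.ne_eq, _root_.OfNat.ofNat_ne_zero, _root_.not_false_eq_true, _root_.zero_pow, _root_.neg_zero, _root_.even_two, _root_.Even.neg_pow, _root_.mul_one, _root_.add_neg_cancel, _root_.Matrix.cons_val]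
  have e4 : tf 0 (-w 4) (-w 3) w 4 = 0 := by simp only [tf, h5, _root_.Fin.isValue, _root_.MulZeroClass.mul_zero, _root_.MulZeroClass.zero_mul, _root_.add_zero, _root_.mul_neg, _root_.neg_mul, _root_.ne_eq, _root_.OfNat.ofNat_ne_zero, _root_.not_false_eq_true, _root_.zero_pow, _root_.neg_zero, _root_.even_two, _root_.Even.neg_pow, _root_.mul_one, _root_.add_neg_cancel, _root_.Matrix.cons_val]
  have e5 : tf 0 (-w 4) (-w 3) w 5 = 1 := by simp only [tf, h5, _root_.Fin.isValue, _root_.MulZeroClass.mul_zero, _root_.MulZeroClass.zero_mul, _root_.add_zero, _root_.mul_neg, _root_.neg_mul, _root_.ne_eq, _root_.OfNat.ofNat_ne_zero, _root_.not_false_eq_true, _root_.zero_pow, _root_.neg_zero, _root_.even_two, _root_.Even.neg_pow, _root_.mul_one, _root_.add_neg_cancel, _root_.Matrix.cons_val]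
  exact ⟨_, _, _, vec_norm e3 e4 e5⟩

theorem exists_m_aux {G : Subgroup L} (hTG : T ≤ G) {m0 : L} (hG0 : m0 ∈ G) (e1 : m0 * tl 0 0 1 = tl 0 1 0 * m0)
    (e2 : m0 * tl 0 1 0 = tl 0 0 (-1) * m0) (hl0 : ∀ v : V, m0 v 5 = v 5) :
    ∃ m ∈ G, ∃ α β γ : ZMod 3, ∀ v, m v = ![v 2 + α * v 5, -v 1 + β * v 5, v 0 + γ * v 5, -v 4, v 3, v 5] := by
  obtain ⟨w, hw⟩ : ∃ w, w = m0 ![0, 0, 0, 0, 0, 1] := ⟨_, rfl⟩
  have hw5 : w 5 = 1 := by rw [hw, hl0]; rfl
  have hNm : Nm1 (tl 0 (-w 4) (-w 3) * m0) 1 0 0 (-1) := by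
    constructor
    · have a : tl 0 (-w 4) (-w 3) * tl 0 1 0 = tl 0 1 0 * tl 0 (-w 4) (-w 3) := by
        exact tl_mm (by ring) (by ring) (by ring)
      rw [mul_assoc, e1, ← mul_assoc, a, mul_assoc]
    · have a : tl 0 (-w 4) (-w 3) * tl 0 0 (-1) = tl 0 0 (-1) * tl 0 (-w 4) (-w 3) := by
        exact tl_mm (by ring) (by ring) (by ring)
      rw [mul_assoc, e2, ← mul_assoc, a, mul_assoc]
  obtain ⟨α, β, γ, he⟩ := tf_norm hw5
  refine ⟨_, G.mul_mem (hTG (tl_mem _ _ _)) hG0, α, β, γ, formula1 hNm ?_⟩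
  rw [LinearEquiv.mul_apply, ← hw, tl_apply, he]

/-- the element of order 4 -/
theorem exists_m {G : Subgroup L} (hTG : T ≤ G) {b : L} (hb : b ∈ G) (hN : Nm1 b 1 1 1 0) (hl : ∀ v : V, b v 5 = v 5) :
    ∃ m ∈ G, ∃ α β γ : ZMod 3, ∀ v, m v = ![v 2 + α * v 5, -v 1 + β * v 5, v 0 + γ * v 5, -v 4, v 3, v 5] := by
  have e1 : (tl (-1) 0 0 * b * tl (-1) 0 0) * tl 0 0 1 = tl 0 1 0 * (tl (-1) 0 0 * b * tl (-1) 0 0) := by
    have a1 : tl (-1) 0 0 * tl 0 0 1 = tl 0 0 1 * tl (-1) 0 0 := by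
      exact tl_mm (by ring) (by ring) (by ring)
    have a2 : tl (-1) 0 0 * tl 0 1 1 = tl 0 1 0 * tl (-1) 0 0 := by
      exact tl_mm (by ring) (by ring) (by ring)
    rw [mul_assoc _ (tl (-1) 0 0), a1, ← mul_assoc, mul_assoc (tl (-1) 0 0), hN.1, ← mul_assoc, a2]
    simp only [mul_assoc]
  have e2 : (tl (-1) 0 0 * b * tl (-1) 0 0) * tl 0 1 0 = tl 0 0 (-1) * (tl (-1) 0 0 * b * tl (-1) 0 0) := by
    have a1 : tl (-1) 0 0 * tl 0 1 0 = tl 0 1 (-1) * tl (-1) 0 0 := by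
      exact tl_mm (by ring) (by ring) (by ring)
    have a3 : b * tl 0 1 (-1) = tl 0 0 (-1) * b := by
      exact hN.act' (by ring) (by ring)
    have a2 : tl (-1) 0 0 * tl 0 0 (-1) = tl 0 0 (-1) * tl (-1) 0 0 := by
      exact tl_mm (by ring) (by ring) (by ring)
    rw [mul_assoc _ (tl (-1) 0 0), a1, ← mul_assoc, mul_assoc (tl (-1) 0 0), a3, ← mul_assoc, a2]
    simp only [mul_assoc]
  have hG0 : tl (-1) 0 0 * b * tl (-1) 0 0 ∈ G := G.mul_mem (G.mul_mem (hTG (tl_mem _ _ _)) hb) (hTG (tl_mem _ _ _))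
  have hl0 : ∀ v : V, (tl (-1) 0 0 * b * tl (-1) 0 0) v 5 = v 5 := by
    intro v
    show b (tl (-1) 0 0 v) 5 = v 5
    rw [hl]
    rfl
  exact exists_m_aux hTG hG0 e1 e2 hl0

/-- the 3-group `1 + rad²` -/
def S1 : Subgroup L where
  carrier := {g | ∃ p q r : ZMod 3, ∀ v, g v = ![v 0 + p * v 5, v 1 + q * v 5, v 2 + r * v 5, v 3, v 4, v 5]}
  mul_mem' := by
    rintro g h ⟨p, q, r, hg⟩ ⟨p', q', r', hh⟩
    refine ⟨p + p', q + q', r + r', fun v => ?_⟩
    rw [LinearEquiv.mul_apply, hh, hg]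
    funext i
    (revert i; simp only [_root_.Fin.forall_fin_succ, _root_.Nat.succ_eq_add_one, Nat.reduceAdd, Fin.isValue, _root_.Matrix.cons_val_zero, _root_.Matrix.cons_val, _root_.Matrix.cons_val_one, _root_.Matrix.cons_val_succ, _root_.implies_true, _root_.and_true]) <;> (repeat' with_reducible apply And.intro) <;> ring
  one_mem' := ⟨0, 0, 0, fun v => by
    funext i
    (revert i; simp only [_root_.Fin.forall_fin_succ, _root_.LinearEquiv.coe_one, _root_.id_eq, _root_.Nat.succ_eq_add_one, Nat.reduceAdd, Fin.isValue, _root_.MulZeroClass.zero_mul, _root_.add_zero, _root_.Matrix.cons_val_zero, _root_.Matrix.cons_val_succ, _root_.Fin.succ_zero_eq_one, _root_.Fin.succ_one_eq_two, Fin.reduceSucc, _root_.Matrix.cons_val_fin_one, _root_.IsEmpty.forall_iff, _root_.and_self])⟩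
  inv_mem' := by
    rintro g ⟨p, q, r, hg⟩
    refine ⟨-p, -q, -r, fun v => ?_⟩
    have h1 : g ![v 0 + -p * v 5, v 1 + -q * v 5, v 2 + -r * v 5, v 3, v 4, v 5] = v := by
      rw [hg]
      funext i
      (revert i; simp only [_root_.Fin.forall_fin_succ, _root_.Nat.succ_eq_add_one, Nat.reduceAdd, Fin.isValue, _root_.neg_mul, _root_.Matrix.cons_val_zero, _root_.Matrix.cons_val, _root_.neg_add_cancel_right, _root_.Matrix.cons_val_one, _root_.Matrix.cons_val_succ, _root_.Fin.succ_zero_eq_one, _root_.Fin.succ_one_eq_two, Fin.reduceSucc, _root_.Matrix.cons_val_fin_one, _root_.IsEmpty.forall_iff, _root_.and_self])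
    have h2 : g⁻¹ v = g⁻¹ (g ![v 0 + -p * v 5, v 1 + -q * v 5, v 2 + -r * v 5, v 3, v 4, v 5]) := by rw [h1]
    rw [h2]
    show (g⁻¹ * g) _ = _
    rw [inv_mul_cancel]
    rfl

theorem S1_pgroup : IsPGroup 3 S1 := by
  rintro ⟨g, p, q, r, hg⟩
  refine ⟨1, Subtype.ext (LinearEquiv.ext fun v => ?_)⟩
  show (g ^ 3 ^ 1) v = v
  have h3 := three_eq
  rw [pow_one, pow_succ, pow_two, LinearEquiv.mul_apply, LinearEquiv.mul_apply, hg, hg, hg]
  funext i
  (revert i; simp only [_root_.Fin.forall_fin_succ, _root_.Nat.succ_eq_add_one, Nat.reduceAdd, Fin.isValue, _root_.Matrix.cons_val_zero, _root_.Matrix.cons_val, _root_.Matrix.cons_val_one, _root_.Matrix.cons_val_succ, _root_.Fin.succ_zero_eq_one, _root_.Fin.succ_one_eq_two, Fin.reduceSucc, _root_.Matrix.cons_val_fin_one, _root_.IsEmpty.forall_iff, _root_.and_true, _root_.true_and]) <;> (repeat' with_reducible apply And.intro)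
  · linear_combination (p * v 5) * h3
  · linear_combination (q * v 5) * h3
  · linear_combination (r * v 5) * h3

theorem S1_norm : ∀ t ∈ T, ∀ s ∈ S1, t * s * t⁻¹ ∈ S1 := by
  rintro _ ⟨a, b, c, rfl⟩ s ⟨p, q, r, hs⟩
  refine ⟨p + 2 * a * q + a ^ 2 * r, q + a * r, r, fun v => ?_⟩
  rw [tl_inv, LinearEquiv.mul_apply, LinearEquiv.mul_apply, hs, tl_apply, tl_apply]
  funext i
  (revert i; simp only [tf, _root_.Fin.forall_fin_succ, _root_.Nat.succ_eq_add_one, Nat.reduceAdd, Fin.isValue, _root_.mul_neg, _root_.neg_mul, _root_.even_two, _root_.Even.neg_pow, _root_.Matrix.cons_val_zero, _root_.Matrix.cons_val, _root_.Matrix.cons_val_one, _root_.neg_add_cancel_right, _root_.Matrix.cons_val_succ, _root_.implies_true, _root_.and_true]) <;> (repeat' with_reducible apply And.intro) <;> ring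

theorem S1_inf : ∀ s ∈ S1, s ∈ T → s = 1 := by
  rintro s ⟨p, q, r, hs⟩ ⟨a, b, c, rfl⟩
  have h1 := hs ![0, 0, 0, 0, 0, 1]
  have h2 := hs ![0, 0, 0, 0, 1, 0]
  have e1 := congrFun h1 4
  have e2 := congrFun h1 3
  have e3 := congrFun h2 3
  simp [tf] at e1 e2 e3
  rw [e1, e2, e3, tl_one]

theorem part1 {G : Subgroup L} (hG : Syl G)
    (h1 : ∃ g ∈ G, (∀ u ∈ U1, g * u * g⁻¹ ∈ U1) ∧ g * tl 0 0 1 * g⁻¹ ∉ zpowers (tl 0 0 1)) :
    ∃ i : ZMod 3, ∃ m ∈ G, ∀ v, m v = ![v 2 + i * v 5, -v 1, v 0 - i * v 5, -v 4, v 3, v 5] := by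
  obtain ⟨b, hb, hN, hl⟩ := exists_b hG.le h1
  obtain ⟨m, hm, α, β, γ, hmv⟩ := exists_m hG.le hb hN hl
  have h3 := three_eq
  -- `m ^ 4`
  have c1 : α + γ = 0 := by
    have hm4 : ∀ v, (m * m * (m * m)) v = ![v 0 + 2 * (α + γ) * v 5, v 1 + 0 * v 5, v 2 + 2 * (α + γ) * v 5, v 3, v 4, v 5] := by
      intro v
      rw [LinearEquiv.mul_apply, LinearEquiv.mul_apply, LinearEquiv.mul_apply, hmv, hmv, hmv, hmv]
      funext i
      (revert i; simp only [_root_.Fin.forall_fin_succ, _root_.Nat.succ_eq_add_one, Nat.reduceAdd, Fin.isValue, _root_.Matrix.cons_val, _root_.Matrix.cons_val_one, _root_.Matrix.cons_val_zero, _root_.neg_add_rev, _root_.neg_neg, _root_.neg_add_cancel_comm, _root_.MulZeroClass.zero_mul, _root_.add_zero, _root_.Matrix.cons_val_succ, _root_.implies_true, _root_.and_true, _root_.true_and]) <;> (repeat' with_reducible apply And.intro) <;> ring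
    have h4 := inf_bot hG S1_pgroup S1_norm S1_inf (m * m * (m * m)) ⟨_, _, _, hm4⟩
      (G.mul_mem (G.mul_mem hm hm) (G.mul_mem hm hm))
    have h5 := congrFun (hm4 ![0, 0, 0, 0, 0, 1]) 0
    rw [h4] at h5
    simp only [_root_.Fin.isValue, _root_.LinearEquiv.coe_one, _root_.id_eq, _root_.Matrix.cons_val_zero, _root_.Nat.succ_eq_add_one, _root_.Nat.reduceAdd, _root_.Matrix.cons_val, _root_.mul_one, _root_.zero_add, _root_.Matrix.cons_val_one, _root_.add_zero, _root_.zero_eq_mul] at h5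
    rcases h5 with h5 | h5
    · exact absurd h5 (by decide)
    · exact h5
  have c2 : β = 0 := by
    have hx : ∀ v, (tl (-1) 0 0 * m) v = ![v 2 + α * v 5 + 2 * v 1 - 2 * β * v 5 + v 0 + γ * v 5, -v 1 + β * v 5 - v 0 - γ * v 5,
        v 0 + γ * v 5, -v 4 - v 3, v 3, v 5] := by
      intro v
      rw [LinearEquiv.mul_apply, hmv, tl_apply]
      funext i
      (revert i; simp only [tf, _root_.Fin.forall_fin_succ, _root_.Nat.succ_eq_add_one, Nat.reduceAdd, Fin.isValue, _root_.Matrix.cons_val_zero, _root_.mul_neg, _root_.mul_one, _root_.Matrix.cons_val_one, _root_.neg_mul, _root_.MulZeroClass.mul_zero, _root_.Matrix.cons_val, _root_.MulZeroClass.zero_mul, _root_.neg_zero, _root_.add_zero, _root_.even_two, _root_.Even.neg_pow, _root_.one_pow, _root_.one_mul, _root_.ne_eq, _root_.OfNat.ofNat_ne_zero, _root_.not_false_eq_true, _root_.zero_pow, _root_.neg_add_rev, _root_.Matrix.cons_val_succ, _root_.implies_true,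 _root_.and_true, _root_.true_and]) <;> (repeat' with_reducible apply And.intro) <;> ring
    have hX : tl (-1) 0 0 * m ∈ G := G.mul_mem (hG.le (tl_mem _ _ _)) hm
    generalize tl (-1) 0 0 * m = X at hx hX
    have hm4 : ∀ v, (X * (X * X)) v =
        ![v 0 + (β - (α + γ)) * v 5, v 1 + (β - (α + γ)) * v 5, v 2 + (β - (α + γ)) * v 5, v 3, v 4, v 5] := by
      intro v
      rw [LinearEquiv.mul_apply, LinearEquiv.mul_apply, hx, hx, hx]
      funext i
      (revert i; simp only [_root_.Fin.forall_fin_succ, _root_.Nat.succ_eq_add_one, Nat.reduceAdd, Fin.isValue, _root_.Matrix.cons_val, _root_.Matrix.cons_val_one, _root_.Matrix.cons_val_zero, _root_.neg_sub, _root_.sub_neg_eq_add, _root_.Matrix.cons_val_succ, _root_.Matrix.cons_val_fin_one, _root_.implies_true, _root_.and_true, _root_.true_and]) <;> (repeat' with_reducible apply And.intro)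
      · linear_combination (α * v 5 - β * v 5 + γ * v 5) * h3
      · linear_combination 0
      · linear_combination (α * v 5 - β * v 5 + γ * v 5) * h3
      · linear_combination 0
      · linear_combination 0
    have h4 := inf_bot hG S1_pgroup S1_norm S1_inf (X * (X * X)) ⟨_, _, _, hm4⟩
      (G.mul_mem hX (G.mul_mem hX hX))
    have h5 := congrFun (hm4 ![0, 0, 0, 0, 0, 1]) 0
    rw [h4] at h5
    simp at h5
    linear_combination c1 - h5
  refine ⟨α, m, hm, fun v => ?_⟩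
  rw [hmv, c2]
  have h5 : γ = -α := by linear_combination c1
  rw [h5]
  funext i
  (revert i; simp only [_root_.Fin.forall_fin_succ, _root_.Nat.succ_eq_add_one, Nat.reduceAdd, Fin.isValue, _root_.MulZeroClass.zero_mul, _root_.add_zero, _root_.neg_mul, _root_.Matrix.cons_val_zero, _root_.Matrix.cons_val_succ, _root_.implies_true, _root_.and_true, _root_.true_and]) <;> (repeat' with_reducible apply And.intro)
  ring

end Cfsg.Agent.H119.Co1
end

-- part: H119/Co1/ExplB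
section
/-!
# S5227, task `Lin.explicit`, second half (helper119)
-/

set_option autoImplicit false
set_option linter.style.longLine false

namespace Cfsg.Agent.H119.Co1

open Cfsg.Agent.H776.Co.Lin Subgroup

/-- the action of `g` on `U2` -/
def Nm2 (g : L) (q p s r : ZMod 3) : Prop := g * tl 0 0 1 = tl q 0 p * g ∧ g * tl 1 0 0 = tl s 0 r * g

theorem Nm2.act {g : L} {q p s r : ZMod 3} (h : Nm2 g q p s r) (b c : ZMod 3) :
    g * tl b 0 c = tl (b * s + c * q) 0 (b * r + c * p) * g := by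
  have h1 : ∀ n : ℕ, g * tl 0 0 n = tl (n * q) 0 (n * p) * g := by
    intro n
    induction n with
    | zero => simp [tl_one]
    | succ n ih =>
      have e : tl 0 0 ((n + 1 : ℕ) : ZMod 3) = tl 0 0 n * tl 0 0 1 := by
        rw [tl_mul]
        congr 1 <;> push_cast <;> ring
      rw [e, ← mul_assoc, ih, mul_assoc, h.1, ← mul_assoc, tl_mul]
      congr 2 <;> push_cast <;> ring
  have h2 : ∀ n : ℕ, g * tl n 0 0 = tl (n * s) 0 (n * r) * g := by
    intro n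
    induction n with
    | zero => simp [tl_one]
    | succ n ih =>
      have e : tl ((n + 1 : ℕ) : ZMod 3) 0 0 = tl n 0 0 * tl 1 0 0 := by
        rw [tl_mul]
        congr 1 <;> push_cast <;> ring
      rw [e, ← mul_assoc, ih, mul_assoc, h.2, ← mul_assoc, tl_mul]
      congr 2 <;> push_cast <;> ring
  have e : tl b 0 c = tl (b.val : ZMod 3) 0 0 * tl 0 0 (c.val : ZMod 3) := by
    rw [tl_mul, ZMod.natCast_zmod_val, ZMod.natCast_zmod_val]
    congr 1 <;> ring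
  rw [e, ← mul_assoc, h2, mul_assoc, h1, ← mul_assoc, tl_mul, ZMod.natCast_zmod_val, ZMod.natCast_zmod_val]
  congr 2 <;> ring

theorem Nm2.act' {g : L} {q p s r : ZMod 3} (h : Nm2 g q p s r) {b c b' c' : ZMod 3} (hb : b * s + c * q = b')
    (hc : b * r + c * p = c') : g * tl b 0 c = tl b' 0 c' * g := by
  rw [h.act, hb, hc]

/-- the nilpotent operators of `U2` -/
def mf (a c : ZMod 3) (v : V) : V := ![2 * a * v 1 + 2 * c * v 3, a * v 2 + c * v 4, 0, a * v 4 + c * v 5, 0, 0]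

theorem mf_eq (a c : ZMod 3) (v : V) : mf a c v = tl (-a) 0 (-c) v - tl a 0 c v := by
  have h3 := three_eq
  funext i
  (revert i; simp only [mf, tf, _root_.Fin.forall_fin_succ, Fin.isValue, _root_.Cfsg.Agent.H776.Co.Lin.tl_apply, _root_.mul_neg, _root_.neg_mul, _root_.even_two, _root_.Even.neg_pow, _root_.neg_neg, _root_.MulZeroClass.zero_mul, _root_.add_zero, _root_.MulZeroClass.mul_zero, _root_.ne_eq, _root_.OfNat.ofNat_ne_zero, _root_.not_false_eq_true, _root_.zero_pow, _root_.Pi.sub_apply, _root_.Matrix.cons_val_zero, _root_.add_sub_add_right_eq_sub, _root_.Matrix.cons_val_succ, _root_.sub_self, _root_.Matrix.cons_val_fin_one, _root_.implies_true, _root_.and_true, _root_.true_and]) <;> (repeat' with_reducible apply And.intro)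
  · linear_combination (2 * a * v 1 + 2 * c * v 3) * h3
  · linear_combination (a * v 2 + c * v 4) * h3
  · linear_combination (a * v 4 + c * v 5) * h3

theorem mf_comm {g : L} {b c b' c' : ZMod 3} (h : g * tl b 0 c = tl b' 0 c' * g) (v : V) :
    g (mf b c v) = mf b' c' (g v) := by
  have h1 : g * tl (-b) 0 (-c) = tl (-b') 0 (-c') * g := by
    have e1 : tl (-b) 0 (-c) = (tl b 0 c)⁻¹ := by rw [tl_inv]; congr 1 <;> ring
    have e2 : tl (-b') 0 (-c') = (tl b' 0 c')⁻¹ := by rw [tl_inv]; congr 1 <;> ring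
    rw [e1, e2, eq_inv_mul_iff_mul_eq, ← mul_assoc, ← h, mul_inv_cancel_right]
  rw [mf_eq, mf_eq, map_sub]
  have e3 := congrArg (fun x : L => x v) h
  have e4 := congrArg (fun x : L => x v) h1
  simp only [LinearEquiv.mul_apply] at e3 e4
  rw [e3, e4]

theorem formula2 {m : L} (h : Nm2 m (-1) 0 0 1) {α β γ : ZMod 3} (h0 : m ![1, 0, 0, 0, 0, 0] 0 = 1)
    (h1 : m ![0, 1, 0, 0, 0, 0] 0 = 0) (h2 : m ![0, 0, 1, 0, 0, 0] 0 = α) (h3 : m ![0, 0, 0, 1, 0, 0] 0 = 0)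
    (h4 : m ![0, 0, 0, 0, 1, 0] 0 = β) (h5 : m ![0, 0, 0, 0, 0, 1] 0 = γ)
    (v : V) : m v = ![v 0 + α * v 2 + β * v 4 + γ * v 5, -v 3, v 5, v 1, -v 4, v 2] := by
  have r0 : ∀ v : V, m v 0 = v 0 + α * v 2 + β * v 4 + γ * v 5 := by
    intro v
    conv_lhs => rw [vec_eq v]
    simp only [map_add, map_smul, Pi.add_apply, Pi.smul_apply, h0, h1, h2, h3, h4, h5, smul_eq_mul]
    ring
  have a10 : m * tl 1 0 0 = tl 0 0 1 * m := h.2
  have a01 : m * tl 0 0 1 = tl (-1) 0 0 * m := h.1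
  have k10 : ∀ v, m (mf 1 0 v) = mf 0 1 (m v) := mf_comm a10
  have k01 : ∀ v, m (mf 0 1 v) = mf (-1) 0 (m v) := mf_comm a01
  have t3 := three_eq
  have r3 : ∀ v : V, m v 3 = v 1 := by
    intro v
    have e := congrFun (k10 v) 0
    rw [r0] at e
    simp only [mf, _root_.mul_one, _root_.Fin.isValue, _root_.MulZeroClass.mul_zero, _root_.MulZeroClass.zero_mul, _root_.add_zero, _root_.one_mul, _root_.Matrix.cons_val_zero, _root_.Matrix.cons_val, _root_.zero_add, _root_.mul_eq_mul_left_iff] at e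
    rcases e with e | e
    · exact e.symm
    · exact absurd e (by decide)
  have r1 : ∀ v : V, m v 1 = -v 3 := by
    intro v
    have e := congrFun (k01 v) 0
    rw [r0] at e
    simp [mf] at e
    linear_combination (-1) * e + (v 3 + m v 1) * t3
  have r4 : ∀ v : V, m v 4 = -v 4 := by
    intro v
    have e := congrFun (k10 v) 1
    rw [r1] at e
    simp [mf] at e
    exact e.symm
  have r2 : ∀ v : V, m v 2 = v 5 := by
    intro v
    have e := congrFun (k01 v) 1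
    rw [r1] at e
    simp [mf] at e
    exact e.symm
  have r5 : ∀ v : V, m v 5 = v 2 := by
    intro v
    have e := congrFun (k10 v) 3
    rw [r3] at e
    simp [mf] at e
    exact e.symm
  funext i
  fin_cases i
  · exact r0 v
  · exact r1 v
  · exact r2 v
  · exact r3 v
  · exact r4 v
  · exact r5 v

/-- `e0` is an eigenvector -/
theorem first2 {g : L} {q p s r : ZMod 3} (h : Nm2 g q p s r) :
    ∃ δ : ZMod 3, δ ≠ 0 ∧ g ![1, 0, 0, 0, 0, 0] = δ • ![1, 0, 0, 0, 0, 0] := by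
  have hk : g ![1, 0, 0, 0, 0, 0] = mf (-s) (-r) (mf s r (g ![0, 0, 1, 0, 0, 0])) := by
    have e1 : (![1, 0, 0, 0, 0, 0] : V) = mf (-1) 0 (mf 1 0 ![0, 0, 1, 0, 0, 0]) := by decide
    rw [e1, mf_comm (h.act' (b := -1) (c := 0) (b' := -s) (c' := -r) (by ring) (by ring)),
      mf_comm (h.act' (b := 1) (c := 0) (b' := s) (c' := r) (by ring) (by ring))]
  have h0 : ∀ i : Fin 6, i ≠ 0 → g ![1, 0, 0, 0, 0, 0] i = 0 := by
    intro i hi
    rw [hk]
    fin_cases i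
    · exact absurd rfl hi
    · simp only [mf, _root_.mul_neg, _root_.Fin.isValue, _root_.Matrix.cons_val_one, _root_.Matrix.cons_val_zero, _root_.neg_mul, _root_.Matrix.cons_val, _root_.MulZeroClass.mul_zero, _root_.add_zero, _root_.Fin.mk_one]
    · simp only [mf, _root_.mul_neg, _root_.Fin.isValue, _root_.Matrix.cons_val_one, _root_.Matrix.cons_val_zero, _root_.neg_mul, _root_.Matrix.cons_val, _root_.MulZeroClass.mul_zero, _root_.add_zero, _root_.Fin.reduceFinMk]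
    · simp only [mf, _root_.mul_neg, _root_.Fin.isValue, _root_.Matrix.cons_val_one, _root_.Matrix.cons_val_zero, _root_.neg_mul, _root_.Matrix.cons_val, _root_.MulZeroClass.mul_zero, _root_.add_zero, _root_.Fin.reduceFinMk]
    · simp only [mf, _root_.mul_neg, _root_.Fin.isValue, _root_.Matrix.cons_val_one, _root_.Matrix.cons_val_zero, _root_.neg_mul, _root_.Matrix.cons_val, _root_.MulZeroClass.mul_zero, _root_.add_zero, _root_.Fin.reduceFinMk]
    · simp only [mf, _root_.mul_neg, _root_.Fin.isValue, _root_.Matrix.cons_val_one, _root_.Matrix.cons_val_zero, _root_.neg_mul, _root_.Matrix.cons_val, _root_.MulZeroClass.mul_zero, _root_.add_zero, _root_.Fin.reduceFinMk]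
  have h1 : g ![1, 0, 0, 0, 0, 0] = g ![1, 0, 0, 0, 0, 0] 0 • ![1, 0, 0, 0, 0, 0] := by
    have h01 := h0 1 (by decide)
    have h02 := h0 2 (by decide)
    have h03 := h0 3 (by decide)
    have h04 := h0 4 (by decide)
    have h05 := h0 5 (by decide)
    generalize g ![1, 0, 0, 0, 0, 0] = w at *
    funext i
    (revert i; simp only [h01, h02, h03, h04, h05, _root_.Fin.forall_fin_succ, _root_.Nat.succ_eq_add_one, Nat.reduceAdd, Fin.isValue, _root_.Pi.smul_apply, _root_.smul_eq_mul, _root_.Matrix.cons_val_zero, _root_.mul_one, _root_.Matrix.cons_val_succ, _root_.Fin.succ_zero_eq_one, _root_.MulZeroClass.mul_zero, _root_.Fin.succ_one_eq_two, Fin.reduceSucc, _root_.Matrix.cons_val_fin_one, _root_.IsEmpty.forall_iff, _root_.and_self])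
  refine ⟨_, ?_, h1⟩
  intro h2
  rw [h2, zero_smul] at h1
  have h3 : (![1, 0, 0, 0, 0, 0] : V) = 0 := g.injective (h1.trans (map_zero g).symm)
  exact absurd (congrFun h3 0) (by decide)

/-- a transvection with centre `tl 1 0 0`, from an antidiagonal element -/
theorem exists_b2_aux {G : Subgroup L} (hTG : T ≤ G) {x : L} (hxG : x ∈ G) {q r' : ZMod 3} (hq : q ≠ 0) (hr' : r' ≠ 0)
    (hN' : Nm2 x q 0 0 r') : ∃ b ∈ G, Nm2 b (-1) 1 1 0 ∧ b ![1, 0, 0, 0, 0, 0] = ![1, 0, 0, 0, 0, 0] := by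
  have hqq := sq_one hq
  have hrr := sq_one hr'
  obtain ⟨δ, hδ0, hδ⟩ := first2 hN'
  have f1 : x⁻¹ * tl 0 0 1 = tl r' 0 0 * x⁻¹ := by
    have h := hN'.act' (b := r') (c := 0) (b' := 0) (c' := 1) (by ring) (by linear_combination hrr)
    rw [inv_mul_eq_iff_eq_mul, ← mul_assoc, h, mul_inv_cancel_right]
  have f2 : x⁻¹ * tl 1 0 0 = tl 0 0 q * x⁻¹ := by
    have h := hN'.act' (b := 0) (c := q) (b' := 1) (c' := 0) (by linear_combination hqq) (by ring)
    rw [inv_mul_eq_iff_eq_mul, ← mul_assoc, h, mul_inv_cancel_right]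
  have g1 : (x * tl 0 1 0 * x⁻¹) * tl 0 0 1 = tl (-(r' * q)) 0 1 * (x * tl 0 1 0 * x⁻¹) := by
    have a1 : tl 0 1 0 * tl r' 0 0 = tl r' 0 (-r') * tl 0 1 0 := tl_mm (by ring) (by ring) (by ring)
    have a2 : x * tl r' 0 (-r') = tl (-(r' * q)) 0 1 * x := hN'.act' (by ring) (by linear_combination hrr)
    rw [mul_assoc _ x⁻¹, f1, ← mul_assoc, mul_assoc x, a1, ← mul_assoc, a2]
    simp only [mul_assoc]
  have g2 : (x * tl 0 1 0 * x⁻¹) * tl 1 0 0 = tl 1 0 0 * (x * tl 0 1 0 * x⁻¹) := by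
    have a1 : tl 0 1 0 * tl 0 0 q = tl 0 0 q * tl 0 1 0 := tl_mm (by ring) (by ring) (by ring)
    have a2 : x * tl 0 0 q = tl 1 0 0 * x := hN'.act' (by linear_combination hqq) (by ring)
    rw [mul_assoc _ x⁻¹, f2, ← mul_assoc, mul_assoc x, a1, ← mul_assoc, a2]
    simp only [mul_assoc]
  have hc : x * tl 0 1 0 * x⁻¹ ∈ G := G.mul_mem (G.mul_mem hxG (hTG (tl_mem _ _ _))) (G.inv_mem hxG)
  have hl : (x * tl 0 1 0 * x⁻¹) ![1, 0, 0, 0, 0, 0] = ![1, 0, 0, 0, 0, 0] := by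
    have e1 : x⁻¹ ![1, 0, 0, 0, 0, 0] = δ • ![1, 0, 0, 0, 0, 0] := by
      have e2 : x (δ • ![1, 0, 0, 0, 0, 0]) = ![1, 0, 0, 0, 0, 0] := by
        rw [map_smul, hδ, smul_smul, sq_one hδ0, one_smul]
      have e3 : x⁻¹ (x (δ • ![1, 0, 0, 0, 0, 0])) = δ • ![1, 0, 0, 0, 0, 0] := by
        show (x⁻¹ * x) _ = _
        rw [inv_mul_cancel]
        rfl
      rw [← e3, e2]
    have e4 : tl 0 1 0 ![1, 0, 0, 0, 0, 0] = ![1, 0, 0, 0, 0, 0] := by
      rw [tl_apply]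
      decide
    rw [LinearEquiv.mul_apply, LinearEquiv.mul_apply, e1, map_smul, e4, map_smul, hδ, smul_smul, sq_one hδ0, one_smul]
  have hN2 : Nm2 (x * tl 0 1 0 * x⁻¹) (-(r' * q)) 1 1 0 := ⟨g1, g2⟩
  generalize x * tl 0 1 0 * x⁻¹ = y at *
  have hε : -(r' * q) = -1 ∨ -(r' * q) = 1 := by
    revert hq hr'
    clear * -
    revert r' q
    decide
  rcases hε with h | h
  · rw [h] at hN2
    exact ⟨y, hc, hN2, hl⟩
  · rw [h] at hN2
    refine ⟨y⁻¹, G.inv_mem hc, ⟨?_, ?_⟩, ?_⟩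
    · have h2 := hN2.act' (b := -1) (c := 1) (b' := 0) (c' := 1) (by ring) (by ring)
      rw [inv_mul_eq_iff_eq_mul, ← mul_assoc, h2, mul_inv_cancel_right]
    · rw [inv_mul_eq_iff_eq_mul, ← mul_assoc, hN2.2, mul_inv_cancel_right]
    · have e2 : y⁻¹ (y ![1, 0, 0, 0, 0, 0]) = ![1, 0, 0, 0, 0, 0] := by
        show (y⁻¹ * y) _ = _
        rw [inv_mul_cancel]
        rfl
      rwa [hl] at e2

/-- a transvection with centre `tl 1 0 0` -/
theorem exists_b2 {G : Subgroup L} (hTG : T ≤ G)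
    (h1 : ∃ g ∈ G, (∀ u ∈ U2, g * u * g⁻¹ ∈ U2) ∧ g * tl 0 0 1 * g⁻¹ ∉ zpowers (tl 0 0 1)) :
    ∃ b ∈ G, Nm2 b (-1) 1 1 0 ∧ b ![1, 0, 0, 0, 0, 0] = ![1, 0, 0, 0, 0, 0] := by
  obtain ⟨g, hg, hU, hz⟩ := h1
  obtain ⟨q, p, hqp⟩ := hU (tl 0 0 1) ⟨0, 1, rfl⟩
  obtain ⟨s, r, hsr⟩ := hU (tl 1 0 0) ⟨1, 0, rfl⟩
  have hN : Nm2 g q p s r := ⟨mul_inv_eq_iff_eq_mul.1 hqp, mul_inv_eq_iff_eq_mul.1 hsr⟩
  have hq : q ≠ 0 := by
    rintro rfl
    exact hz (by rw [hqp]; exact zpow_z p)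
  have hqq := sq_one hq
  have e1 : (tl 0 (p * q) 0 * g * tl 0 (s * q) 0) * tl 0 0 1 = tl q 0 0 * (tl 0 (p * q) 0 * g * tl 0 (s * q) 0) := by
    have a1 : tl 0 (s * q) 0 * tl 0 0 1 = tl 0 0 1 * tl 0 (s * q) 0 := tl_mm (by ring) (by ring) (by ring)
    have a2 : tl 0 (p * q) 0 * tl q 0 p = tl q 0 0 * tl 0 (p * q) 0 :=
      tl_mm (by ring) (by ring) (by linear_combination (-p) * hqq)
    rw [mul_assoc _ (tl 0 (s * q) 0), a1, ← mul_assoc, mul_assoc (tl 0 (p * q) 0), hN.1, ← mul_assoc, a2]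
    simp only [mul_assoc]
  have e2 : (tl 0 (p * q) 0 * g * tl 0 (s * q) 0) * tl 1 0 0 =
      tl 0 0 (r - s * q * p) * (tl 0 (p * q) 0 * g * tl 0 (s * q) 0) := by
    have a1 : tl 0 (s * q) 0 * tl 1 0 0 = tl 1 0 (-(s * q)) * tl 0 (s * q) 0 := tl_mm (by ring) (by ring) (by ring)
    have a3 : g * tl 1 0 (-(s * q)) = tl 0 0 (r - s * q * p) * g :=
      hN.act' (by linear_combination (-s) * hqq) (by ring)
    have a2 : tl 0 (p * q) 0 * tl 0 0 (r - s * q * p) = tl 0 0 (r - s * q * p) * tl 0 (p * q) 0 :=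
      tl_mm (by ring) (by ring) (by ring)
    rw [mul_assoc _ (tl 0 (s * q) 0), a1, ← mul_assoc, mul_assoc (tl 0 (p * q) 0), a3, ← mul_assoc, a2]
    simp only [mul_assoc]
  refine exists_b2_aux hTG (G.mul_mem (G.mul_mem (hTG (tl_mem _ _ _)) hg) (hTG (tl_mem _ _ _))) hq ?_ ⟨e1, e2⟩
  intro h0
  rw [h0, tl_one, one_mul] at e2
  exact one_ne_zero (tl_eq_one (mul_left_cancel (e2.trans (mul_one _).symm))).1

theorem exists_m2_aux {G : Subgroup L} (hTG : T ≤ G) {m0 : L} (hG0 : m0 ∈ G) (e1 : m0 * tl 0 0 1 = tl (-1) 0 0 * m0)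
    (e2 : m0 * tl 1 0 0 = tl 0 0 1 * m0) (hl0 : m0 ![1, 0, 0, 0, 0, 0] = ![1, 0, 0, 0, 0, 0]) :
    ∃ m ∈ G, ∃ α β γ : ZMod 3, ∀ v, m v = ![v 0 + α * v 2 + β * v 4 + γ * v 5, -v 3, v 5, v 1, -v 4, v 2] := by
  obtain ⟨a, ha⟩ : ∃ a, a = m0 ![0, 1, 0, 0, 0, 0] 0 := ⟨_, rfl⟩
  obtain ⟨c, hc⟩ : ∃ c, c = m0 ![0, 0, 0, 1, 0, 0] 0 := ⟨_, rfl⟩
  have t3 := three_eq
  have hNm : Nm2 (m0 * tl a 0 c) (-1) 0 0 1 := by
    constructor
    · have a' : tl a 0 c * tl 0 0 1 = tl 0 0 1 * tl a 0 c := tl_mm (by ring) (by ring) (by ring)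
      rw [mul_assoc, a', ← mul_assoc, e1, mul_assoc]
    · have a' : tl a 0 c * tl 1 0 0 = tl 1 0 0 * tl a 0 c := tl_mm (by ring) (by ring) (by ring)
      rw [mul_assoc, a', ← mul_assoc, e2, mul_assoc]
  refine ⟨_, G.mul_mem hG0 (hTG (tl_mem a 0 c)), _, _, _, formula2 hNm ?_ ?_ rfl ?_ rfl rfl⟩
  · have h1 : tl a 0 c ![1, 0, 0, 0, 0, 0] = ![1, 0, 0, 0, 0, 0] := by
      rw [tl_apply]
      funext i
      (revert i; simp [tf, _root_.Fin.forall_fin_succ])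
    rw [LinearEquiv.mul_apply, h1, hl0]
    rfl
  · have h1 : tl a 0 c ![0, 1, 0, 0, 0, 0] = ![0, 1, 0, 0, 0, 0] + (2 * a) • ![1, 0, 0, 0, 0, 0] := by
      rw [tl_apply]
      funext i
      (revert i; simp only [tf, _root_.Fin.forall_fin_succ, Fin.isValue, _root_.Matrix.cons_val_zero, _root_.Matrix.cons_val_one, _root_.mul_one, _root_.zero_add, _root_.Matrix.cons_val, _root_.MulZeroClass.mul_zero, _root_.add_zero, _root_.ne_eq, _root_.OfNat.ofNat_ne_zero, _root_.not_false_eq_true, _root_.zero_pow, _root_.Nat.succ_eq_add_one, Nat.reduceAdd, _root_.Matrix.smul_cons, _root_.smul_eq_mul, _root_.Matrix.smul_empty, _root_.Pi.add_apply, _root_.Matrix.cons_val_succ, _root_.left_eq_add, _root_.Matrix.cons_val_fin_one, _root_.implies_true, _root_.and_self])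
    rw [LinearEquiv.mul_apply, h1, map_add, map_smul, hl0, Pi.add_apply, Pi.smul_apply, ← ha]
    simp only [Matrix.cons_val_zero, smul_eq_mul]
    linear_combination a * t3
  · have h1 : tl a 0 c ![0, 0, 0, 1, 0, 0] = ![0, 0, 0, 1, 0, 0] + (2 * c) • ![1, 0, 0, 0, 0, 0] := by
      rw [tl_apply]
      funext i
      (revert i; simp only [tf, _root_.Fin.forall_fin_succ, Fin.isValue, _root_.Matrix.cons_val_zero, _root_.Matrix.cons_val_one, _root_.MulZeroClass.mul_zero, _root_.add_zero, _root_.Matrix.cons_val, _root_.mul_one, _root_.zero_add, _root_.ne_eq, _root_.OfNat.ofNat_ne_zero, _root_.not_false_eq_true, _root_.zero_pow, _root_.Nat.succ_eq_add_one, Nat.reduceAdd, _root_.Matrix.smul_cons, _root_.smul_eq_mul, _root_.Matrix.smul_empty, _root_.Pi.add_apply, _root_.Matrix.cons_val_succ, _root_.left_eq_add, _root_.Matrix.cons_val_fin_one, _root_.implies_true, _root_.and_self])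
    rw [LinearEquiv.mul_apply, h1, map_add, map_smul, hl0, Pi.add_apply, Pi.smul_apply, ← hc]
    simp only [Matrix.cons_val_zero, smul_eq_mul]
    linear_combination c * t3

/-- the element of order 4 -/
theorem exists_m2 {G : Subgroup L} (hTG : T ≤ G) {b : L} (hb : b ∈ G) (hN : Nm2 b (-1) 1 1 0)
    (hl : b ![1, 0, 0, 0, 0, 0] = ![1, 0, 0, 0, 0, 0]) :
    ∃ m ∈ G, ∃ α β γ : ZMod 3, ∀ v, m v = ![v 0 + α * v 2 + β * v 4 + γ * v 5, -v 3, v 5, v 1, -v 4, v 2] := by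
  have e1 : (tl 0 (-1) 0 * b * tl 0 (-1) 0) * tl 0 0 1 = tl (-1) 0 0 * (tl 0 (-1) 0 * b * tl 0 (-1) 0) := by
    have a1 : tl 0 (-1) 0 * tl 0 0 1 = tl 0 0 1 * tl 0 (-1) 0 := tl_mm (by ring) (by ring) (by ring)
    have a2 : tl 0 (-1) 0 * tl (-1) 0 1 = tl (-1) 0 0 * tl 0 (-1) 0 := tl_mm (by ring) (by ring) (by ring)
    rw [mul_assoc _ (tl 0 (-1) 0), a1, ← mul_assoc, mul_assoc (tl 0 (-1) 0), hN.1, ← mul_assoc, a2]
    simp only [mul_assoc]
  have e2 : (tl 0 (-1) 0 * b * tl 0 (-1) 0) * tl 1 0 0 = tl 0 0 1 * (tl 0 (-1) 0 * b * tl 0 (-1) 0) := by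
    have a1 : tl 0 (-1) 0 * tl 1 0 0 = tl 1 0 1 * tl 0 (-1) 0 := tl_mm (by ring) (by ring) (by ring)
    have a3 : b * tl 1 0 1 = tl 0 0 1 * b := hN.act' (by ring) (by ring)
    have a2 : tl 0 (-1) 0 * tl 0 0 1 = tl 0 0 1 * tl 0 (-1) 0 := tl_mm (by ring) (by ring) (by ring)
    rw [mul_assoc _ (tl 0 (-1) 0), a1, ← mul_assoc, mul_assoc (tl 0 (-1) 0), a3, ← mul_assoc, a2]
    simp only [mul_assoc]
  have hG0 : tl 0 (-1) 0 * b * tl 0 (-1) 0 ∈ G := G.mul_mem (G.mul_mem (hTG (tl_mem _ _ _)) hb) (hTG (tl_mem _ _ _))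
  have hl0 : (tl 0 (-1) 0 * b * tl 0 (-1) 0) ![1, 0, 0, 0, 0, 0] = ![1, 0, 0, 0, 0, 0] := by
    have e4 : tl 0 (-1) 0 ![1, 0, 0, 0, 0, 0] = ![1, 0, 0, 0, 0, 0] := by
      rw [tl_apply]
      decide
    rw [LinearEquiv.mul_apply, LinearEquiv.mul_apply, e4, hl, e4]
  exact exists_m2_aux hTG hG0 e1 e2 hl0

/-- the 3-group of `U2` -/
def S2 : Subgroup L where
  carrier := {g | ∃ p q r : ZMod 3, ∀ v, g v = ![v 0 + p * v 2 + q * v 4 + r * v 5, v 1, v 2, v 3, v 4, v 5]}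
  mul_mem' := by
    rintro g h ⟨p, q, r, hg⟩ ⟨p', q', r', hh⟩
    refine ⟨p + p', q + q', r + r', fun v => ?_⟩
    rw [LinearEquiv.mul_apply, hh, hg]
    funext i
    (revert i; simp only [_root_.Fin.forall_fin_succ, _root_.Nat.succ_eq_add_one, Nat.reduceAdd, Fin.isValue, _root_.Matrix.cons_val_zero, _root_.Matrix.cons_val, _root_.Matrix.cons_val_one, _root_.Matrix.cons_val_succ, _root_.implies_true, _root_.and_true, _root_.true_and]) <;> (repeat' with_reducible apply And.intro)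
    ring
  one_mem' := ⟨0, 0, 0, fun v => by
    funext i
    (revert i; simp only [_root_.Fin.forall_fin_succ, _root_.LinearEquiv.coe_one, _root_.id_eq, _root_.Nat.succ_eq_add_one, Nat.reduceAdd, Fin.isValue, _root_.MulZeroClass.zero_mul, _root_.add_zero, _root_.Matrix.cons_val_zero, _root_.Matrix.cons_val_succ, _root_.Fin.succ_zero_eq_one, _root_.Fin.succ_one_eq_two, Fin.reduceSucc, _root_.Matrix.cons_val_fin_one, _root_.IsEmpty.forall_iff, _root_.and_self])⟩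
  inv_mem' := by
    rintro g ⟨p, q, r, hg⟩
    refine ⟨-p, -q, -r, fun v => ?_⟩
    have h1 : g ![v 0 + -p * v 2 + -q * v 4 + -r * v 5, v 1, v 2, v 3, v 4, v 5] = v := by
      rw [hg]
      funext i
      (revert i; simp only [_root_.Fin.forall_fin_succ, _root_.Nat.succ_eq_add_one, Nat.reduceAdd, Fin.isValue, _root_.neg_mul, _root_.Matrix.cons_val_zero, _root_.Matrix.cons_val, _root_.Matrix.cons_val_one, _root_.Matrix.cons_val_succ, _root_.Fin.succ_zero_eq_one, _root_.Fin.succ_one_eq_two, Fin.reduceSucc, _root_.Matrix.cons_val_fin_one, _root_.IsEmpty.forall_iff, _root_.and_true, _root_.true_and]) <;> (repeat' with_reducible apply And.intro)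
      ring
    have h2 : g⁻¹ v = g⁻¹ (g ![v 0 + -p * v 2 + -q * v 4 + -r * v 5, v 1, v 2, v 3, v 4, v 5]) := by rw [h1]
    rw [h2]
    show (g⁻¹ * g) _ = _
    rw [inv_mul_cancel]
    rfl

theorem S2_pgroup : IsPGroup 3 S2 := by
  rintro ⟨g, p, q, r, hg⟩
  refine ⟨1, Subtype.ext (LinearEquiv.ext fun v => ?_)⟩
  show (g ^ 3 ^ 1) v = v
  have h3 := three_eq
  rw [pow_one, pow_succ, pow_two, LinearEquiv.mul_apply, LinearEquiv.mul_apply, hg, hg, hg]
  funext i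
  (revert i; simp only [_root_.Fin.forall_fin_succ, _root_.Nat.succ_eq_add_one, Nat.reduceAdd, Fin.isValue, _root_.Matrix.cons_val_zero, _root_.Matrix.cons_val, _root_.Matrix.cons_val_one, _root_.Matrix.cons_val_succ, _root_.Fin.succ_zero_eq_one, _root_.Fin.succ_one_eq_two, Fin.reduceSucc, _root_.Matrix.cons_val_fin_one, _root_.IsEmpty.forall_iff, _root_.and_true, _root_.true_and]) <;> (repeat' with_reducible apply And.intro)
  linear_combination (p * v 2 + q * v 4 + r * v 5) * h3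

theorem S2_norm : ∀ t ∈ T, ∀ s ∈ S2, t * s * t⁻¹ ∈ S2 := by
  rintro _ ⟨a, b, c, rfl⟩ s ⟨p, q, r, hs⟩
  refine ⟨p, q - 2 * b * p, r - b * q + b ^ 2 * p, fun v => ?_⟩
  rw [tl_inv, LinearEquiv.mul_apply, LinearEquiv.mul_apply, hs, tl_apply, tl_apply]
  funext i
  (revert i; simp only [tf, _root_.Fin.forall_fin_succ, _root_.Nat.succ_eq_add_one, Nat.reduceAdd, Fin.isValue, _root_.mul_neg, _root_.neg_mul, _root_.even_two, _root_.Even.neg_pow, _root_.Matrix.cons_val_zero, _root_.Matrix.cons_val, _root_.Matrix.cons_val_one, _root_.neg_add_cancel_right, _root_.Matrix.cons_val_succ, _root_.implies_true, _root_.and_true]) <;> (repeat' with_reducible apply And.intro) <;> ring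

theorem S2_inf : ∀ s ∈ S2, s ∈ T → s = 1 := by
  rintro s ⟨p, q, r, hs⟩ ⟨a, b, c, rfl⟩
  have h1 := hs ![0, 0, 0, 0, 0, 1]
  have h2 := hs ![0, 0, 0, 0, 1, 0]
  have e1 := congrFun h1 4
  have e2 := congrFun h1 3
  have e3 := congrFun h2 3
  simp [tf] at e1 e2 e3
  rw [e1, e2, e3, tl_one]

theorem part2 {G : Subgroup L} (hG : Syl G)
    (h1 : ∃ g ∈ G, (∀ u ∈ U2, g * u * g⁻¹ ∈ U2) ∧ g * tl 0 0 1 * g⁻¹ ∉ zpowers (tl 0 0 1)) :
    ∃ j : ZMod 3, ∃ m ∈ G, ∀ v, m v = w2f j v := by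
  obtain ⟨b, hb, hN, hl⟩ := exists_b2 hG.le h1
  obtain ⟨m, hm, α, β, γ, hmv⟩ := exists_m2 hG.le hb hN hl
  have h3 := three_eq
  have c1 : α + γ = 0 := by
    have hm4 : ∀ v, (m * m * (m * m)) v = ![v 0 + 2 * (α + γ) * v 2 + 0 * v 4 + 2 * (α + γ) * v 5, v 1, v 2, v 3, v 4, v 5] := by
      intro v
      rw [LinearEquiv.mul_apply, LinearEquiv.mul_apply, LinearEquiv.mul_apply, hmv, hmv, hmv, hmv]
      funext i
      (revert i; simp only [_root_.Fin.forall_fin_succ, _root_.Nat.succ_eq_add_one, Nat.reduceAdd, Fin.isValue, _root_.Matrix.cons_val_zero, _root_.Matrix.cons_val, _root_.mul_neg, _root_.Matrix.cons_val_one, _root_.neg_neg, _root_.MulZeroClass.zero_mul, _root_.add_zero, _root_.Matrix.cons_val_succ, _root_.implies_true, _root_.and_true, _root_.true_and]) <;> (repeat' with_reducible apply And.intro)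
      ring
    have h4 := inf_bot hG S2_pgroup S2_norm S2_inf (m * m * (m * m)) ⟨_, _, _, hm4⟩
      (G.mul_mem (G.mul_mem hm hm) (G.mul_mem hm hm))
    have h5 := congrFun (hm4 ![0, 0, 0, 0, 0, 1]) 0
    rw [h4] at h5
    simp only [_root_.Fin.isValue, _root_.LinearEquiv.coe_one, _root_.id_eq, _root_.Matrix.cons_val_zero, _root_.Nat.succ_eq_add_one, _root_.Nat.reduceAdd, _root_.Matrix.cons_val, _root_.MulZeroClass.mul_zero, _root_.add_zero, _root_.mul_one, _root_.zero_add, _root_.Matrix.cons_val_one, _root_.zero_eq_mul] at h5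
    rcases h5 with h5 | h5
    · exact absurd h5 (by decide)
    · exact h5
  have c2 : β = 0 := by
    have hx : ∀ v, (tl 0 (-1) 0 * m) v = ![v 0 + α * v 2 + β * v 4 + γ * v 5, -v 3 - v 1, v 5 + 2 * v 4 + v 2, v 1,
        -v 4 - v 2, v 2] := by
      intro v
      rw [LinearEquiv.mul_apply, hmv, tl_apply]
      funext i
      (revert i; simp only [tf, _root_.Fin.forall_fin_succ, _root_.Nat.succ_eq_add_one, Nat.reduceAdd, Fin.isValue, _root_.Matrix.cons_val_zero, _root_.MulZeroClass.mul_zero, _root_.Matrix.cons_val_one, _root_.mul_neg, _root_.MulZeroClass.zero_mul, _root_.neg_zero, _root_.add_zero, _root_.Matrix.cons_val, _root_.ne_eq, _root_.OfNat.ofNat_ne_zero, _root_.not_false_eq_true, _root_.zero_pow, _root_.neg_mul, _root_.one_mul, _root_.mul_one, _root_.neg_neg, _root_.even_two, _root_.Even.neg_pow, _root_.one_pow, _root_.Matrix.cons_val_succ, _root_.Matrix.cons_val_fin_one, _root_.implies_true,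 _root_.and_true, _root_.true_and]) <;> (repeat' with_reducible apply And.intro) <;> ring
    have hX : tl 0 (-1) 0 * m ∈ G := G.mul_mem (hG.le (tl_mem _ _ _)) hm
    generalize tl 0 (-1) 0 * m = X at hx hX
    have hm4 : ∀ v, (X * (X * X)) v =
        ![v 0 + 2 * (α + β + γ) * v 2 + 2 * (α + β + γ) * v 4 + 2 * (α + β + γ) * v 5, v 1, v 2, v 3, v 4, v 5] := by
      intro v
      rw [LinearEquiv.mul_apply, LinearEquiv.mul_apply, hx, hx, hx]
      funext i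
      (revert i; simp only [_root_.Fin.forall_fin_succ, _root_.Nat.succ_eq_add_one, Nat.reduceAdd, Fin.isValue, _root_.Matrix.cons_val_zero, _root_.Matrix.cons_val, _root_.Matrix.cons_val_one, _root_.neg_sub, _root_.sub_neg_eq_add, _root_.Matrix.cons_val_succ, _root_.Matrix.cons_val_fin_one, _root_.forall_const, _root_.and_true, _root_.true_and]) <;> (repeat' with_reducible apply And.intro)
      · linear_combination (-(β * v 2) - β * v 4 - β * v 5) * h3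
      · ring
      · ring
      · ring
      · ring
      · ring
    have h4 := inf_bot hG S2_pgroup S2_norm S2_inf (X * (X * X)) ⟨_, _, _, hm4⟩
      (G.mul_mem hX (G.mul_mem hX hX))
    have h5 := congrFun (hm4 ![0, 0, 0, 0, 0, 1]) 0
    rw [h4] at h5
    simp only [_root_.Fin.isValue, _root_.LinearEquiv.coe_one, _root_.id_eq, _root_.Matrix.cons_val_zero, _root_.Nat.succ_eq_add_one, _root_.Nat.reduceAdd, _root_.Matrix.cons_val, _root_.MulZeroClass.mul_zero, _root_.add_zero, _root_.mul_one, _root_.zero_add, _root_.Matrix.cons_val_one, _root_.zero_eq_mul] at h5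
    rcases h5 with h5 | h5
    · exact absurd h5 (by decide)
    · linear_combination h5 - c1
  refine ⟨α, m, hm, fun v => ?_⟩
  rw [hmv, c2]
  have h5 : γ = -α := by linear_combination c1
  rw [h5, w2f]
  funext i
  (revert i; simp only [_root_.Fin.forall_fin_succ, _root_.Nat.succ_eq_add_one, Nat.reduceAdd, Fin.isValue, _root_.MulZeroClass.zero_mul, _root_.add_zero, _root_.neg_mul, _root_.Matrix.cons_val_zero, _root_.Matrix.cons_val_succ, _root_.implies_true, _root_.and_true, _root_.true_and]) <;> (repeat' with_reducible apply And.intro)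
  ring

/-- **`Lin.explicit`** -/
theorem explicit {G : Subgroup L} (hG : Syl G) (_hN : ∀ g ∈ G, (∀ t ∈ T, g * t * g⁻¹ ∈ T) → ∃ t ∈ T, IsSign (t * g))
    (h1 : ∃ g ∈ G, (∀ u ∈ U1, g * u * g⁻¹ ∈ U1) ∧ g * tl 0 0 1 * g⁻¹ ∉ zpowers (tl 0 0 1))
    (h2 : ∃ g ∈ G, (∀ u ∈ U2, g * u * g⁻¹ ∈ U2) ∧ g * tl 0 0 1 * g⁻¹ ∉ zpowers (tl 0 0 1)) :
    (∃ g ∈ G, ∀ v, g v = sf 1 (-1) 1 v) ∧ (∃ g ∈ G, ∀ v, g v = sf (-1) 1 1 v) ∧
    (∃ i : ZMod 3, ∃ g ∈ G, ∀ v, g v = df i (w1f (df (-i) v))) ∧ (∃ j : ZMod 3, ∃ g ∈ G, ∀ v, g v = w2f j v) := by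
  obtain ⟨i, m, hm, hmv⟩ := part1 hG h1
  obtain ⟨j, n, hn, hnv⟩ := part2 hG h2
  refine ⟨⟨m * m, G.mul_mem hm hm, fun v => ?_⟩, ⟨n * n, G.mul_mem hn hn, fun v => ?_⟩, ⟨i, m, hm, fun v => ?_⟩, j, n, hn, hnv⟩
  · rw [LinearEquiv.mul_apply, hmv, hmv]
    funext i
    (revert i; simp [sf, _root_.Fin.forall_fin_succ])
  · rw [LinearEquiv.mul_apply, hnv, hnv]
    funext i
    (revert i; simp only [sf, w2f, _root_.Fin.forall_fin_succ, Fin.isValue, _root_.Matrix.cons_val_zero, _root_.Matrix.cons_val, _root_.Matrix.cons_val_one, _root_.neg_neg, _root_.one_mul, _root_.mul_one, _root_.neg_mul, _root_.Matrix.cons_val_succ, _root_.implies_true, _root_.and_true, _root_.true_and]) <;> (repeat' with_reducible apply And.intro)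
    ring
  · rw [hmv]
    funext i
    (revert i; simp only [df, w1f, _root_.Fin.forall_fin_succ, _root_.Nat.succ_eq_add_one, Nat.reduceAdd, Fin.isValue, _root_.neg_mul, _root_.Matrix.cons_val, _root_.Matrix.cons_val_one, _root_.Matrix.cons_val_zero, _root_.Matrix.cons_val_succ, _root_.implies_true, _root_.and_true, _root_.true_and]) <;> (repeat' with_reducible apply And.intro)
    ring

end Cfsg.Agent.H119.Co1
end

-- part: H531/Co1/Basic
section
/-!
Elementary facts about the group `T = 3^{1+2}` acting on `F₃⁶` and its subgroups `U1`, `U2`.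
-/

set_option autoImplicit false
set_option linter.style.longLine false

namespace Cfsg.Agent.H531.Co1
open Subgroup Cfsg.Agent.H776.Co Cfsg.Agent.H776.Co.Lin

instance finite_L : Finite L := Finite.of_injective (fun g : L => (g : V → V)) DFunLike.coe_injective

theorem tl_inj {a b c a' b' c' : ZMod 3} (h : tl a b c = tl a' b' c') : a = a' ∧ b = b' ∧ c = c' := by
  have h4 := congrArg (fun g : L => g ![0, 0, 0, 0, 1, 0]) h
  have h5 := congrArg (fun g : L => g ![0, 0, 0, 0, 0, 1]) h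
  simp only [tl_apply] at h4 h5
  have e1 := congrFun h4 3
  have e2 := congrFun h5 3
  have e3 := congrFun h5 4
  simp [tf] at e1 e2 e3
  exact ⟨e1, e3, e2⟩

theorem tl_eq_one {a b c : ZMod 3} (h : tl a b c = 1) : a = 0 ∧ b = 0 ∧ c = 0 := by
  rw [← tl_one] at h
  exact tl_inj h

theorem tl_conj (a b c a' b' c' : ZMod 3) :
    tl a b c * tl a' b' c' * (tl a b c)⁻¹ = tl a' b' (c' + a * b' - a' * b) := by
  rw [tl_inv, tl_mul, tl_mul]
  congr 1 <;> ring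

theorem tl_pow_three (a b c : ZMod 3) : tl a b c ^ 3 = 1 := by
  have h3 : (3 : ZMod 3) = 0 := by decide
  rw [pow_succ, pow_two, tl_mul, tl_mul, ← tl_one]
  congr 1
  · linear_combination a * h3
  · linear_combination b * h3
  · linear_combination (c + a * b) * h3

theorem mem_U1 {g : L} : g ∈ U1 ↔ ∃ b c, g = tl 0 b c := Iff.rfl
theorem mem_U2 {g : L} : g ∈ U2 ↔ ∃ a c, g = tl a 0 c := Iff.rfl

theorem card_T : Nat.card T = 27 := by
  have e : ZMod 3 × ZMod 3 × ZMod 3 ≃ T := Equiv.ofBijective (fun p => ⟨tl p.1 p.2.1 p.2.2, _, _, _, rfl⟩) ⟨by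
    rintro ⟨a, b, c⟩ ⟨a', b', c'⟩ h
    obtain ⟨h1, h2, h3⟩ := tl_inj (congrArg Subtype.val h)
    simp_all, by
    rintro ⟨_, a, b, c, rfl⟩
    exact ⟨(a, b, c), rfl⟩⟩
  rw [← Nat.card_congr e]
  simp

theorem card_U1 : Nat.card U1 = 9 := by
  have e : ZMod 3 × ZMod 3 ≃ U1 := Equiv.ofBijective (fun p => ⟨tl 0 p.1 p.2, _, _, rfl⟩) ⟨by
    rintro ⟨b, c⟩ ⟨b', c'⟩ h
    obtain ⟨h1, h2, h3⟩ := tl_inj (congrArg Subtype.val h)
    simp_all, by
    rintro ⟨_, b, c, rfl⟩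
    exact ⟨(b, c), rfl⟩⟩
  rw [← Nat.card_congr e]
  simp

theorem card_U2 : Nat.card U2 = 9 := by
  have e : ZMod 3 × ZMod 3 ≃ U2 := Equiv.ofBijective (fun p => ⟨tl p.1 0 p.2, _, _, rfl⟩) ⟨by
    rintro ⟨b, c⟩ ⟨b', c'⟩ h
    obtain ⟨h1, h2, h3⟩ := tl_inj (congrArg Subtype.val h)
    simp_all, by
    rintro ⟨_, b, c, rfl⟩
    exact ⟨(b, c), rfl⟩⟩
  rw [← Nat.card_congr e]
  simp

theorem U1_le : U1 ≤ T := fun _ ⟨b, c, h⟩ => ⟨0, b, c, h⟩
theorem U2_le : U2 ≤ T := fun _ ⟨b, c, h⟩ => ⟨b, 0, c, h⟩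

theorem mem_zp {g : L} : g ∈ zpowers (tl 0 0 1) ↔ ∃ c, g = tl 0 0 c := by
  constructor
  · intro h
    have h1 : ∀ n : ℕ, tl 0 0 1 ^ n = tl 0 0 (n : ZMod 3) := by
      intro n
      induction n with
      | zero => simp [tl_one]
      | succ n ih => rw [pow_succ, ih, tl_mul]; congr 1 <;> push_cast <;> ring
    obtain ⟨n, rfl⟩ := (mem_powers_iff_mem_zpowers (x := tl 0 0 1)).2 h
    exact ⟨_, h1 n⟩
  · rintro ⟨c, rfl⟩
    fin_cases c
    · exact (tl_one ▸ one_mem _ : tl 0 0 0 ∈ zpowers (tl 0 0 1))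
    · exact mem_zpowers _
    · have : tl 0 0 2 = tl 0 0 1 * tl 0 0 1 := by rw [tl_mul]; rfl
      exact this ▸ mul_mem (mem_zpowers _) (mem_zpowers _)

theorem inf_U : U1 ⊓ U2 = zpowers (tl 0 0 1) := by
  ext g
  rw [mem_zp, mem_inf, mem_U1, mem_U2]
  constructor
  · rintro ⟨⟨b, c, rfl⟩, a, c', h⟩
    obtain ⟨-, rfl, -⟩ := tl_inj h
    exact ⟨c, rfl⟩
  · rintro ⟨c, rfl⟩
    exact ⟨⟨0, c, rfl⟩, 0, c, rfl⟩

theorem sq_one {e : ZMod 3} (h : e ^ 2 = 1) : e = 1 ∨ e = -1 := by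
  revert e
  decide

theorem sf_conj {e1 e2 e3 : ZMod 3} (h1 : e1 ^ 2 = 1) (h2 : e2 ^ 2 = 1) (h3 : e3 ^ 2 = 1) {g : L} (hg : ∀ v, g v = sf e1 e2 e3 v)
    (a b c : ZMod 3) : g * tl a b c * g⁻¹ = tl (e1 * a) (e2 * b) (e1 * e2 * c) := by
  rw [mul_inv_eq_iff_eq_mul]
  refine LinearEquiv.ext fun v => ?_
  rw [LinearEquiv.mul_apply, LinearEquiv.mul_apply, hg, hg, tl_apply, tl_apply]
  rcases sq_one h1 with rfl | rfl <;> rcases sq_one h2 with rfl | rfl <;> rcases sq_one h3 with rfl | rfl <;>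
    funext i <;> (revert i; simp only [sf, tf, _root_.Fin.forall_fin_succ, Fin.isValue, _root_.Matrix.cons_val_zero, _root_.neg_mul, _root_.one_mul, _root_.neg_add_rev, _root_.mul_neg, _root_.mul_one, _root_.Matrix.cons_val_one, _root_.Matrix.cons_val, _root_.Matrix.cons_val_succ, _root_.Matrix.cons_val_fin_one, _root_.implies_true, _root_.and_true, _root_.neg_neg, _root_.even_two, _root_.Even.neg_pow, _root_.add_right_inj, _root_.true_and]) <;> (repeat' with_reducible apply And.intro) <;> ring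

end Cfsg.Agent.H531.Co1
end

-- part: H531/Co1/Deps
section
/-!
The inputs of `star` and `final` proved by other members of the team, as one structure.
-/

set_option autoImplicit false
set_option linter.style.longLine false

namespace Cfsg.Agent.H531.Co1
open Subgroup Cfsg.Agent.H776.Co

/-- the abstract inputs -/
structure DepsLoc : Prop where
  symm : ∀ {Γ : Type} [Group Γ] [Finite Γ] {T U1 U2 : Subgroup Γ} {z : Γ} {Z : Subgroup Γ}, Loc T U1 U2 z Z → Loc T U2 U1 z Z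
  quot : ∀ {Γ : Type} [Group Γ] [Finite Γ] {T U1 U2 : Subgroup Γ} {z : Γ} {Z : Subgroup Γ} (_ : Loc T U1 U2 z Z) [Z.Normal],
    Loc (T.map (QuotientGroup.mk' Z)) (U1.map (QuotientGroup.mk' Z)) (U2.map (QuotientGroup.mk' Z)) (QuotientGroup.mk' Z z) ⊥
  exists_simple : ∀ {Γ : Type} [Group Γ] [Finite Γ] {T U1 U2 : Subgroup Γ} {z : Γ}, Loc T U1 U2 z ⊥ →
    ∃ K : Subgroup Γ, K.Normal ∧ IsSimpleGroup K ∧ (¬ IsMulCommutative K) ∧ z ∈ K
  card_inf_ne : ∀ {Γ : Type} [Group Γ] [Finite Γ] {T U1 U2 : Subgroup Γ} {z : Γ} (_ : Loc T U1 U2 z ⊥) {K : Subgroup Γ},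
    K.Normal → IsSimpleGroup K → ¬ IsMulCommutative K → z ∈ K → Nat.card ↥(T ⊓ K) ≠ 3
  card_inf_ne' : ∀ {Γ : Type} [Group Γ] [Finite Γ] {T U1 U2 : Subgroup Γ} {z : Γ} (_ : Loc T U1 U2 z ⊥) {K : Subgroup Γ},
    K.Normal → IsSimpleGroup K → ¬ IsMulCommutative K → z ∈ K → Nat.card ↥(T ⊓ K) ≠ 9
  move1 : ∀ {Γ : Type} [Group Γ] [Finite Γ] {T U1 U2 : Subgroup Γ} {z : Γ} (_ : Loc T U1 U2 z ⊥) {K : Subgroup Γ},
    K.Normal → IsSimpleGroup K → ¬ IsMulCommutative K → T ≤ K →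
    ∃ g : Γ, (∀ u ∈ U1, g * u * g⁻¹ ∈ U1) ∧ g * z * g⁻¹ ∉ zpowers z
  simple_list : ∀ {K : Type} [Group K] [Finite K] [IsSimpleGroup K], ¬ IsMulCommutative K → ∀ T : Sylow 3 K,
    Nat.card T = 27 → (¬ ∀ x y : T, x * y = y * x) → Nat.card K ∣ 2 ^ 13 * 3 ^ 3 * 5 * 7 * 11 ^ 2 * 13 ^ 2 →
    Nat.card K = 5616 ∨ Nat.card K = 6048 ∨ Nat.card K = 95040

open Cfsg.Agent.H776.Co.Lin

/-- the linear inputs -/
structure DepsLin : Prop where
  sig : ∀ (R : Subgroup L) (_ : ∀ t ∈ T, ∀ r ∈ R, t * r * t⁻¹ ∈ R) (_ : ¬ 3 ∣ Nat.card R), ∀ r ∈ R, (∀ v, r v = v) ∨ (∀ v, r v = -v)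
  tri : ∀ (x : L) (_ : x ∈ U1 ∨ x ∈ U2) (_ : x ≠ 1) (P Q : Subgroup L) (_ : IsPGroup 3 P) (_ : IsPGroup 3 Q)
    (_ : ∀ g ∈ P, g * x = x * g) (_ : ∀ g ∈ Q, g * x = x * g), IsPGroup 3 ↥(P ⊔ Q)
  reg : ∀ (x : L) (_ : x ∈ T) (_ : x ∉ U1) (_ : x ∉ U2) (C : Subgroup L) (_ : ∀ g ∈ C, g * x = x * g) (_ : 3 ∣ Nat.card C),
    Nat.card (Sylow 3 C) = 1 ∨ Nat.card (Sylow 3 C) = 4
  type : ∀ (g x : L) (_ : x ∈ U1 ∨ x ∈ U2) (_ : g * x * g⁻¹ ∈ T), g * x * g⁻¹ ∈ U1 ∨ g * x * g⁻¹ ∈ U2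
  not_conj : ∀ g : L, ∃ x ∈ U1, g * x * g⁻¹ ∉ U2
  core : ∀ {G : Subgroup L} (_ : Syl G) (_ : ∃ g ∈ G, ∃ v, inW1 v ∧ ¬ inW1 (g v)) (_ : ∃ g ∈ G, ∃ v, inW3 v ∧ ¬ inW3 (g v))
    (N : Subgroup L) (_ : N ≤ G) (_ : ∀ g ∈ G, ∀ n ∈ N, g * n * g⁻¹ ∈ N) (_ : IsPGroup 3 N), N = ⊥
  ord : ∀ {G : Subgroup L} (_ : Syl G), Nat.card G ∣ 2 ^ 13 * 3 ^ 3 * 5 * 7 * 11 ^ 2 * 13 ^ 2
  k_ne_one : ∀ {G : Subgroup L} (_ : Syl G) (_ : ∃ g ∈ G, ∀ v, g v = w1f v) {k : ZMod 3} (_ : ∃ g ∈ G, ∀ v, g v = w2f k v), k ≠ 1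

end Cfsg.Agent.H531.Co1
end

-- part: H531/Co1/LocInst
section
/-!
The local situation `Loc` for a linear group `G` with Sylow 3-subgroup `T`.
-/

set_option autoImplicit false
set_option linter.style.longLine false

namespace Cfsg.Agent.H531.Co1
open Subgroup Cfsg.Agent.H776.Co Cfsg.Agent.H776.Co.Lin

/-- the scalars `±1` in `G` -/
def Zs (G : Subgroup L) : Subgroup ↥G where
  carrier := {g | (∀ v, (g : L) v = v) ∨ ∀ v, (g : L) v = -v}
  mul_mem' := by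
    rintro a b (ha | ha) (hb | hb)
    · left; intro v; rw [Subgroup.coe_mul, LinearEquiv.mul_apply, hb, ha]
    · right; intro v; rw [Subgroup.coe_mul, LinearEquiv.mul_apply, hb, ha]
    · right; intro v; rw [Subgroup.coe_mul, LinearEquiv.mul_apply, hb, ha]
    · left; intro v; rw [Subgroup.coe_mul, LinearEquiv.mul_apply, hb, ha, neg_neg]
  one_mem' := Or.inl fun _ => rfl
  inv_mem' := by
    rintro a (ha | ha)
    · left; intro v
      have := congrArg (((a⁻¹ : ↥G) : L)) (ha v)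
      rw [← LinearEquiv.mul_apply, ← Subgroup.coe_mul, inv_mul_cancel] at this
      exact this.symm
    · right; intro v
      have := congrArg (((a⁻¹ : ↥G) : L)) (ha v)
      rw [← LinearEquiv.mul_apply, ← Subgroup.coe_mul, inv_mul_cancel, map_neg] at this
      exact (neg_eq_iff_eq_neg.2 this).symm ▸ rfl

theorem Zs_le (G : Subgroup L) : Zs G ≤ center ↥G := by
  intro g hg
  rw [mem_center_iff]
  intro h
  apply Subtype.ext
  refine LinearEquiv.ext fun v => ?_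
  rw [Subgroup.coe_mul, Subgroup.coe_mul, LinearEquiv.mul_apply, LinearEquiv.mul_apply]
  rcases hg with hg | hg
  · rw [hg, hg]
  · rw [hg, hg, map_neg]

instance Zs_normal (G : Subgroup L) : (Zs G).Normal := ⟨fun n hn g => by
  rw [mem_center_iff.1 (Zs_le G hn) g, mul_inv_cancel_right]
  exact hn⟩

theorem Zs_sq {G : Subgroup L} {g : ↥G} (hg : g ∈ Zs G) : g ^ 2 = 1 := by
  apply Subtype.ext
  refine LinearEquiv.ext fun v => ?_
  rw [pow_two, Subgroup.coe_mul, LinearEquiv.mul_apply]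
  rcases hg with hg | hg
  · rw [hg, hg]; rfl
  · rw [hg, hg, neg_neg]; rfl

theorem Zs_card (G : Subgroup L) : ¬ 3 ∣ Nat.card (Zs G) := by
  intro h
  have : Fact (Nat.Prime 3) := ⟨Nat.prime_three⟩
  obtain ⟨g, hg⟩ := exists_prime_orderOf_dvd_card' 3 h
  have h1 : g ^ 2 = 1 := Subtype.ext (Zs_sq g.2)
  have h2 := orderOf_dvd_of_pow_eq_one h1
  rw [hg] at h2
  omega

/-- the central element of `T` in `G` -/
def zz {G : Subgroup L} (hG : Syl G) : ↥G := ⟨tl 0 0 1, hG.le ⟨0, 0, 1, rfl⟩⟩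

theorem type_of_coord {a b c : ZMod 3} (h1 : tl a b c ∉ U1) (h2 : tl a b c ∉ U2) : a ≠ 0 ∧ b ≠ 0 := by
  constructor
  · rintro rfl
    exact h1 ⟨b, c, rfl⟩
  · rintro rfl
    exact h2 ⟨a, c, rfl⟩

theorem card_map_sub {G : Subgroup L} (R : Subgroup ↥G) : Nat.card (R.map G.subtype) = Nat.card R :=
  Nat.card_congr (R.equivMapOfInjective _ G.subtype_injective).toEquiv.symm

theorem isPGroup_map_sub {G : Subgroup L} {p : ℕ} {R : Subgroup ↥G} (h : IsPGroup p (R.map G.subtype)) : IsPGroup p R :=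
  h.of_equiv (R.equivMapOfInjective _ G.subtype_injective).symm

theorem zmod3_cases {a b : ZMod 3} (ha : a ≠ 0) (hb : b ≠ 0) : a = b ∨ a = -b := by
  revert a b
  decide

theorem conj_T {a b : ZMod 3} (hb : b ≠ 0) (c c' : ZMod 3) : ∃ g ∈ T, g * tl a b c * g⁻¹ = tl a b c' := by
  refine ⟨tl ((c' - c) * b) 0 0, ⟨_, _, _, rfl⟩, ?_⟩
  rw [tl_conj]
  have h : b * b = 1 := by
    revert hb
    revert b
    decide
  congr 1
  linear_combination (c' - c) * h

theorem conj_all {G : Subgroup L} (hG : Syl G) (ht : ∃ g ∈ G, ∀ v, g v = sf 1 (-1) 1 v) {a b a' b' : ZMod 3} (ha : a ≠ 0)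
    (hb : b ≠ 0) (ha' : a' ≠ 0) (hb' : b' ≠ 0) (c c' : ZMod 3) :
    ∃ g ∈ G, g * tl a b c * g⁻¹ = tl a' b' c' ∨ g * tl a b c * g⁻¹ = (tl a' b' c')⁻¹ := by
  obtain ⟨s, hs, hsf⟩ := ht
  have hsc := sf_conj (by decide) (by decide) (by decide) hsf
  have key : ∀ a' b' c' : ZMod 3, a' = a → b' ≠ 0 → ∃ g ∈ G, g * tl a b c * g⁻¹ = tl a' b' c' := by
    rintro a' b' c' rfl hb''
    rcases zmod3_cases hb'' hb with rfl | rfl
    · obtain ⟨g, hg, h⟩ := conj_T (a := a') hb'' c c'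
      exact ⟨g, hG.le hg, h⟩
    · obtain ⟨g, hg, h⟩ := conj_T (a := a') hb'' (-c) c'
      refine ⟨g * s, mul_mem (hG.le hg) hs, ?_⟩
      rw [← h]
      have h2 := hsc a' b c
      have h3 : tl (1 * a') (-1 * b) (1 * -1 * c) = tl a' (-b) (-c) := by congr 1 <;> ring
      rw [h3] at h2
      rw [← h2]
      group
  rcases zmod3_cases ha' ha with h | h
  · obtain ⟨g, hg, h1⟩ := key a' b' c' h hb'
    exact ⟨g, hg, Or.inl h1⟩
  · obtain ⟨g, hg, h1⟩ := key (-a') (-b') (-c' + a' * b') (by rw [h, neg_neg]) (neg_ne_zero.2 hb')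
    exact ⟨g, hg, Or.inr (by rw [h1, tl_inv])⟩

theorem loc (DL : DepsLin) {G : Subgroup L} (hG : Syl G) (h1 : ∃ g ∈ G, ∃ v, inW1 v ∧ ¬ inW1 (g v)) (h3 : ∃ g ∈ G, ∃ v, inW3 v ∧ ¬ inW3 (g v))
    (ht : ∃ g ∈ G, ∀ v, g v = sf 1 (-1) 1 v) :
    Loc (T.subgroupOf G) (U1.subgroupOf G) (U2.subgroupOf G) (zz hG) (Zs G) where
  card_T := by
    rw [Nat.card_congr (subgroupOfEquivOfLe hG.le).toEquiv, card_T]
  syl := hG.idx
  exp := by
    rintro x ⟨a, b, c, hx⟩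
    apply Subtype.ext
    change (x : L) ^ 3 = 1
    rw [show (x : L) = tl a b c from hx, tl_pow_three]
  le1 := fun x hx => U1_le hx
  le2 := fun x hx => U2_le hx
  card1 := by
    rw [Nat.card_congr (subgroupOfEquivOfLe (U1_le.trans hG.le)).toEquiv, card_U1]
  card2 := by
    rw [Nat.card_congr (subgroupOfEquivOfLe (U2_le.trans hG.le)).toEquiv, card_U2]
  inf := by
    ext x
    have h := (Subgroup.ext_iff.1 inf_U) (x : L)
    rw [mem_inf, mem_subgroupOf, mem_subgroupOf, ← mem_inf, h]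
    constructor
    · rintro ⟨n, hn⟩
      exact ⟨n, Subtype.ext hn⟩
    · rintro ⟨n, rfl⟩
      exact ⟨n, rfl⟩
  z_ne := by
    intro h
    have := tl_eq_one (congrArg Subtype.val h)
    exact absurd this.2.2 (by decide)
  z_comm := by
    rintro x ⟨a, b, c, hx⟩
    apply Subtype.ext
    change (x : L) * tl 0 0 1 = tl 0 0 1 * x
    rw [show (x : L) = tl a b c from hx, tl_mul, tl_mul]
    congr 1 <;> ring
  center := by
    rintro x ⟨a, b, c, hx⟩ h
    have hx' : (x : L) = tl a b c := hx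
    have e1 := congrArg Subtype.val (h ⟨tl 1 0 0, hG.le ⟨1, 0, 0, rfl⟩⟩ (⟨1, 0, 0, rfl⟩ : tl 1 0 0 ∈ T))
    have e2 := congrArg Subtype.val (h ⟨tl 0 1 0, hG.le ⟨0, 1, 0, rfl⟩⟩ (⟨0, 1, 0, rfl⟩ : tl 0 1 0 ∈ T))
    change (x : L) * tl 1 0 0 = tl 1 0 0 * x at e1
    change (x : L) * tl 0 1 0 = tl 0 1 0 * x at e2
    rw [hx', tl_mul, tl_mul] at e1 e2
    have f1 := (tl_inj e1).2.2
    have f2 := (tl_inj e2).2.2
    have hb : b = 0 := by linear_combination -f1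
    have ha : a = 0 := by linear_combination f2
    subst ha hb
    obtain ⟨n, hn⟩ := mem_zp.2 ⟨c, rfl⟩
    exact ⟨n, Subtype.ext (by rw [hx']; exact hn)⟩
  type := by
    intro g x hx hg
    exact DL.type (g : L) (x : L) hx hg
  not_conj := by
    intro g
    obtain ⟨x, hx, h⟩ := DL.not_conj (g : L)
    exact ⟨⟨x, hG.le (U1_le hx)⟩, hx, h⟩
  Z_le := Zs_le G
  Z_card := Zs_card G
  sig := by
    intro R hR h3 r hr
    refine DL.sig (R.map G.subtype) ?_ ?_ (r : L) ⟨r, hr, rfl⟩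
    · rintro t ht _ ⟨r, hr, rfl⟩
      exact ⟨_, hR ⟨t, hG.le ht⟩ ht r hr, rfl⟩
    · rwa [card_map_sub]
  core := by
    intro N hN hp
    have h := DL.core hG h1 h3 (N.map G.subtype) (by rintro _ ⟨x, -, rfl⟩; exact x.2) (by
      rintro g hg _ ⟨n, hn, rfl⟩
      exact ⟨_, hN.conj_mem n hn ⟨g, hg⟩, rfl⟩) (hp.map _)
    rw [eq_bot_iff]
    intro x hx
    have : (x : L) ∈ N.map G.subtype := ⟨x, hx, rfl⟩
    rw [h, mem_bot] at this
    exact Subtype.ext this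
  tri := by
    intro x hx hx1 P Q hP hQ hPx hQx
    have h := DL.tri (x : L) hx (fun h => hx1 (Subtype.ext h)) (P.map G.subtype) (Q.map G.subtype) (hP.map _) (hQ.map _)
      (by
        rintro _ ⟨g, hg, rfl⟩
        exact congrArg Subtype.val (mem_centralizer_singleton_iff.1 (hPx hg)))
      (by
        rintro _ ⟨g, hg, rfl⟩
        exact congrArg Subtype.val (mem_centralizer_singleton_iff.1 (hQx hg)))
    rw [← Subgroup.map_sup] at h
    exact isPGroup_map_sub h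
  reg := by
    intro x hx hx1 hx2
    set C := centralizer ({x} : Set ↥G) with hC
    have e : ↥C ≃* ↥(C.map G.subtype) := C.equivMapOfInjective _ G.subtype_injective
    have h := DL.reg (x : L) hx hx1 hx2 (C.map G.subtype) (by
      rintro _ ⟨g, hg, rfl⟩
      exact congrArg Subtype.val (mem_centralizer_singleton_iff.1 hg)) (by
      rw [← Nat.card_congr e.toEquiv]
      have h5 : orderOf (⟨x, mem_centralizer_singleton_iff.2 rfl⟩ : ↥C) = 3 := by
        have : Fact (Nat.Prime 3) := ⟨Nat.prime_three⟩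
        refine orderOf_eq_prime ?_ ?_
        · apply Subtype.ext
          apply Subtype.ext
          obtain ⟨a, b, c, hx'⟩ := hx
          change (x : L) ^ 3 = 1
          rw [show (x : L) = tl a b c from hx', tl_pow_three]
        · intro h6
          have h7 : x = 1 := congrArg Subtype.val h6
          exact hx1 (h7 ▸ one_mem _)
      exact (dvd_of_eq h5.symm).trans (orderOf_dvd_natCard _))
    rwa [← H482.SylowNumbers.card_sylow_congr 3 e] at h
  reg_conj := by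
    rintro x ⟨a, b, c, hx⟩ hx1 hx2 y ⟨a', b', c', hy⟩ hy1 hy2
    have hx' : (x : L) = tl a b c := hx
    have hy' : (y : L) = tl a' b' c' := hy
    obtain ⟨ha, hb⟩ := type_of_coord (fun h => hx1 (mem_subgroupOf.2 (hx' ▸ h))) (fun h => hx2 (mem_subgroupOf.2 (hx' ▸ h)))
    obtain ⟨ha', hb'⟩ := type_of_coord (fun h => hy1 (mem_subgroupOf.2 (hy' ▸ h))) (fun h => hy2 (mem_subgroupOf.2 (hy' ▸ h)))
    obtain ⟨g, hg, h⟩ := conj_all hG ht ha hb ha' hb' c c'
    rw [← hx', ← hy'] at h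
    exact ⟨⟨g, hg⟩, h.imp (fun h => Subtype.ext h) (fun h => Subtype.ext h)⟩
  ord := DL.ord hG

end Cfsg.Agent.H531.Co1
end

-- part: H531/Co1/Star
section
/-!
`G` contains an element normalising `U1` (`U2`) and moving `⟨z⟩`.
-/

set_option autoImplicit false
set_option linter.style.longLine false

namespace Cfsg.Agent.H531.Co1
open Subgroup Cfsg.Agent.H776.Co Cfsg.Agent.H776.Co.Lin

section
variable {G : Subgroup L}

theorem lift_mem {U : Subgroup ↥G} (hU : ∀ u ∈ U, u ^ 3 = 1) {x : ↥G} (hx : x ^ 3 = 1)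
    (h : QuotientGroup.mk' (Zs G) x ∈ U.map (QuotientGroup.mk' (Zs G))) : x ∈ U := by
  obtain ⟨u, hu, hux⟩ := h
  have hc : u⁻¹ * x ∈ Zs G := QuotientGroup.eq.1 hux
  have hcc := mem_center_iff.1 (Zs_le G hc)
  have h2 := Zs_sq hc
  have hcomm : Commute u (u⁻¹ * x) := hcc u
  have h3 : (u⁻¹ * x) ^ 3 = 1 := by
    have : x = u * (u⁻¹ * x) := by group
    rw [this, hcomm.mul_pow, hU u hu, one_mul] at hx
    exact hx
  have h1 : u⁻¹ * x = 1 := by
    rw [pow_succ, h2, one_mul] at h3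
    exact h3
  rw [inv_mul_eq_one] at h1
  exact h1 ▸ hu

theorem T_pow {u : ↥G} (hu : u ∈ T.subgroupOf G) : u ^ 3 = 1 := by
  obtain ⟨a, b, c, hx⟩ := hu
  apply Subtype.ext
  change (u : L) ^ 3 = 1
  rw [show (u : L) = tl a b c from hx, tl_pow_three]

/-- the image of `T` in `G/±1` -/
abbrev Tq (G : Subgroup L) : Subgroup (↥G ⧸ Zs G) := (T.subgroupOf G).map (QuotientGroup.mk' (Zs G))

/-- **The simple normal subgroup** of `G/±1`. -/
theorem exists_K (D : DepsLoc) (DL : DepsLin) (hG : Syl G) (h1 : ∃ g ∈ G, ∃ v, inW1 v ∧ ¬ inW1 (g v)) (h3 : ∃ g ∈ G, ∃ v, inW3 v ∧ ¬ inW3 (g v))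
    (ht : ∃ g ∈ G, ∀ v, g v = sf 1 (-1) 1 v) :
    ∃ K : Subgroup (↥G ⧸ Zs G), K.Normal ∧ IsSimpleGroup K ∧ ¬ IsMulCommutative K ∧ Tq G ≤ K := by
  have hq := D.quot (loc DL hG h1 h3 ht)
  obtain ⟨K, hK, hs, hc, hz⟩ := D.exists_simple hq
  refine ⟨K, hK, hs, hc, ?_⟩
  have n3 := D.card_inf_ne hq hK hs hc hz
  have n9 := D.card_inf_ne' hq hK hs hc hz
  have h27 := hq.card_T
  have hdvd : Nat.card ↥(Tq G ⊓ K) ∣ 3 ^ 3 := by
    have := card_dvd_of_le (inf_le_left : Tq G ⊓ K ≤ Tq G)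
    rw [h27] at this
    exact this
  obtain ⟨i, hi, hcard⟩ := (Nat.dvd_prime_pow Nat.prime_three).1 hdvd
  have hzT : QuotientGroup.mk' (Zs G) (zz hG) ∈ Tq G := ⟨_, (⟨0, 0, 1, rfl⟩ : tl 0 0 1 ∈ T), rfl⟩
  have hi3 : i = 3 := by
    interval_cases i
    · exfalso
      rw [pow_zero, card_eq_one, eq_bot_iff] at hcard
      exact hq.z_ne (mem_bot.1 (hcard ⟨hzT, hz⟩))
    · exact absurd hcard n3
    · exact absurd hcard n9
    · rfl
  rw [hi3] at hcard
  have : Tq G ⊓ K = Tq G := eq_of_le_of_card_ge inf_le_left (by rw [hcard, h27]; norm_num)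
  exact inf_eq_left.1 this

theorem pull {U : Subgroup L} (hG : Syl G) (hU : U ≤ T) {g : ↥G}
    (h1 : ∀ u ∈ (U.subgroupOf G).map (QuotientGroup.mk' (Zs G)),
      QuotientGroup.mk' (Zs G) g * u * (QuotientGroup.mk' (Zs G) g)⁻¹ ∈ (U.subgroupOf G).map (QuotientGroup.mk' (Zs G)))
    (h2 : QuotientGroup.mk' (Zs G) g * QuotientGroup.mk' (Zs G) (zz hG) * (QuotientGroup.mk' (Zs G) g)⁻¹ ∉
      zpowers (QuotientGroup.mk' (Zs G) (zz hG))) :
    ∃ g ∈ G, (∀ u ∈ U, g * u * g⁻¹ ∈ U) ∧ g * tl 0 0 1 * g⁻¹ ∉ zpowers (tl 0 0 1) := by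
  refine ⟨g, g.2, fun u hu => ?_, fun hz => ?_⟩
  · have huG : u ∈ G := hG.le (hU hu)
    have h3 := h1 _ ⟨⟨u, huG⟩, hu, rfl⟩
    rw [← map_inv, ← map_mul, ← map_mul] at h3
    have h4 := lift_mem (U := U.subgroupOf G) (fun w hw => T_pow (hU hw : (w : L) ∈ T)) (x := (g * ⟨u, huG⟩ * g⁻¹ :)) (by
      rw [conj_pow, T_pow (hU hu : ((⟨u, huG⟩ : ↥G) : L) ∈ T), mul_one, mul_inv_cancel]) h3
    exact h4
  · apply h2
    obtain ⟨n, hn⟩ := hz
    refine ⟨n, ?_⟩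
    have : zz hG ^ n = g * zz hG * g⁻¹ := Subtype.ext hn
    change QuotientGroup.mk' (Zs G) (zz hG) ^ n = _
    rw [← map_zpow, this, map_mul, map_mul, map_inv]

/-- **B8.** -/
theorem star (D : DepsLoc) (DL : DepsLin) (hG : Syl G) (h1 : ∃ g ∈ G, ∃ v, inW1 v ∧ ¬ inW1 (g v)) (h3 : ∃ g ∈ G, ∃ v, inW3 v ∧ ¬ inW3 (g v))
    (ht : ∃ g ∈ G, ∀ v, g v = sf 1 (-1) 1 v) :
    (∃ g ∈ G, (∀ u ∈ U1, g * u * g⁻¹ ∈ U1) ∧ g * tl 0 0 1 * g⁻¹ ∉ zpowers (tl 0 0 1)) ∧
    (∃ g ∈ G, (∀ u ∈ U2, g * u * g⁻¹ ∈ U2) ∧ g * tl 0 0 1 * g⁻¹ ∉ zpowers (tl 0 0 1)) := by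
  obtain ⟨K, hK, hs, hc, hT⟩ := exists_K D DL hG h1 h3 ht
  have hl := loc DL hG h1 h3 ht
  constructor
  · obtain ⟨g, hg1, hg2⟩ := D.move1 (D.quot hl) hK hs hc hT
    obtain ⟨g, rfl⟩ := QuotientGroup.mk'_surjective _ g
    exact pull hG U1_le hg1 hg2
  · obtain ⟨g, hg1, hg2⟩ := D.move1 (D.quot (D.symm hl)) hK hs hc hT
    obtain ⟨g, rfl⟩ := QuotientGroup.mk'_surjective _ g
    exact pull hG U2_le hg1 hg2

end

end Cfsg.Agent.H531.Co1
end

-- part: H531/Co1/Words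
section
/-!
Orders of some explicit elements of the groups `⟨T, w1, w2 k⟩`, `k = 0, 2` modulo `±1`: the orbits of `e33`.
-/

set_option autoImplicit false
set_option linter.style.longLine false

namespace Cfsg.Agent.H531.Co1
open Subgroup Cfsg.Agent.H776.Co Cfsg.Agent.H776.Co.Lin

/-- the inverse of `w1f` -/
def w1i (v : V) : V := ![v 2, -v 1, v 0, v 4, -v 3, v 5]
/-- the inverse of `w2f k` -/
def w2i (k : ZMod 3) (v : V) : V := ![v 0 - k * (v 5 - v 2), v 3, v 5, -v 1, -v 4, v 2]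

theorem w1f_w1i (v : V) : w1f (w1i v) = v := by
  funext i
  (revert i; simp only [w1f, w1i, _root_.Fin.forall_fin_succ, Fin.isValue, _root_.Matrix.cons_val, _root_.Matrix.cons_val_one, _root_.Matrix.cons_val_zero, _root_.neg_neg, _root_.Matrix.cons_val_succ, _root_.Fin.succ_zero_eq_one, _root_.Fin.succ_one_eq_two, Fin.reduceSucc, _root_.Matrix.cons_val_fin_one, _root_.IsEmpty.forall_iff, _root_.and_self])

theorem w2f_w2i (k : ZMod 3) (v : V) : w2f k (w2i k v) = v := by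
  funext i
  (revert i; simp only [w2f, w2i, _root_.Fin.forall_fin_succ, Fin.isValue, _root_.Matrix.cons_val_zero, _root_.Matrix.cons_val, _root_.sub_add_cancel, _root_.neg_neg, _root_.Matrix.cons_val_one, _root_.Matrix.cons_val_succ, _root_.Fin.succ_zero_eq_one, _root_.Fin.succ_one_eq_two, Fin.reduceSucc, _root_.Matrix.cons_val_fin_one, _root_.IsEmpty.forall_iff, _root_.and_self])

theorem inv_w1 {w : L} (hw : ∀ v, w v = w1f v) (v : V) : w⁻¹ v = w1i v := by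
  have h : w (w1i v) = v := by rw [hw, w1f_w1i]
  have h2 : w⁻¹ (w (w1i v)) = w1i v := by rw [← LinearEquiv.mul_apply, inv_mul_cancel]; rfl
  rw [h] at h2
  exact h2

theorem inv_w2 {k : ZMod 3} {w : L} (hw : ∀ v, w v = w2f k v) (v : V) : w⁻¹ v = w2i k v := by
  have h : w (w2i k v) = v := by rw [hw, w2f_w2i]
  have h2 : w⁻¹ (w (w2i k v)) = w2i k v := by rw [← LinearEquiv.mul_apply, inv_mul_cancel]; rfl
  rw [h] at h2
  exact h2

/-- apply a list of maps -/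
def run (fs : List (V → V)) (v : V) : V := fs.foldl (fun v f => f v) v

/-- a checked path -/
def path : V → List ((V → V) × V) → Bool
  | _, [] => true
  | v, (f, w) :: l => decide (f v = w) && path w l

/-- its end -/
def fin : V → List ((V → V) × V) → V
  | v, [] => v
  | _, (_, w) :: l => fin w l

theorem run_path (l : List ((V → V) × V)) (v : V) (h : path v l = true) : run (l.map Prod.fst) v = fin v l := by
  induction l generalizing v with
  | nil => rfl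
  | cons p l ih =>
    obtain ⟨f, w⟩ := p
    rw [path, Bool.and_eq_true, decide_eq_true_iff] at h
    change run (l.map Prod.fst) (f v) = fin w l
    rw [h.1]
    exact ih w h.2

theorem run_append (a b : List (V → V)) (v : V) : run (a ++ b) v = run b (run a v) := List.foldl_append

theorem pow_apply {x : L} {fs : List (V → V)} (hx : ∀ v, x v = run fs v) (n : ℕ) (v : V) :
    (x ^ n) v = run (List.replicate n fs).flatten v := by
  induction n generalizing v with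
  | zero => rfl
  | succ n ih =>
    rw [pow_succ, LinearEquiv.mul_apply, ih, hx, List.replicate_succ, List.flatten_cons, run_append]

theorem pow_fin {x : L} {fs : List (V → V)} (hx : ∀ v, x v = run fs v) {n : ℕ} {l : List ((V → V) × V)} {v : V}
    (hl : l.map Prod.fst = (List.replicate n fs).flatten) (hp : path v l = true) : (x ^ n) v = fin v l := by
  rw [pow_apply hx, ← hl, run_path l v hp]

/-- the base vector -/
def v0 : V := ![0, 0, 0, 0, 0, 1]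

def p13 : List ((V → V) × V) := [
  (w1i, ![0, 0, 0, 0, 0, 1]),
  (tf 1 1 1, ![1, 1, 1, 1, 1, 1]),
  (w1f, ![1, 2, 1, 2, 1, 1]),
  (w2i 0, ![1, 2, 1, 1, 2, 1]),
  (tf 0 1 0, ![1, 0, 0, 1, 0, 1]),
  (w2f 0, ![1, 2, 1, 0, 0, 0]),
  (w1i, ![1, 1, 1, 0, 0, 0]),
  (tf 1 1 1, ![1, 2, 1, 0, 0, 0]),
  (w1f, ![1, 1, 1, 0, 0, 0]),
  (w2i 0, ![1, 0, 0, 2, 0, 1]),
  (tf 0 1 0, ![1, 2, 1, 2, 1, 1]),
  (w2f 0, ![1, 1, 1, 2, 2, 1]),
  (w1i, ![1, 2, 1, 2, 1, 1]),
  (tf 1 1 1, ![1, 2, 1, 1, 2, 1]),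
  (w1f, ![1, 1, 1, 1, 1, 1]),
  (w2i 0, ![1, 1, 1, 2, 2, 1]),
  (tf 0 1 0, ![1, 0, 0, 2, 0, 1]),
  (w2f 0, ![1, 1, 1, 0, 0, 0]),
  (w1i, ![1, 2, 1, 0, 0, 0]),
  (tf 1 1 1, ![0, 0, 1, 0, 0, 0]),
  (w1f, ![1, 0, 0, 0, 0, 0]),
  (w2i 0, ![1, 0, 0, 0, 0, 0]),
  (tf 0 1 0, ![1, 0, 0, 0, 0, 0]),
  (w2f 0, ![1, 0, 0, 0, 0, 0]),
  (w1i, ![0, 0, 1, 0, 0, 0]),
  (tf 1 1 1, ![1, 1, 1, 0, 0, 0]),
  (w1f, ![1, 2, 1, 0, 0, 0]),
  (w2i 0, ![1, 0, 0, 1, 0, 1]),
  (tf 0 1 0, ![1, 1, 1, 1, 1, 1]),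
  (w2f 0, ![1, 2, 1, 1, 2, 1]),
  (w1i, ![1, 1, 1, 2, 2, 1]),
  (tf 1 1 1, ![1, 0, 0, 2, 0, 1]),
  (w1f, ![0, 0, 1, 0, 2, 1]),
  (w2i 0, ![0, 0, 1, 0, 1, 1]),
  (tf 0 1 0, ![0, 0, 1, 0, 2, 1]),
  (w2f 0, ![0, 0, 1, 0, 1, 1]),
  (w1i, ![1, 0, 0, 1, 0, 1]),
  (tf 1 1 1, ![1, 2, 1, 2, 1, 1]),
  (w1f, ![1, 1, 1, 2, 2, 1]),
  (w2i 0, ![1, 2, 1, 2, 1, 1]),
  (tf 0 1 0, ![1, 1, 1, 2, 2, 1]),
  (w2f 0, ![1, 1, 1, 1, 1, 1]),
  (w1i, ![1, 2, 1, 1, 2, 1]),
  (tf 1 1 1, ![1, 0, 0, 1, 0, 1]),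
  (w1f, ![0, 0, 1, 0, 1, 1]),
  (w2i 0, ![0, 0, 1, 0, 2, 1]),
  (tf 0 1 0, ![0, 0, 0, 0, 0, 1]),
  (w2f 0, ![0, 0, 1, 0, 0, 0]),
  (w1i, ![1, 0, 0, 0, 0, 0]),
  (tf 1 1 1, ![1, 0, 0, 0, 0, 0]),
  (w1f, ![0, 0, 1, 0, 0, 0]),
  (w2i 0, ![0, 0, 0, 0, 0, 1]),
  (tf 0 1 0, ![0, 0, 1, 0, 1, 1]),
  (w2f 0, ![0, 0, 1, 0, 2, 1]),
  (w1i, ![1, 0, 0, 2, 0, 1]),
  (tf 1 1 1, ![0, 0, 1, 0, 1, 1]),
  (w1f, ![1, 0, 0, 2, 0, 1]),
  (w2i 0, ![1, 2, 1, 0, 0, 0]),
  (tf 0 1 0, ![1, 2, 1, 0, 0, 0]),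
  (w2f 0, ![1, 0, 0, 2, 0, 1]),
  (w1i, ![0, 0, 1, 0, 1, 1]),
  (tf 1 1 1, ![1, 1, 1, 2, 2, 1]),
  (w1f, ![1, 2, 1, 1, 2, 1]),
  (w2i 0, ![1, 1, 1, 1, 1, 1]),
  (tf 0 1 0, ![1, 2, 1, 1, 2, 1]),
  (w2f 0, ![1, 2, 1, 2, 1, 1]),
  (w1i, ![1, 1, 1, 1, 1, 1]),
  (tf 1 1 1, ![0, 0, 1, 0, 2, 1]),
  (w1f, ![1, 0, 0, 1, 0, 1]),
  (w2i 0, ![1, 1, 1, 0, 0, 0]),
  (tf 0 1 0, ![1, 1, 1, 0, 0, 0]),
  (w2f 0, ![1, 0, 0, 1, 0, 1]),
  (w1i, ![0, 0, 1, 0, 2, 1]),
  (tf 1 1 1, ![0, 0, 0, 0, 0, 1]),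
  (w1f, ![0, 0, 0, 0, 0, 1]),
  (w2i 0, ![0, 0, 1, 0, 0, 0]),
  (tf 0 1 0, ![0, 0, 1, 0, 0, 0]),
  (w2f 0, ![0, 0, 0, 0, 0, 1])]
def p13_f : List (V → V) := [w1i, tf 1 1 1, w1f, w2i 0, tf 0 1 0, w2f 0]

def p2 : List ((V → V) × V) := [
  (w2i 0, ![0, 0, 1, 0, 0, 0]),
  (tf 0 2 0, ![0, 0, 1, 0, 0, 0]),
  (w2f 0, ![0, 0, 0, 0, 0, 1]),
  (w1i, ![0, 0, 0, 0, 0, 1]),
  (tf 0 0 1, ![1, 0, 0, 1, 0, 1]),
  (w1f, ![0, 0, 1, 0, 1, 1]),
  (w2i 0, ![0, 0, 1, 0, 2, 1]),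
  (tf 0 2 0, ![0, 0, 1, 0, 1, 1]),
  (w2f 0, ![0, 0, 1, 0, 2, 1]),
  (w1i, ![1, 0, 0, 2, 0, 1]),
  (tf 0 0 1, ![0, 0, 0, 0, 0, 1]),
  (w1f, ![0, 0, 0, 0, 0, 1])]
def p2_f : List (V → V) := [w2i 0, tf 0 2 0, w2f 0, w1i, tf 0 0 1, w1f]

def p11 : List ((V → V) × V) := [
  (w1i, ![0, 0, 0, 0, 0, 1]),
  (tf 1 1 0, ![0, 0, 1, 0, 1, 1]),
  (w1f, ![1, 0, 0, 2, 0, 1]),
  (w2i 2, ![2, 2, 1, 0, 0, 0]),
  (tf 0 1 0, ![2, 2, 1, 0, 0, 0]),
  (w2f 2, ![1, 0, 0, 2, 0, 1]),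
  (w1i, ![0, 0, 1, 0, 1, 1]),
  (tf 1 1 0, ![1, 2, 1, 1, 2, 1]),
  (w1f, ![1, 1, 1, 1, 1, 1]),
  (w2i 2, ![1, 1, 1, 2, 2, 1]),
  (tf 0 1 0, ![1, 0, 0, 2, 0, 1]),
  (w2f 2, ![2, 1, 1, 0, 0, 0]),
  (w1i, ![1, 2, 2, 0, 0, 0]),
  (tf 1 1 0, ![1, 1, 2, 0, 0, 0]),
  (w1f, ![2, 2, 1, 0, 0, 0]),
  (w2i 2, ![1, 0, 0, 1, 0, 1]),
  (tf 0 1 0, ![1, 1, 1, 1, 1, 1]),
  (w2f 2, ![1, 2, 1, 1, 2, 1]),
  (w1i, ![1, 1, 1, 2, 2, 1]),
  (tf 1 1 0, ![1, 0, 0, 1, 0, 1]),
  (w1f, ![0, 0, 1, 0, 1, 1]),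
  (w2i 2, ![0, 0, 1, 0, 2, 1]),
  (tf 0 1 0, ![0, 0, 0, 0, 0, 1]),
  (w2f 2, ![1, 0, 1, 0, 0, 0]),
  (w1i, ![1, 0, 1, 0, 0, 0]),
  (tf 1 1 0, ![2, 1, 1, 0, 0, 0]),
  (w1f, ![1, 2, 2, 0, 0, 0]),
  (w2i 2, ![2, 0, 0, 1, 0, 2]),
  (tf 0 1 0, ![2, 1, 2, 1, 2, 2]),
  (w2f 2, ![2, 2, 2, 1, 1, 2]),
  (w1i, ![2, 1, 2, 1, 2, 2]),
  (tf 1 1 0, ![0, 0, 2, 0, 1, 2]),
  (w1f, ![2, 0, 0, 2, 0, 2]),
  (w2i 2, ![1, 2, 2, 0, 0, 0]),
  (tf 0 1 0, ![1, 2, 2, 0, 0, 0]),
  (w2f 2, ![2, 0, 0, 2, 0, 2]),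
  (w1i, ![0, 0, 2, 0, 1, 2]),
  (tf 1 1 0, ![2, 0, 0, 1, 0, 2]),
  (w1f, ![0, 0, 2, 0, 1, 2]),
  (w2i 2, ![0, 0, 2, 0, 2, 2]),
  (tf 0 1 0, ![0, 0, 2, 0, 1, 2]),
  (w2f 2, ![0, 0, 2, 0, 2, 2]),
  (w1i, ![2, 0, 0, 2, 0, 2]),
  (tf 1 1 0, ![2, 2, 2, 2, 2, 2]),
  (w1f, ![2, 1, 2, 1, 2, 2]),
  (w2i 2, ![2, 1, 2, 2, 1, 2]),
  (tf 0 1 0, ![2, 0, 0, 2, 0, 2]),
  (w2f 2, ![1, 1, 2, 0, 0, 0]),
  (w1i, ![2, 2, 1, 0, 0, 0]),
  (tf 1 1 0, ![1, 0, 1, 0, 0, 0]),
  (w1f, ![1, 0, 1, 0, 0, 0]),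
  (w2i 2, ![0, 0, 0, 0, 0, 1]),
  (tf 0 1 0, ![0, 0, 1, 0, 1, 1]),
  (w2f 2, ![0, 0, 1, 0, 2, 1]),
  (w1i, ![1, 0, 0, 2, 0, 1]),
  (tf 1 1 0, ![1, 2, 1, 2, 1, 1]),
  (w1f, ![1, 1, 1, 2, 2, 1]),
  (w2i 2, ![1, 2, 1, 2, 1, 1]),
  (tf 0 1 0, ![1, 1, 1, 2, 2, 1]),
  (w2f 2, ![1, 1, 1, 1, 1, 1]),
  (w1i, ![1, 2, 1, 1, 2, 1]),
  (tf 1 1 0, ![0, 0, 0, 0, 0, 1]),
  (w1f, ![0, 0, 0, 0, 0, 1]),
  (w2i 2, ![1, 0, 1, 0, 0, 0]),
  (tf 0 1 0, ![1, 0, 1, 0, 0, 0]),
  (w2f 2, ![0, 0, 0, 0, 0, 1])]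
def p11_f : List (V → V) := [w1i, tf 1 1 0, w1f, w2i 2, tf 0 1 0, w2f 2]

def p5 : List ((V → V) × V) := [
  (w1i, ![0, 0, 0, 0, 0, 1]),
  (tf 1 0 1, ![1, 0, 0, 1, 0, 1]),
  (w1f, ![0, 0, 1, 0, 1, 1]),
  (w2i 2, ![0, 0, 1, 0, 2, 1]),
  (tf 0 1 0, ![0, 0, 0, 0, 0, 1]),
  (w2f 2, ![1, 0, 1, 0, 0, 0]),
  (w1i, ![1, 0, 1, 0, 0, 0]),
  (tf 1 0 1, ![2, 1, 1, 0, 0, 0]),
  (w1f, ![1, 2, 2, 0, 0, 0]),
  (w2i 2, ![2, 0, 0, 1, 0, 2]),
  (tf 0 1 0, ![2, 1, 2, 1, 2, 2]),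
  (w2f 2, ![2, 2, 2, 1, 1, 2]),
  (w1i, ![2, 1, 2, 1, 2, 2]),
  (tf 1 0 1, ![2, 2, 2, 2, 2, 2]),
  (w1f, ![2, 1, 2, 1, 2, 2]),
  (w2i 2, ![2, 1, 2, 2, 1, 2]),
  (tf 0 1 0, ![2, 0, 0, 2, 0, 2]),
  (w2f 2, ![1, 1, 2, 0, 0, 0]),
  (w1i, ![2, 2, 1, 0, 0, 0]),
  (tf 1 0 1, ![1, 0, 1, 0, 0, 0]),
  (w1f, ![1, 0, 1, 0, 0, 0]),
  (w2i 2, ![0, 0, 0, 0, 0, 1]),
  (tf 0 1 0, ![0, 0, 1, 0, 1, 1]),
  (w2f 2, ![0, 0, 1, 0, 2, 1]),
  (w1i, ![1, 0, 0, 2, 0, 1]),
  (tf 1 0 1, ![0, 0, 0, 0, 0, 1]),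
  (w1f, ![0, 0, 0, 0, 0, 1]),
  (w2i 2, ![1, 0, 1, 0, 0, 0]),
  (tf 0 1 0, ![1, 0, 1, 0, 0, 0]),
  (w2f 2, ![0, 0, 0, 0, 0, 1])]
def p5_f : List (V → V) := [w1i, tf 1 0 1, w1f, w2i 2, tf 0 1 0, w2f 2]

def p8 : List ((V → V) × V) := [
  (w1i, ![0, 0, 0, 0, 0, 1]),
  (tf 1 0 0, ![0, 0, 0, 0, 0, 1]),
  (w1f, ![0, 0, 0, 0, 0, 1]),
  (w2i 2, ![1, 0, 1, 0, 0, 0]),
  (tf 0 1 0, ![1, 0, 1, 0, 0, 0]),
  (w2f 2, ![0, 0, 0, 0, 0, 1]),
  (w1i, ![0, 0, 0, 0, 0, 1]),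
  (tf 1 0 0, ![0, 0, 0, 0, 0, 1]),
  (w1f, ![0, 0, 0, 0, 0, 1]),
  (tf 2 1 0, ![0, 0, 1, 0, 1, 1]),
  (w1i, ![1, 0, 0, 1, 0, 1]),
  (tf 1 0 0, ![1, 0, 0, 1, 0, 1]),
  (w1f, ![0, 0, 1, 0, 1, 1]),
  (w2i 2, ![0, 0, 1, 0, 2, 1]),
  (tf 0 1 0, ![0, 0, 0, 0, 0, 1]),
  (w2f 2, ![1, 0, 1, 0, 0, 0]),
  (w1i, ![1, 0, 1, 0, 0, 0]),
  (tf 1 0 0, ![2, 1, 1, 0, 0, 0]),
  (w1f, ![1, 2, 2, 0, 0, 0]),
  (tf 2 1 0, ![2, 0, 2, 0, 0, 0]),
  (w1i, ![2, 0, 2, 0, 0, 0]),
  (tf 1 0 0, ![1, 2, 2, 0, 0, 0]),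
  (w1f, ![2, 1, 1, 0, 0, 0]),
  (w2i 2, ![1, 0, 0, 2, 0, 1]),
  (tf 0 1 0, ![1, 2, 1, 2, 1, 1]),
  (w2f 2, ![1, 1, 1, 2, 2, 1]),
  (w1i, ![1, 2, 1, 2, 1, 1]),
  (tf 1 0 0, ![0, 0, 1, 0, 1, 1]),
  (w1f, ![1, 0, 0, 2, 0, 1]),
  (tf 2 1 0, ![1, 2, 1, 2, 1, 1]),
  (w1i, ![1, 1, 1, 1, 1, 1]),
  (tf 1 0 0, ![1, 2, 1, 2, 1, 1]),
  (w1f, ![1, 1, 1, 2, 2, 1]),
  (w2i 2, ![1, 2, 1, 2, 1, 1]),
  (tf 0 1 0, ![1, 1, 1, 2, 2, 1]),
  (w2f 2, ![1, 1, 1, 1, 1, 1]),
  (w1i, ![1, 2, 1, 1, 2, 1]),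
  (tf 1 0 0, ![0, 0, 1, 0, 2, 1]),
  (w1f, ![1, 0, 0, 1, 0, 1]),
  (tf 2 1 0, ![1, 1, 1, 1, 1, 1]),
  (w1i, ![1, 2, 1, 1, 2, 1]),
  (tf 1 0 0, ![0, 0, 1, 0, 2, 1]),
  (w1f, ![1, 0, 0, 1, 0, 1]),
  (w2i 2, ![2, 1, 1, 0, 0, 0]),
  (tf 0 1 0, ![2, 1, 1, 0, 0, 0]),
  (w2f 2, ![1, 0, 0, 1, 0, 1]),
  (w1i, ![0, 0, 1, 0, 2, 1]),
  (tf 1 0 0, ![1, 1, 1, 2, 2, 1]),
  (w1f, ![1, 2, 1, 1, 2, 1]),
  (tf 2 1 0, ![1, 0, 0, 2, 0, 1]),
  (w1i, ![0, 0, 1, 0, 1, 1]),
  (tf 1 0 0, ![1, 1, 1, 1, 1, 1]),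
  (w1f, ![1, 2, 1, 2, 1, 1]),
  (w2i 2, ![1, 2, 1, 1, 2, 1]),
  (tf 0 1 0, ![1, 0, 0, 1, 0, 1]),
  (w2f 2, ![2, 2, 1, 0, 0, 0]),
  (w1i, ![1, 1, 2, 0, 0, 0]),
  (tf 1 0 0, ![2, 0, 2, 0, 0, 0]),
  (w1f, ![2, 0, 2, 0, 0, 0]),
  (tf 2 1 0, ![1, 1, 2, 0, 0, 0]),
  (w1i, ![2, 2, 1, 0, 0, 0]),
  (tf 1 0 0, ![1, 0, 1, 0, 0, 0]),
  (w1f, ![1, 0, 1, 0, 0, 0]),
  (w2i 2, ![0, 0, 0, 0, 0, 1]),
  (tf 0 1 0, ![0, 0, 1, 0, 1, 1]),
  (w2f 2, ![0, 0, 1, 0, 2, 1]),
  (w1i, ![1, 0, 0, 2, 0, 1]),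
  (tf 1 0 0, ![1, 0, 0, 2, 0, 1]),
  (w1f, ![0, 0, 1, 0, 2, 1]),
  (tf 2 1 0, ![1, 0, 0, 1, 0, 1]),
  (w1i, ![0, 0, 1, 0, 2, 1]),
  (tf 1 0 0, ![1, 1, 1, 2, 2, 1]),
  (w1f, ![1, 2, 1, 1, 2, 1]),
  (w2i 2, ![1, 1, 1, 1, 1, 1]),
  (tf 0 1 0, ![1, 2, 1, 1, 2, 1]),
  (w2f 2, ![1, 2, 1, 2, 1, 1]),
  (w1i, ![1, 1, 1, 1, 1, 1]),
  (tf 1 0 0, ![1, 2, 1, 2, 1, 1]),
  (w1f, ![1, 1, 1, 2, 2, 1]),
  (tf 2 1 0, ![0, 0, 0, 0, 0, 1])]
def p8_f : List (V → V) := [w1i, tf 1 0 0, w1f, w2i 2, tf 0 1 0, w2f 2, w1i, tf 1 0 0, w1f, tf 2 1 0]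


/-- stabiliser of the line of `v` -/
def St (v : V) : Subgroup L where
  carrier := {g | g v = v ∨ g v = -v}
  mul_mem' := by
    rintro a b (ha | ha) (hb | hb)
    · left; rw [LinearEquiv.mul_apply, hb, ha]
    · right; rw [LinearEquiv.mul_apply, hb, map_neg, ha]
    · right; rw [LinearEquiv.mul_apply, hb, ha]
    · left; rw [LinearEquiv.mul_apply, hb, map_neg, ha, neg_neg]
  one_mem' := Or.inl rfl
  inv_mem' := by
    rintro a (ha | ha)
    · left
      have h : a⁻¹ (a v) = v := by rw [← LinearEquiv.mul_apply, inv_mul_cancel]; rfl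
      rwa [ha] at h
    · right
      have h : a⁻¹ (a v) = v := by rw [← LinearEquiv.mul_apply, inv_mul_cancel]; rfl
      rw [ha, map_neg] at h
      exact neg_eq_iff_eq_neg.1 h

theorem mem_St {v : V} {g : L} : g ∈ St v ↔ g v = v ∨ g v = -v := Iff.rfl

theorem gcd_mem {G : Type*} [Group G] {H : Subgroup G} {x : G} {n m : ℕ} (hn : x ^ n ∈ H) (hm : x ^ m ∈ H) :
    x ^ n.gcd m ∈ H := by
  have h : x ^ ((n.gcd m : ℕ) : ℤ) ∈ H := by
    rw [Nat.gcd_eq_gcd_ab, zpow_add, zpow_mul, zpow_mul, zpow_natCast, zpow_natCast]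
    exact mul_mem (zpow_mem hn _) (zpow_mem hm _)
  rwa [zpow_natCast] at h

theorem dvd_of_mem {G : Type*} [Group G] {H : Subgroup G} {x : G} {p a m : ℕ} (hp : p.Prime) (h1 : x ^ p ^ (a + 1) ∈ H)
    (h2 : x ^ p ^ a ∉ H) (hm : x ^ m ∈ H) : p ^ (a + 1) ∣ m := by
  have h3 := gcd_mem h1 hm
  obtain ⟨j, hj, hg⟩ := (Nat.dvd_prime_pow hp).1 (Nat.gcd_dvd_left (p ^ (a + 1)) m)
  rw [hg] at h3
  rcases Nat.lt_or_ge j (a + 1) with h | h
  · exfalso
    apply h2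
    have : p ^ a = p ^ j * p ^ (a - j) := by rw [← pow_add]; congr 1; omega
    rw [this, pow_mul]
    exact pow_mem h3 _
  · have : j = a + 1 := le_antisymm hj h
    rw [← this, ← hg]
    exact Nat.gcd_dvd_right _ _

section
variable {w1 w2 : L}

theorem x13 (h1 : ∀ v, w1 v = w1f v) (h2 : ∀ v, w2 v = w2f 0 v) {m : ℕ}
    (hm : ((w2 * tl 0 1 0 * w2⁻¹) * (w1 * tl 1 1 1 * w1⁻¹)) ^ m ∈ St v0) : 13 ∣ m := by
  have hx : ∀ v, ((w2 * tl 0 1 0 * w2⁻¹) * (w1 * tl 1 1 1 * w1⁻¹)) v = run p13_f v := by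
    intro v
    simp only [LinearEquiv.mul_apply, h1, h2, inv_w1 h1, inv_w2 h2, tl_apply]
    rfl
  refine dvd_of_mem (p := 13) (a := 0) (by norm_num) ?_ ?_ hm
  · rw [mem_St, pow_fin hx (l := p13) rfl (by decide +kernel)]
    decide +kernel
  · rw [mem_St, pow_fin hx (n := 13 ^ 0) (l := p13.take 6) rfl (by decide +kernel)]
    decide +kernel

theorem x2 (h1 : ∀ v, w1 v = w1f v) (h2 : ∀ v, w2 v = w2f 0 v) {m : ℕ}
    (hm : ((w1 * tl 0 0 1 * w1⁻¹) * (w2 * tl 0 2 0 * w2⁻¹)) ^ m ∈ St v0) : 2 ∣ m := by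
  have hx : ∀ v, ((w1 * tl 0 0 1 * w1⁻¹) * (w2 * tl 0 2 0 * w2⁻¹)) v = run p2_f v := by
    intro v
    simp only [LinearEquiv.mul_apply, h1, h2, inv_w1 h1, inv_w2 h2, tl_apply]
    rfl
  refine dvd_of_mem (p := 2) (a := 0) (by norm_num) ?_ ?_ hm
  · rw [mem_St, pow_fin hx (l := p2) rfl (by decide +kernel)]
    decide +kernel
  · rw [mem_St, pow_fin hx (n := 2 ^ 0) (l := p2.take 6) rfl (by decide +kernel)]
    decide +kernel

theorem x11 (h1 : ∀ v, w1 v = w1f v) (h2 : ∀ v, w2 v = w2f 2 v) {m : ℕ}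
    (hm : ((w2 * tl 0 1 0 * w2⁻¹) * (w1 * tl 1 1 0 * w1⁻¹)) ^ m ∈ St v0) : 11 ∣ m := by
  have hx : ∀ v, ((w2 * tl 0 1 0 * w2⁻¹) * (w1 * tl 1 1 0 * w1⁻¹)) v = run p11_f v := by
    intro v
    simp only [LinearEquiv.mul_apply, h1, h2, inv_w1 h1, inv_w2 h2, tl_apply]
    rfl
  refine dvd_of_mem (p := 11) (a := 0) (by norm_num) ?_ ?_ hm
  · rw [mem_St, pow_fin hx (l := p11) rfl (by decide +kernel)]
    decide +kernel
  · rw [mem_St, pow_fin hx (n := 11 ^ 0) (l := p11.take 6) rfl (by decide +kernel)]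
    decide +kernel

theorem x5 (h1 : ∀ v, w1 v = w1f v) (h2 : ∀ v, w2 v = w2f 2 v) {m : ℕ}
    (hm : ((w2 * tl 0 1 0 * w2⁻¹) * (w1 * tl 1 0 1 * w1⁻¹)) ^ m ∈ St v0) : 5 ∣ m := by
  have hx : ∀ v, ((w2 * tl 0 1 0 * w2⁻¹) * (w1 * tl 1 0 1 * w1⁻¹)) v = run p5_f v := by
    intro v
    simp only [LinearEquiv.mul_apply, h1, h2, inv_w1 h1, inv_w2 h2, tl_apply]
    rfl
  refine dvd_of_mem (p := 5) (a := 0) (by norm_num) ?_ ?_ hm
  · rw [mem_St, pow_fin hx (l := p5) rfl (by decide +kernel)]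
    decide +kernel
  · rw [mem_St, pow_fin hx (n := 5 ^ 0) (l := p5.take 6) rfl (by decide +kernel)]
    decide +kernel

theorem x8 (h1 : ∀ v, w1 v = w1f v) (h2 : ∀ v, w2 v = w2f 2 v) {m : ℕ}
    (hm : (tl 2 1 0 * (w1 * tl 1 0 0 * w1⁻¹) * (w2 * tl 0 1 0 * w2⁻¹) * (w1 * tl 1 0 0 * w1⁻¹)) ^ m ∈ St v0) : 8 ∣ m := by
  have hx : ∀ v, (tl 2 1 0 * (w1 * tl 1 0 0 * w1⁻¹) * (w2 * tl 0 1 0 * w2⁻¹) * (w1 * tl 1 0 0 * w1⁻¹)) v = run p8_f v := by
    intro v
    simp only [LinearEquiv.mul_apply, h1, h2, inv_w1 h1, inv_w2 h2, tl_apply]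
    rfl
  refine dvd_of_mem (p := 2) (a := 2) (by norm_num) ?_ ?_ hm
  · rw [mem_St, pow_fin hx (n := 2 ^ 3) (l := p8) rfl (by decide +kernel)]
    decide +kernel
  · rw [mem_St, pow_fin hx (n := 2 ^ 2) (l := p8.take 40) rfl (by decide +kernel)]
    decide +kernel

end

end Cfsg.Agent.H531.Co1
end

-- part: H531/Co1/Final
section
/-!
`G = ⟨T, w1, w2 k⟩ N_G(T)`.
-/

set_option autoImplicit false
set_option linter.style.longLine false

namespace Cfsg.Agent.H531.Co1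
open Subgroup Cfsg.Agent.H776.Co Cfsg.Agent.H776.Co.Lin

theorem card_dvd_factorial {A : Type*} [Group A] [Finite A] [IsSimpleGroup A] {X : Subgroup A} (hX : X ≠ ⊤) :
    Nat.card A ∣ X.index.factorial := by
  let ρ : A →* Equiv.Perm (A ⧸ X) := MulAction.toPermHom _ _
  have hk : ρ.ker ≤ X := by
    intro a ha
    have h1 : ρ a = 1 := ha
    have h2 := congrArg (fun f : Equiv.Perm (A ⧸ X) => f (QuotientGroup.mk 1)) h1
    have h3 : (QuotientGroup.mk (a * 1) : A ⧸ X) = QuotientGroup.mk 1 := h2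
    rw [QuotientGroup.eq, mul_one] at h3
    simpa using h3
  have hb : ρ.ker = ⊥ := by
    rcases (inferInstance : ρ.ker.Normal).eq_bot_or_eq_top with h | h
    · exact h
    · exact absurd (top_le_iff.1 (h ▸ hk)) hX
  have h1 := card_dvd_of_injective ρ ((MonoidHom.ker_eq_bot_iff ρ).1 hb)
  rwa [Nat.card_perm] at h1

theorem mem_of_pow {Γ : Type*} [Group Γ] [Finite Γ] {K : Subgroup Γ} [K.Normal] {p : ℕ} (hp : p.Prime) (hi : ¬ p ∣ K.index) {x : Γ}
    (hx : x ^ p = 1) : x ∈ K := by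
  have h1 : ((x : Γ ⧸ K)) ^ p = 1 := by rw [← QuotientGroup.mk_pow, hx]; rfl
  have h2 : orderOf (x : Γ ⧸ K) ∣ p := orderOf_dvd_of_pow_eq_one h1
  have h3 : orderOf (x : Γ ⧸ K) ∣ K.index := by
    rw [index_eq_card]
    exact orderOf_dvd_natCard _
  rcases (Nat.dvd_prime hp).1 h2 with h | h
  · exact (QuotientGroup.eq_one_iff x).1 (orderOf_eq_one_iff.1 h)
  · exact absurd (h ▸ h3) hi

section
variable {G : Subgroup L}

/-- the order of `K` -/
theorem card_K (D : DepsLoc) (DL : DepsLin) (hG : Syl G) (h1 : ∃ g ∈ G, ∃ v, inW1 v ∧ ¬ inW1 (g v)) (h3 : ∃ g ∈ G, ∃ v, inW3 v ∧ ¬ inW3 (g v))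
    (ht : ∃ g ∈ G, ∀ v, g v = sf 1 (-1) 1 v) {K : Subgroup (↥G ⧸ Zs G)} (hs : IsSimpleGroup K) (hc : ¬ IsMulCommutative K)
    (hT : Tq G ≤ K) : Nat.card K = 5616 ∨ Nat.card K = 6048 ∨ Nat.card K = 95040 := by
  have hq := D.quot (loc DL hG h1 h3 ht)
  have hTK : Nat.card ↥((Tq G).subgroupOf K) = 27 := by
    rw [Nat.card_congr (subgroupOfEquivOfLe hT).toEquiv]
    exact hq.card_T
  have hP : IsPGroup 3 ↥((Tq G).subgroupOf K) := IsPGroup.of_card (n := 3) (by rw [hTK]; norm_num)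
  have hidx : ¬ 3 ∣ ((Tq G).subgroupOf K).index := fun h => hq.syl (h.trans (relIndex_dvd_index_of_le hT))
  refine D.simple_list hc (hP.toSylow hidx) ?_ ?_ ?_
  · exact hTK
  · intro hcomm
    have h9 : Tq G ≤ zpowers (QuotientGroup.mk' (Zs G) (zz hG)) := by
      intro x hx
      refine hq.center x hx fun y hy => ?_
      have := hcomm ⟨⟨x, hT hx⟩, hx⟩ ⟨⟨y, hT hy⟩, hy⟩
      exact congrArg (fun w => ((w : ↥K) : ↥G ⧸ Zs G)) (congrArg Subtype.val this)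
    have h10 := card_le_of_le h9
    rw [show Nat.card ↥(Tq G) = 27 from hq.card_T, Nat.card_zpowers] at h10
    have h11 : orderOf (QuotientGroup.mk' (Zs G) (zz hG)) ∣ 3 := orderOf_dvd_of_pow_eq_one
      (hq.exp _ ⟨_, (⟨0, 0, 1, rfl⟩ : tl 0 0 1 ∈ T), rfl⟩)
    have := Nat.le_of_dvd (by norm_num) h11
    omega
  · exact (card_subgroup_dvd_card K).trans hq.ord

/-- the part of `H` lying over `K` -/
def MM (H : Subgroup L) (K : Subgroup (↥G ⧸ Zs G)) : Subgroup L := H ⊓ (K.comap (QuotientGroup.mk' (Zs G))).map G.subtype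

theorem St_of_pow {x : ↥G} {m : ℕ} (h : QuotientGroup.mk' (Zs G) x ^ m = 1) (v : V) : (x : L) ^ m ∈ St v := by
  rw [← map_pow] at h
  have h1 : x ^ m ∈ Zs G := (QuotientGroup.eq_one_iff _).1 h
  rw [← SubmonoidClass.coe_pow]
  exact h1.imp (fun h => h v) (fun h => h v)

/-- **B11.** -/
theorem final (D : DepsLoc) (DL : DepsLin) (hG : Syl G) (h1 : ∃ g ∈ G, ∀ v, g v = w1f v) {k : ZMod 3} (h2 : ∃ g ∈ G, ∀ v, g v = w2f k v)
    (h3 : ∃ g ∈ G, ∀ v, g v = sf 1 (-1) 1 v) :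
    ∀ g ∈ G, ∃ h ∈ Subgroup.closure ((T : Set L) ∪ {x | ∀ v, x v = w1f v} ∪ {x | ∀ v, x v = w2f k v}), ∃ n ∈ G,
      (∀ t ∈ T, n * t * n⁻¹ ∈ T) ∧ g = h * n := by
  have hk1 := DL.k_ne_one hG h1 h2
  obtain ⟨w1, hw1, e1⟩ := h1
  obtain ⟨w2, hw2, e2⟩ := h2
  have hm1 : ∃ g ∈ G, ∃ v, inW1 v ∧ ¬ inW1 (g v) := by
    refine ⟨w1, hw1, ![1, 0, 0, 0, 0, 0], by simp [inW1], ?_⟩
    rw [e1]
    simp only [inW1, w1f, _root_.Fin.isValue, _root_.Matrix.cons_val, _root_.Matrix.cons_val_one, _root_.Matrix.cons_val_zero, _root_.neg_zero, _root_.one_ne_zero, _root_.and_self, _root_.and_true, _root_.and_false, _root_.not_false_eq_true]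
  have hm3 : ∃ g ∈ G, ∃ v, inW3 v ∧ ¬ inW3 (g v) := by
    refine ⟨w2, hw2, ![0, 1, 0, 0, 0, 0], by simp [inW3], ?_⟩
    rw [e2]
    simp only [inW3, w2f, _root_.Fin.isValue, _root_.Matrix.cons_val_zero, _root_.Matrix.cons_val, _root_.sub_self, _root_.MulZeroClass.mul_zero, _root_.add_zero, _root_.neg_zero, _root_.Matrix.cons_val_one, _root_.one_ne_zero, _root_.and_self, _root_.and_true, _root_.not_false_eq_true]
  have hq := D.quot (loc DL hG hm1 hm3 h3)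
  obtain ⟨K, hK, hs, hc, hT⟩ := exists_K D DL hG hm1 hm3 h3
  have hcard := card_K D DL hG hm1 hm3 h3 hs hc hT
  set G0 := Subgroup.closure ((T : Set L) ∪ {x | ∀ v, x v = w1f v} ∪ {x | ∀ v, x v = w2f k v}) with hG0
  have hT0 : T ≤ G0 := fun x hx => subset_closure (Or.inl (Or.inl hx))
  have hw10 : w1 ∈ G0 := subset_closure (Or.inl (Or.inr e1))
  have hw20 : w2 ∈ G0 := subset_closure (Or.inr e2)
  have hle : G0 ≤ G := by
    rw [hG0, closure_le]
    rintro x ((hx | hx) | hx)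
    · exact hG.le hx
    · have : x = w1 := LinearEquiv.ext fun v => by rw [hx v, e1 v]
      exact this ▸ hw1
    · have : x = w2 := LinearEquiv.ext fun v => by rw [hx v, e2 v]
      exact this ▸ hw2
  -- the part over `K`
  set π := QuotientGroup.mk' (Zs G) with hπ
  set H0 : Subgroup (↥G ⧸ Zs G) := (G0.subgroupOf G).map π ⊓ K with hH0
  have hTq : Tq G ≤ H0 := le_inf (map_mono fun x hx => hT0 hx) hT
  have hidx : ¬ 3 ∣ K.index := fun h => hq.syl (h.trans (index_dvd_of_le hT))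
  have h3K : ∀ x : ↥G, x ^ 3 = 1 → π x ∈ K := fun x hx => mem_of_pow Nat.prime_three hidx (by rw [← map_pow, hx, map_one])
  have hTM : ∀ w ∈ G0, ∀ t ∈ T, w * t * w⁻¹ ∈ MM G0 K := by
    intro w hw t ht
    have hmem : w * t * w⁻¹ ∈ G0 := mul_mem (mul_mem hw (hT0 ht)) (inv_mem hw)
    refine mem_inf.2 ⟨hmem, ⟨⟨w, hle hw⟩ * ⟨t, hG.le ht⟩ * ⟨w, hle hw⟩⁻¹, ?_, rfl⟩⟩
    refine h3K _ ?_
    rw [conj_pow, T_pow (ht : ((⟨t, hG.le ht⟩ : ↥G) : L) ∈ T), mul_one, mul_inv_cancel]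
  have hTM' : ∀ t ∈ T, t ∈ MM G0 K := by
    intro t ht
    have := hTM 1 (one_mem _) t ht
    rwa [one_mul, inv_one, mul_one] at this
  have hdvd : ∀ x ∈ MM G0 K, ∀ n : ℕ, (∀ m, x ^ m ∈ St v0 → n ∣ m) → n ∣ Nat.card H0 := by
    rintro x ⟨hx0, ⟨y, hy, rfl⟩⟩ n hn
    have hyH : π y ∈ H0 := ⟨⟨y, hx0, rfl⟩, hy⟩
    have h5 : n ∣ orderOf (⟨π y, hyH⟩ : H0) := by
      apply hn
      refine St_of_pow (x := y) ?_ v0
      have := pow_orderOf_eq_one (⟨π y, hyH⟩ : H0)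
      exact congrArg Subtype.val this
    exact h5.trans (orderOf_dvd_natCard _)
  have h27 : 27 ∣ Nat.card H0 := by
    have := card_dvd_of_le hTq
    rwa [show Nat.card ↥(Tq G) = 27 from hq.card_T] at this
  have hmul : Nat.card H0 * (H0.subgroupOf K).index = Nat.card K := by
    rw [← Nat.card_congr (subgroupOfEquivOfLe (inf_le_right : H0 ≤ K)).toEquiv]
    exact card_mul_index _
  have hKle : K ≤ H0 := by
    by_contra hcon
    have hne : H0.subgroupOf K ≠ ⊤ := fun h => hcon (subgroupOf_eq_top.1 h)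
    have hf := card_dvd_factorial hne
    set i := (H0.subgroupOf K).index with hi
    have hi0 : i ≠ 0 := index_ne_zero_of_finite
    have key : ∀ N p : ℕ, p.Prime → 8 < p → p ∣ N → Nat.card K = N → i ∣ 8 → False := by
      intro N p hp h8 hpN hN hi8
      have h1 : i ≤ 8 := Nat.le_of_dvd (by norm_num) hi8
      have h2 : p ∣ i.factorial := hpN.trans (hN ▸ hf)
      have h3 := (hp.dvd_factorial).1 h2
      omega
    have hk : k = 0 ∨ k = 2 := by
      revert hk1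
      clear * -
      revert k
      decide
    rcases hk with rfl | rfl
    · have h13 := hdvd _ (mul_mem (hTM w2 hw20 _ ⟨0, 1, 0, rfl⟩) (hTM w1 hw10 _ ⟨1, 1, 1, rfl⟩)) 13 (fun m hm => x13 e1 e2 hm)
      have h2 := hdvd _ (mul_mem (hTM w1 hw10 _ ⟨0, 0, 1, rfl⟩) (hTM w2 hw20 _ ⟨0, 2, 0, rfl⟩)) 2 (fun m hm => x2 e1 e2 hm)
      have h702 : 702 ∣ Nat.card H0 := by
        have a : 27 * 13 ∣ Nat.card H0 := Nat.Coprime.mul_dvd_of_dvd_of_dvd (by norm_num) h27 h13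
        exact Nat.Coprime.mul_dvd_of_dvd_of_dvd (by norm_num) a h2
      obtain ⟨c, hc'⟩ := h702
      rw [hc'] at hmul
      have h13' : 13 ∣ Nat.card K := by rw [← hmul]; exact ⟨54 * c * i, by ring⟩
      have h5616 : Nat.card K = 5616 := by
        rcases hcard with h | h | h
        · exact h
        · rw [h] at h13'; norm_num at h13'
        · rw [h] at h13'; norm_num at h13'
      refine key 5616 13 (by norm_num) (by norm_num) (by norm_num) h5616 ⟨c, ?_⟩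
      rw [h5616] at hmul
      have : 702 * (i * c) = 702 * 8 := by linarith only [hmul]
      omega
    · have h11 := hdvd _ (mul_mem (hTM w2 hw20 _ ⟨0, 1, 0, rfl⟩) (hTM w1 hw10 _ ⟨1, 1, 0, rfl⟩)) 11 (fun m hm => x11 e1 e2 hm)
      have h5 := hdvd _ (mul_mem (hTM w2 hw20 _ ⟨0, 1, 0, rfl⟩) (hTM w1 hw10 _ ⟨1, 0, 1, rfl⟩)) 5 (fun m hm => x5 e1 e2 hm)
      have h8 := hdvd _ (mul_mem (mul_mem (mul_mem (hTM' _ ⟨2, 1, 0, rfl⟩) (hTM w1 hw10 _ ⟨1, 0, 0, rfl⟩))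
        (hTM w2 hw20 _ ⟨0, 1, 0, rfl⟩)) (hTM w1 hw10 _ ⟨1, 0, 0, rfl⟩)) 8 (fun m hm => x8 e1 e2 hm)
      have hbig : 11880 ∣ Nat.card H0 := by
        have a : 27 * 11 ∣ Nat.card H0 := Nat.Coprime.mul_dvd_of_dvd_of_dvd (by norm_num) h27 h11
        have b : 27 * 11 * 5 ∣ Nat.card H0 := Nat.Coprime.mul_dvd_of_dvd_of_dvd (by norm_num) a h5
        exact Nat.Coprime.mul_dvd_of_dvd_of_dvd (by norm_num) b h8
      obtain ⟨c, hc'⟩ := hbig
      rw [hc'] at hmul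
      have h11' : 11 ∣ Nat.card K := by rw [← hmul]; exact ⟨1080 * c * i, by ring⟩
      have h95040 : Nat.card K = 95040 := by
        rcases hcard with h | h | h
        · rw [h] at h11'; norm_num at h11'
        · rw [h] at h11'; norm_num at h11'
        · exact h
      refine key 95040 11 (by norm_num) (by norm_num) (by norm_num) h95040 ⟨c, ?_⟩
      rw [h95040] at hmul
      have : 11880 * (i * c) = 11880 * 8 := by linarith only [hmul]
      (clear * - this; omega)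
  -- Frattini
  have hP : IsPGroup 3 ↥(Tq G) := IsPGroup.of_card (n := 3) (by rw [hq.card_T]; norm_num)
  intro g hg
  have hfr := Sylow.normalizer_sup_eq_top' (N := K) (hP.toSylow hq.syl) hT
  have hgm : π ⟨g, hg⟩ ∈ K ⊔ normalizer ((Tq G : Subgroup _) : Set (↥G ⧸ Zs G)) := by
    rw [sup_comm]
    have : π ⟨g, hg⟩ ∈ (⊤ : Subgroup (↥G ⧸ Zs G)) := mem_top _
    rw [← hfr] at this
    exact this
  obtain ⟨κ, hκ, ν, hν, hκν⟩ := mem_sup_of_normal_left.1 hgm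
  obtain ⟨⟨h, hhG⟩, hh0, hhκ⟩ := (hKle hκ).1
  refine ⟨h, hh0, h⁻¹ * g, mul_mem (inv_mem hhG) hg, ?_, by group⟩
  intro t ht
  have hn : π (⟨h, hhG⟩⁻¹ * ⟨g, hg⟩) = ν := by
    rw [map_mul, map_inv, hhκ, ← hκν, inv_mul_cancel_left]
  have h6 : π ((⟨h, hhG⟩⁻¹ * ⟨g, hg⟩) * ⟨t, hG.le ht⟩ * (⟨h, hhG⟩⁻¹ * ⟨g, hg⟩)⁻¹) ∈ Tq G := by
    rw [map_mul, map_mul, map_inv, hn]
    exact (mem_normalizer_iff.1 hν _).1 ⟨_, ht, rfl⟩
  exact lift_mem (U := T.subgroupOf G) (fun w hw => T_pow hw) (by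
    rw [conj_pow, T_pow (ht : ((⟨t, hG.le ht⟩ : ↥G) : L) ∈ T), mul_one, mul_inv_cancel]) h6

end

end Cfsg.Agent.H531.Co1
end

private theorem dce_c61f643a0e4c : _root_.True := by
  try have : _root_.True := by simp only [_root_.Cfsg.Agent.H531.Co1.path.eq_def]
  try have : _root_.True := by simp only [_root_.Cfsg.Agent.H776.Co.Lin.inW3.eq_1]
  try have : _root_.True := by simp only [_root_.Cfsg.Agent.H776.Co.Lin.w1f.eq_1]
  try have : _root_.True := by simp only [_root_.Cfsg.Agent.H531.Co1.w1i.eq_1]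
  try have : _root_.True := by simp only [_root_.Cfsg.Agent.H531.Co1.path.eq_2]
  try have : _root_.True := by simp only [_root_.Cfsg.Agent.H119.Co1.nf.eq_1]
  try have : _root_.True := by simp only [_root_.Cfsg.Agent.H531.Co1.path.eq_1]
  try have : _root_.True := by simp only [_root_.Cfsg.Agent.H776.Co.Lin.sf.eq_1]
  try have : _root_.True := by simp only [_root_.Cfsg.Agent.H776.Co.Lin.df.eq_1]
  try have : _root_.True := by simp only [_root_.Cfsg.Agent.H776.Co.Lin.inW1.eq_1]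
  try have : _root_.True := by simp only [_root_.Cfsg.Agent.H776.Co.Lin.w2f.eq_1]
  try have : _root_.True := by simp only [_root_.Cfsg.Agent.H531.Co1.w2i.eq_1]
  try have : _root_.True := by simp only [_root_.Cfsg.Agent.H119.Co1.mf.eq_1]
  exact _root_.True.intro
end

-- part: H410/Co1/Move
section
prune_inst 0x10000000000000
set_option linter.all false

set_option autoImplicit false

namespace Cfsg.Agent.H410.Co1

open Subgroup Cfsg.Agent.H776.Co

universe u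

theorem closed3 : Closed3.{u} := by
  intro K _ _ _ hc S T hT hTS hsc
  rcases Cfsg.Agent.S5116.result hc 3 S T hT hTS hsc with h | ⟨-, -, -, h⟩
  · exact Or.inl h
  · exact Or.inr h

/-- `Loc.move1` from the list `simple_list` of orders of simple groups -/
theorem move1_of_list {Γ : Type u} [Group Γ] [Finite Γ] {T U1 U2 : Subgroup Γ} {z : Γ} (hL : List3.{u})
    (h : Loc T U1 U2 z ⊥) {K : Subgroup Γ} (_hK : K.Normal) (hs : IsSimpleGroup K) (hc : ¬ IsMulCommutative K) (hT : T ≤ K) :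
    ∃ g : Γ, (∀ u ∈ U1, g * u * g⁻¹ ∈ U1) ∧ g * z * g⁻¹ ∉ zpowers z :=
  move1_of hL closed3 h hs hc hT

end Cfsg.Agent.H410.Co1
end

-- part: H83/Co/Sp_mg
section

end

-- part: H276/Co1/LemE3_mg
section
prune_inst 0x204000412000000000009001000000060000900000080060200f020288240080000000a02004000008080400340048101000900000000000000000011805a10000100080080000000000000002000000000000000000000000000000000004200000000
set_option linter.all false
open scoped Cfsg.Agent.FastGrp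

-- part: H276/Co1/LinD
section
/-!
# S5227: lemE3, the linear data
-/

set_option autoImplicit false
set_option linter.style.longLine false
set_option linter.unusedVariables false

namespace Cfsg.Agent.H276.Co1

open Subgroup Cfsg.Agent.H776.Co P

/-- a vector -/
def E (x0 x1 x2 x3 x4 x5 : ZMod 3) : Lin.V := ![x0, x1, x2, x3, x4, x5]

theorem E_eta (v : Lin.V) : v = E (v 0) (v 1) (v 2) (v 3) (v 4) (v 5) := by
  funext i
  fin_cases i <;> rfl

theorem E_add (x0 x1 x2 x3 x4 x5 y0 y1 y2 y3 y4 y5 : ZMod 3) :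
    E x0 x1 x2 x3 x4 x5 + E y0 y1 y2 y3 y4 y5 = E (x0 + y0) (x1 + y1) (x2 + y2) (x3 + y3) (x4 + y4) (x5 + y5) := by
  funext i
  fin_cases i <;> rfl

theorem E_sub (x0 x1 x2 x3 x4 x5 y0 y1 y2 y3 y4 y5 : ZMod 3) :
    E x0 x1 x2 x3 x4 x5 - E y0 y1 y2 y3 y4 y5 = E (x0 - y0) (x1 - y1) (x2 - y2) (x3 - y3) (x4 - y4) (x5 - y5) := by
  funext i
  fin_cases i <;> rfl

theorem E_smul (c x0 x1 x2 x3 x4 x5 : ZMod 3) :
    c • E x0 x1 x2 x3 x4 x5 = E (c * x0) (c * x1) (c * x2) (c * x3) (c * x4) (c * x5) := by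
  funext i
  fin_cases i <;> rfl

theorem E_zero : E 0 0 0 0 0 0 = 0 := by
  funext i
  fin_cases i <;> rfl

theorem E_inj {x0 x1 x2 x3 x4 x5 y0 y1 y2 y3 y4 y5 : ZMod 3} (h : E x0 x1 x2 x3 x4 x5 = E y0 y1 y2 y3 y4 y5) :
    x0 = y0 ∧ x1 = y1 ∧ x2 = y2 ∧ x3 = y3 ∧ x4 = y4 ∧ x5 = y5 :=
  ⟨congrFun h 0, congrFun h 1, congrFun h 2, congrFun h 3, congrFun h 4, congrFun h 5⟩

/-- `(x - 1) v` -/
def br (x : P) (v : Lin.V) : Lin.V :=
  E (2 * x.a * v 1 + 2 * x.c * v 3 + x.a ^ 2 * v 2 + 2 * x.a * x.c * v 4 + x.c ^ 2 * v 5)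
    (x.a * v 2 + x.c * v 4 + x.b * (v 3 + x.a * v 4 + x.c * v 5))
    (2 * x.b * v 4 + x.b ^ 2 * v 5) (x.a * v 4 + x.c * v 5) (x.b * v 5) 0

theorem br_E (x : P) (v0 v1 v2 v3 v4 v5 : ZMod 3) : br x (E v0 v1 v2 v3 v4 v5) =
    E (2 * x.a * v1 + 2 * x.c * v3 + x.a ^ 2 * v2 + 2 * x.a * x.c * v4 + x.c ^ 2 * v5)
    (x.a * v2 + x.c * v4 + x.b * (v3 + x.a * v4 + x.c * v5))
    (2 * x.b * v4 + x.b ^ 2 * v5) (x.a * v4 + x.c * v5) (x.b * v5) 0 := rfl

theorem br_vec (x : P) (v : Lin.V) : x * vec v * x⁻¹ = vec (br x v) * vec v := by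
  rw [conj_vec, ← vec_add]
  congr 1
  funext i
  (revert i; simp only [br, E, Lin.tf, _root_.Fin.forall_fin_succ, Fin.isValue, _root_.Pi.add_apply, _root_.Matrix.cons_val_zero, _root_.Matrix.cons_val_succ, _root_.Fin.succ_zero_eq_one, _root_.Fin.succ_one_eq_two, Fin.reduceSucc, _root_.Matrix.cons_val_fin_one, _root_.zero_add, _root_.IsEmpty.forall_iff, _root_.and_self, _root_.and_true]) <;> (repeat' with_reducible apply And.intro) <;> ring

theorem br_sub (x : P) (u v : Lin.V) : br x (u - v) = br x u - br x v := by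
  funext i
  (revert i; simp only [br, E, _root_.Fin.forall_fin_succ, Fin.isValue, _root_.Pi.sub_apply, _root_.Matrix.cons_val_zero, _root_.Matrix.cons_val_succ, _root_.Matrix.cons_val_fin_one, _root_.sub_self, _root_.implies_true, _root_.and_true]) <;> (repeat' with_reducible apply And.intro) <;> ring

theorem br_smul (x : P) (l : ZMod 3) (v : Lin.V) : br x (l • v) = l • br x v := by
  funext i
  (revert i; simp only [br, E, _root_.Fin.forall_fin_succ, Fin.isValue, _root_.Pi.smul_apply, _root_.smul_eq_mul, _root_.Matrix.cons_val_zero, _root_.Matrix.cons_val_succ, _root_.Matrix.cons_val_fin_one, _root_.MulZeroClass.mul_zero, _root_.implies_true, _root_.and_true]) <;> (repeat' with_reducible apply And.intro) <;> ring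

theorem vec_smul_mem {H : Subgroup P} (l : ZMod 3) {v : Lin.V} (h : vec v ∈ H) : vec (l • v) ∈ H := by
  have h0 : l = 0 ∨ l = 1 ∨ l = 2 := by revert l; decide
  rcases h0 with rfl | rfl | rfl
  · rw [zero_smul, vec_zero]; exact one_mem _
  · rwa [one_smul]
  · have : (2 : ZMod 3) • v = v + v := by
      funext i; simp only [Pi.smul_apply, Pi.add_apply, smul_eq_mul]; ring
    rw [this, vec_add]; exact mul_mem h h

/-- the trace of a subgroup of `P` on `A` -/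
def tr (H : Subgroup P) : Submodule (ZMod 3) Lin.V where
  carrier := {v | vec v ∈ H}
  add_mem' := by
    intro u v (hu : vec u ∈ H) (hv : vec v ∈ H)
    show vec (u + v) ∈ H
    rw [vec_add]; exact mul_mem hu hv
  zero_mem' := by
    show vec 0 ∈ H
    rw [vec_zero]; exact one_mem _
  smul_mem' := fun c v hv => vec_smul_mem c hv

theorem mem_tr {H : Subgroup P} {v : Lin.V} : v ∈ tr H ↔ vec v ∈ H := Iff.rfl

theorem card_tr (H : Subgroup P) : Nat.card (tr H) = Nat.card ↥(H ⊓ A) := by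
  refine Nat.card_congr ⟨fun v => ⟨vec v.1, v.2, vec_mem _⟩, fun x => ⟨crd x.1, ?_⟩, ?_, ?_⟩
  · rw [mem_tr, vec_crd x.2.2]; exact x.2.1
  · intro v; exact Subtype.ext (crd_vec v.1)
  · intro x; exact Subtype.ext (vec_crd x.2.2)

/-- counting -/
theorem card_le {D1 : Subgroup P} {M : Type} [Finite M] (f : P → M)
    (hf : ∀ y ∈ D1, ∀ y' ∈ D1, f y = f y' → y⁻¹ * y' ∈ A) : Nat.card D1 ≤ Nat.card M * Nat.card ↥(D1 ⊓ A) := by
  classical
  have hr : ∀ m : M, ∃ r ∈ D1, (∃ y ∈ D1, f y = m) → f r = m := by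
    intro m
    by_cases h : ∃ y ∈ D1, f y = m
    · obtain ⟨y, hy, hm⟩ := h
      exact ⟨y, hy, fun _ => hm⟩
    · exact ⟨1, one_mem _, fun h' => absurd h' h⟩
  choose r hr1 hr2 using hr
  rw [← Nat.card_prod]
  have hr3 : ∀ y ∈ D1, (r (f y))⁻¹ * y ∈ A := fun y hy => hf _ (hr1 _) y hy (hr2 _ ⟨y, hy, rfl⟩)
  refine Nat.card_le_card_of_injective (fun y : D1 => (f y.1, (⟨(r (f y.1))⁻¹ * y.1,
    ⟨D1.mul_mem (D1.inv_mem (hr1 _)) y.2, hr3 _ y.2⟩⟩ : ↥(D1 ⊓ A)))) ?_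
  intro y y' h
  have h1 : f y.1 = f y'.1 := congrArg Prod.fst h
  have h2 : (r (f y.1))⁻¹ * y.1 = (r (f y'.1))⁻¹ * y'.1 := congrArg (fun t => (Prod.snd t).1) h
  rw [h1] at h2
  exact Subtype.ext (mul_left_cancel h2)

theorem N1 {C D : Submodule (ZMod 3) Lin.V} (hle : C ≤ D) (hcard : Nat.card D ≤ 3 * Nat.card C) {d0 : Lin.V}
    (h0 : d0 ∈ D) (h0' : d0 ∉ C) : ∀ d ∈ D, ∃ l : ZMod 3, d - l • d0 ∈ C := by
  have hc : ∀ W : Submodule (ZMod 3) Lin.V, Nat.card W = 3 ^ Module.finrank (ZMod 3) W := by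
    intro W
    rw [Module.natCard_eq_pow_finrank (K := ZMod 3), Nat.card_zmod]
  rw [hc, hc, ← pow_succ', Nat.pow_le_pow_iff_right (by norm_num)] at hcard
  have h1 : C < C ⊔ Submodule.span (ZMod 3) {d0} := by
    refine lt_of_le_of_ne le_sup_left fun e => h0' ?_
    rw [e]
    exact Submodule.mem_sup_right (Submodule.mem_span_singleton_self d0)
  have h2 := Submodule.finrank_lt_finrank_of_lt h1
  have h3 : C ⊔ Submodule.span (ZMod 3) {d0} ≤ D :=
    sup_le hle (by rw [Submodule.span_singleton_le_iff_mem]; exact h0)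
  have h4 : C ⊔ Submodule.span (ZMod 3) {d0} = D := Submodule.eq_of_le_of_finrank_le h3 (by omega)
  intro d hd
  rw [← h4, Submodule.mem_sup] at hd
  obtain ⟨y, hy, z, hz, rfl⟩ := hd
  obtain ⟨l, rfl⟩ := Submodule.mem_span_singleton.1 hz
  exact ⟨l, by rw [add_sub_cancel_right]; exact hy⟩

end Cfsg.Agent.H276.Co1
end

-- part: H276/Co1/LemE3
section
/-!
# S5227: lemE3
-/

set_option autoImplicit false
set_option linter.style.longLine false
set_option linter.unusedVariables false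
set_option linter.unusedSectionVars false
set_option linter.unnecessarySeqFocus false
set_option linter.unusedTactic false
set_option linter.unreachableTactic false
set_option linter.unusedSimpArgs false

namespace Cfsg.Agent.H276.Co1

open Subgroup Cfsg.Agent.H776.Co P

/-- the data -/
structure Dt (Q D1 : Subgroup P) : Prop where
  A0 : E 1 0 0 0 0 0 ∈ tr Q
  A1 : ∀ q ∈ Q, ∀ v ∈ tr Q, br q v ∈ tr Q
  A2 : ∀ q ∈ Q, ∀ v ∈ tr D1, br q v ∈ tr D1
  A3 : ∀ y ∈ D1, ∀ v ∈ tr D1, br y v = 0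
  A4 : ∀ y ∈ D1, ∀ v ∈ tr Q, br y v ∈ tr D1
  A6 : ∀ v, v ∉ tr Q → (∀ q ∈ Q, br q v ∈ tr Q) → ∀ y ∈ D1, y ∉ A → br y v ∉ tr D1
  cd : Nat.card (tr Q) = Nat.card D1
  ex : ∃ k ∈ D1, k ∉ A
  le : D1 ≤ Q
  cj : ∀ q ∈ Q, ∀ y ∈ D1, q * y * q⁻¹ * y⁻¹ ∈ D1

theorem mk_Dt {Q D1 : Subgroup P} (h1 : D1 ≤ Q) (h2 : ∀ q ∈ Q, ∀ d ∈ D1, q * d * q⁻¹ ∈ D1)
    (h3 : Nat.card D1 = Nat.card ↥(Q ⊓ A)) (h4 : ∀ x ∈ D1, ∀ y ∈ D1, x * y = y * x)
    (h6 : ∀ x : P, (∀ q ∈ Q, x * q = q * x) → x ∈ Q) (h8 : D1 ≠ Q ⊓ A)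
    (h9 : ∀ b ∈ A, b ∉ Q → (∀ q ∈ Q, b * q * b⁻¹ ∈ Q) → ∀ y ∈ D1, y ∉ A → y * b * y⁻¹ * b⁻¹ ∉ D1) : Dt Q D1 := by
  have hbr : ∀ (x : P) (v : Lin.V), vec (br x v) = x * vec v * x⁻¹ * (vec v)⁻¹ := by
    intro x v
    rw [br_vec, mul_inv_cancel_right]
  refine ⟨?_, ?_, ?_, ?_, ?_, ?_, ?_, ?_, h1, ?_⟩
  · refine h6 _ fun q _ => ?_
    have h := br_vec q (E 1 0 0 0 0 0)
    have h' : br q (E 1 0 0 0 0 0) = 0 := by
      rw [br_E, ← E_zero]
      congr 1
    rw [h', vec_zero, one_mul, mul_inv_eq_iff_eq_mul] at h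
    exact h.symm
  · intro q hq v hv
    rw [mem_tr] at hv ⊢
    rw [hbr]
    exact mul_mem (mul_mem (mul_mem hq hv) (inv_mem hq)) (inv_mem hv)
  · intro q hq v hv
    rw [mem_tr] at hv ⊢
    rw [hbr]
    exact mul_mem (h2 q hq _ hv) (inv_mem hv)
  · intro y hy v hv
    apply vec_injective
    rw [hbr, vec_zero, h4 y hy _ hv, mul_inv_cancel_right, mul_inv_cancel]
  · intro y hy v hv
    rw [mem_tr] at hv ⊢
    rw [hbr]
    have e : y * vec v * y⁻¹ * (vec v)⁻¹ = y * (vec v * y⁻¹ * (vec v)⁻¹) := by group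
    rw [e]
    exact mul_mem hy (h2 _ hv _ (inv_mem hy))
  · intro v hv hq y hy hyA
    rw [mem_tr, hbr]
    refine h9 _ (vec_mem v) hv (fun q hqQ => ?_) y hy hyA
    have h := hq q hqQ
    rw [mem_tr, hbr] at h
    have e : vec v * q * (vec v)⁻¹ = (q * vec v * q⁻¹ * (vec v)⁻¹)⁻¹ * q := by group
    rw [e]
    exact mul_mem (inv_mem h) hqQ
  · rw [h3, card_tr]
  · by_contra hcon
    push Not at hcon
    have hle : D1 ≤ Q ⊓ A := fun x hx => ⟨h1 hx, hcon x hx⟩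
    exact h8 (SetLike.coe_injective (Set.eq_of_subset_of_ncard_le hle (by
      rw [← Nat.card_coe_set_eq, ← Nat.card_coe_set_eq]; exact h3.ge) (Set.toFinite _)))
  · intro q hq y hy
    exact mul_mem (h2 q hq y hy) (inv_mem hy)

theorem z3a {a : ZMod 3} (h : a ≠ 0) : a * a = 1 := by revert a; decide

theorem h30 : (3 : ZMod 3) = 0 := rfl

theorem z3b {a b a' b' : ZMod 3} (h : a ≠ 0) (h' : a' * b = a * b') : b' = a * a' * b := by
  revert a b a' b'; decide +kernel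

section

variable {Q D1 : Subgroup P} (h : Dt Q D1)
include h

theorem Dt.C_le : tr D1 ≤ tr Q := fun _ hv => h.le hv

theorem Dt.e0 (x : ZMod 3) : E x 0 0 0 0 0 ∈ tr Q := by
  have h1 := (tr Q).smul_mem x h.A0
  rw [E_smul] at h1
  simpa using h1

theorem Dt.e01 (h1 : E 0 1 0 0 0 0 ∈ tr Q) (x y : ZMod 3) : E x y 0 0 0 0 ∈ tr Q := by
  have h2 := (tr Q).add_mem (h.e0 x) ((tr Q).smul_mem y h1)
  rw [E_smul, E_add] at h2
  simpa using h2

/-- counting with `a` -/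
theorem Dt.L1 (ha : ∀ y ∈ D1, y ∉ A → y.a ≠ 0) : Nat.card (tr Q) ≤ 3 * Nat.card (tr D1) := by
  rw [h.cd, card_tr]
  have h1 := card_le (D1 := D1) (fun y => y.a) (fun y hy y' hy' e => by
    by_contra hcon
    have h2 := ha _ (mul_mem (inv_mem hy) hy') hcon
    apply h2
    rw [mul_a, inv_a, e]; ring)
  rwa [Nat.card_zmod] at h1

theorem Dt.comm_a (ha : ∀ y ∈ D1, y ∉ A → y.a ≠ 0) {k : P} (hk : k ∈ D1) {q : P} (hq : q ∈ Q) : q.a * k.b = k.a * q.b := by
  have h1 := h.cj q hq k hk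
  have h2 : q * k * q⁻¹ * k⁻¹ ∈ A := by
    by_contra hcon
    apply ha _ h1 hcon
    simp only [mul_a, inv_a]; ring
  have h3 : (q * k * q⁻¹ * k⁻¹).c = 0 := h2.2.2
  simp only [mul_a, mul_c, inv_c, inv_a, inv_b] at h3
  linear_combination h3

theorem Dt.case1 (h1 : E 0 1 0 0 0 0 ∉ tr Q) : False := by
  have hbr1 : ∀ q, br q (E 0 1 0 0 0 0) = E (2 * q.a) 0 0 0 0 0 := by
    intro q; rw [br_E]; congr 1 <;> ring
  have k1 : ∀ y ∈ D1, y ∉ A → E (2 * y.a) 0 0 0 0 0 ∉ tr D1 := by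
    intro y hy hyA
    rw [← hbr1]
    refine h.A6 _ h1 (fun q hq => ?_) y hy hyA
    rw [hbr1]; exact h.e0 _
  have k2 : ∀ y ∈ D1, y ∉ A → y.a ≠ 0 := by
    intro y hy hyA h0
    apply k1 y hy hyA
    rw [h0, mul_zero, E_zero]; exact zero_mem _
  obtain ⟨k, hk, hkA⟩ := h.ex
  have ka := k2 k hk hkA
  have k3 : ∀ x : ZMod 3, x ≠ 0 → E x 0 0 0 0 0 ∉ tr D1 := by
    intro x hx hcon
    apply k1 k hk hkA
    have h2 := (tr D1).smul_mem (2 * k.a * x) hcon
    rw [E_smul] at h2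
    have e : 2 * k.a * x * x = 2 * k.a := by rw [mul_assoc, z3a hx, mul_one]
    rw [e] at h2
    simpa using h2
  have hN := N1 h.C_le (h.L1 k2) h.A0 (k3 1 one_ne_zero)
  have hab : ∀ q ∈ Q, q.b = k.a * q.a * k.b := fun q hq => z3b ka (h.comm_a k2 hk hq)
  obtain ⟨a, hae⟩ : ∃ a, a = k.a := ⟨_, rfl⟩
  obtain ⟨b, hbe⟩ : ∃ b, b = k.b := ⟨_, rfl⟩
  obtain ⟨c, hce⟩ : ∃ c, c = k.c := ⟨_, rfl⟩
  rw [← hae] at ka hab
  rw [← hbe] at hab
  have a2 := z3a ka
  -- `u`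
  have hu : ∀ q ∈ Q, br q (E 0 (c + a * b) b (-a) 0 0) =
      E (2 * q.a * (c + a * b) + q.a ^ 2 * b - 2 * a * q.c) 0 0 0 0 0 := by
    intro q hq
    rw [br_E, hab q hq]
    congr 1
    · ring
    · linear_combination (-q.a * b) * a2
  have huD : E 0 (c + a * b) b (-a) 0 0 ∈ tr Q := by
    by_contra hcon
    refine h.A6 _ hcon (fun q hq => ?_) k hk hkA ?_
    · rw [hu q hq]; exact h.e0 _
    · rw [hu k (h.le hk), ← hae, ← hce]
      have e : 2 * a * (c + a * b) + a ^ 2 * b - 2 * a * c = 0 := by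
        clear * -
        revert a b c; decide
      rw [e, E_zero]; exact zero_mem _
  obtain ⟨l, hl⟩ := hN _ huD
  rw [E_smul, E_sub] at hl
  have hx : ∀ q ∈ Q, 2 * q.a * (c + a * b) + q.a ^ 2 * b - 2 * a * q.c = 0 := by
    intro q hq
    by_contra hcon
    have h2 := h.A2 q hq _ hl
    apply k3 _ hcon
    have e : br q (E (0 - l * 1) (c + a * b - l * 0) (b - l * 0) (-a - l * 0) (0 - l * 0) (0 - l * 0)) =
        br q (E 0 (c + a * b) b (-a) 0 0) := by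
      rw [br_E, br_E]
      (with_reducible congr 1) <;> ring
    rw [e, hu q hq] at h2
    exact h2
  -- the test vector
  obtain ⟨m, hm⟩ : ∃ m, m = 2 * a * (b - l) := ⟨_, rfl⟩
  have hv : ∀ q ∈ Q, br q (E 0 m (-(a * (c + a * b))) 0 (-1) 0) =
      E (2 * q.a * m - q.a ^ 2 * (a * (c + a * b)) - 2 * q.a * q.c) (a * q.a * (c + a * b))
        (a * q.a * b) (a * q.a * (-a)) 0 0 := by
    intro q hq
    rw [br_E]
    have e1 := hab q hq
    have e2 := hx q hq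
    congr 1
    · ring
    · linear_combination (-a) * e2 - q.a * e1 - 2 * q.c * a2 - q.c * h30
    · linear_combination (-2) * e1 - a * q.a * b * h30
    · linear_combination q.a * a2
  have hvD : E 0 m (-(a * (c + a * b))) 0 (-1) 0 ∉ tr Q := by
    intro hcon
    obtain ⟨l', hl'⟩ := hN _ hcon
    have h2 := h.A3 k hk _ hl'
    rw [br_sub, br_smul, hv k (h.le hk), br_E, E_smul, E_sub, ← E_zero, ← hae] at h2
    obtain ⟨-, -, -, h3, -, -⟩ := E_inj h2
    apply ka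
    linear_combination (-1) * h3 - a * a2
  refine h.A6 _ hvD (fun q hq => ?_) k hk hkA ?_
  · rw [hv q hq]
    have h2 := (tr Q).add_mem (h.e0 (2 * q.a * m - q.a ^ 2 * (a * (c + a * b)) - 2 * q.a * q.c))
      ((tr Q).smul_mem (a * q.a) huD)
    rw [E_smul, E_add] at h2
    simpa using h2
  · rw [hv k (h.le hk), ← hae, ← hce]
    have e : E (2 * a * m - a ^ 2 * (a * (c + a * b)) - 2 * a * c) (a * a * (c + a * b)) (a * a * b) (a * a * -a) 0 0 =
        E (0 - l * 1) (c + a * b - l * 0) (b - l * 0) (-a - l * 0) (0 - l * 0) (0 - l * 0) := by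
      rw [a2, hm]
      congr 1
      · linear_combination (4 * (b - l) - b - a * (c + a * b)) * a2 + (b - l - a * c) * h30
      all_goals ring
    rw [e]; exact hl

theorem Dt.case2i (h1 : E 0 1 0 0 0 0 ∈ tr Q) (h2 : ¬ (E 0 0 1 0 0 0 ∈ tr Q ∧ E 0 0 0 1 0 0 ∈ tr Q)) {k : P}
    (hk : k ∈ D1) (ka : k.a ≠ 0) : False := by
  have hkA : k ∉ A := fun hA => ka hA.1
  have a2 := z3a ka
  have c0 : ∀ x, E x 0 0 0 0 0 ∈ tr D1 := by
    intro x
    have h3 := (tr D1).smul_mem (2 * k.a * x) (h.A4 k hk _ h1)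
    rw [br_E, E_smul] at h3
    convert h3 using 1
    congr 1
    · linear_combination (-4 * x) * a2 - x * h30
    all_goals ring
  have c1 : E 0 1 0 0 0 0 ∉ tr D1 := by
    intro hcon
    have h3 := h.A3 k hk _ hcon
    rw [br_E, ← E_zero] at h3
    have h4 := (E_inj h3).1
    apply ka
    linear_combination 2 * h4 - k.a * h30
  have hb : ∀ q, br q (E 0 0 k.b (-k.a) 0 0) = E (q.a ^ 2 * k.b - 2 * k.a * q.c) (q.a * k.b - k.a * q.b) 0 0 0 0 := by
    intro q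
    rw [br_E]
    congr 1 <;> ring
  have hbD : E 0 0 k.b (-k.a) 0 0 ∈ tr Q := by
    by_contra hcon
    refine h.A6 _ hcon (fun q hq => ?_) k hk hkA ?_
    · rw [hb]; exact h.e01 h1 _ _
    · rw [hb, sub_eq_zero.2 (rfl : k.a * k.b = k.a * k.b)]; exact c0 _
  have he2 : ∀ q, br q (E 0 0 1 0 0 0) = E (q.a ^ 2) q.a 0 0 0 0 := by
    intro q
    rw [br_E]
    congr 1 <;> ring
  have k2 : ∀ y ∈ D1, y ∉ A → y.a ≠ 0 := by
    intro y hy hyA h0
    have h3 : E 0 0 1 0 0 0 ∈ tr Q := by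
      by_contra hcon
      refine h.A6 _ hcon (fun q hq => ?_) y hy hyA ?_
      · rw [he2]; exact h.e01 h1 _ _
      · rw [he2, h0, zero_pow two_ne_zero, E_zero]; exact zero_mem _
    refine h2 ⟨h3, ?_⟩
    have h4 := (tr Q).smul_mem (-k.a) ((tr Q).sub_mem hbD ((tr Q).smul_mem k.b h3))
    rw [E_smul, E_sub, E_smul] at h4
    convert h4 using 1
    congr 1
    · ring
    · ring
    · ring
    · linear_combination (-1) * a2
    all_goals ring
  have hN := N1 h.C_le (h.L1 k2) h1 c1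
  have hab : ∀ q ∈ Q, q.b = k.a * q.a * k.b := fun q hq => z3b ka (h.comm_a k2 hk hq)
  obtain ⟨a, hae⟩ : ∃ a, a = k.a := ⟨_, rfl⟩
  obtain ⟨b, hbe⟩ : ∃ b, b = k.b := ⟨_, rfl⟩
  obtain ⟨c, hce⟩ : ∃ c, c = k.c := ⟨_, rfl⟩
  rw [← hae] at ka hab hbD a2
  rw [← hbe] at hab hbD
  have huD : E 0 (c + a * b) b (-a) 0 0 ∈ tr Q := by
    have h3 := (tr Q).add_mem hbD (h.e01 h1 0 (c + a * b))
    rw [E_add] at h3
    convert h3 using 1
    congr 1 <;> ring
  have huC : E 0 (c + a * b) b (-a) 0 0 ∈ tr D1 := by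
    obtain ⟨l, hl⟩ := hN _ huD
    have h3 := h.A3 k hk _ hl
    rw [E_smul, E_sub, br_E, ← E_zero, ← hae, ← hbe, ← hce] at h3
    have h4 := (E_inj h3).1
    have h5 : l = 0 := by
      have h6 : a * l = 0 := by
        linear_combination h4 + (l * a - a * a * b) * h30
      exact (mul_eq_zero.1 h6).resolve_left ka
    rw [h5, zero_smul, sub_zero] at hl
    exact hl
  have hvD : E 0 0 (a * (c + a * b)) 0 1 0 ∈ tr Q := by
    by_contra hcon
    refine h.A6 _ hcon (fun q hq => ?_) k hk hkA ?_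
    · have h3 := (tr Q).add_mem ((tr Q).smul_mem (-(a * q.a)) hbD) (h.e01 h1 (q.a ^ 2 * (a * (c + a * b)) + 2 * q.a * q.c)
        (q.a * (a * (c + a * b)) + q.c + q.b * q.a))
      rw [E_smul, E_add] at h3
      rw [br_E]
      have e1 := hab q hq
      convert h3 using 1
      congr 1
      · ring
      · ring
      · linear_combination 2 * e1 + a * q.a * b * h30
      · linear_combination (-q.a) * a2
    · have h3 := (tr D1).sub_mem (c0 b) huC
      rw [E_sub] at h3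
      rw [br_E, ← hae, ← hbe, ← hce]
      convert h3 using 1
      congr 1
      · linear_combination (a * (c + a * b) + b) * a2 + a * c * h30
      · linear_combination (c + a * b) * a2 + (c + a * b) * h30
      · linear_combination b * h30
      all_goals ring
  obtain ⟨l, hl⟩ := hN _ hvD
  have h3 := h.A3 k hk _ hl
  rw [E_smul, E_sub, br_E, ← E_zero, ← hae, ← hbe, ← hce] at h3
  have h4 := (E_inj h3).2.2.2.1
  apply ka
  linear_combination h4

theorem kerU1 {x : P} (hxa : x.a = 0) (hx : x.b ≠ 0 ∨ x.c ≠ 0) {v : Lin.V} (hv : br x v = 0) :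
    v 3 = 0 ∧ v 4 = 0 ∧ v 5 = 0 := by
  clear h
  rw [br, ← E_zero, hxa] at hv
  obtain ⟨h0, h1, h2, h3, h4, -⟩ := E_inj hv
  have key : ∀ b c v3 v4 v5 : ZMod 3, (b ≠ 0 ∨ c ≠ 0) → 2 * c * v3 + c ^ 2 * v5 = 0 → c * v4 + b * (v3 + c * v5) = 0 →
      2 * b * v4 + b ^ 2 * v5 = 0 → c * v5 = 0 → b * v5 = 0 → v3 = 0 ∧ v4 = 0 ∧ v5 = 0 := by decide +kernel
  refine key x.b x.c (v 3) (v 4) (v 5) hx ?_ ?_ h2 ?_ h4
  · linear_combination h0
  · linear_combination h1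
  · linear_combination h3

theorem notA {x : P} (hxa : x.a = 0) (hx : x ∉ A) : x.b ≠ 0 ∨ x.c ≠ 0 := by
  clear h
  by_contra hcon
  push Not at hcon
  exact hx ⟨hxa, hcon.1, hcon.2⟩

theorem Dt.C_W3 (ha : ∀ y ∈ D1, y.a = 0) {v : Lin.V} (hv : v ∈ tr D1) : v 3 = 0 ∧ v 4 = 0 ∧ v 5 = 0 := by
  obtain ⟨k, hk, hkA⟩ := h.ex
  exact kerU1 h (ha k hk) (notA h (ha k hk) hkA) (h.A3 k hk v hv)

theorem Dt.L3 (ha : ∀ y ∈ D1, y.a = 0) {k : P} (hkA : k.b ≠ 0 ∨ k.c ≠ 0)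
    (hB : ∀ y ∈ D1, k.b * y.c = y.b * k.c) : Nat.card (tr Q) ≤ 3 * Nat.card (tr D1) := by
  rw [h.cd, card_tr]
  have h1 := card_le (D1 := D1) (fun y => k.b * y.b + k.c * y.c) (fun y hy y' hy' e => by
    have h2 := mul_mem (inv_mem hy) hy'
    have h3 := hB _ h2
    have h4 := ha _ h2
    have h5 := ha y hy
    have key : ∀ b c b' c' : ZMod 3, (b ≠ 0 ∨ c ≠ 0) → b * c' = b' * c → b * b' + c * c' = 0 → b' = 0 ∧ c' = 0 := by
      decide +kernel
    have h6 := key k.b k.c _ _ hkA h3 (by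
      simp only [mul_b, mul_c, inv_b, inv_c, inv_a, h5]
      linear_combination (-1) * e)
    exact ⟨h4, h6.1, h6.2⟩)
  rwa [Nat.card_zmod] at h1

theorem Dt.L2 (ha : ∀ y ∈ D1, y.a = 0) : Nat.card (tr Q) ≤ 9 * Nat.card (tr D1) := by
  rw [h.cd, card_tr]
  have h1 := card_le (D1 := D1) (fun y => (y.b, y.c)) (fun y hy y' hy' e => by
    have h2 := mul_mem (inv_mem hy) hy'
    have h5 := ha y hy
    have e1 : y.b = y'.b := congrArg Prod.fst e
    have e2 : y.c = y'.c := congrArg Prod.snd e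
    refine ⟨ha _ h2, ?_, ?_⟩
    · simp only [mul_b, inv_b, e1]; ring
    · simp only [mul_c, inv_c, inv_a, h5, e2]; ring)
  rwa [Nat.card_prod, Nat.card_zmod] at h1

theorem pow_bc {k : P} (hk : k.a = 0) (n : ℕ) : (k ^ n).a = 0 ∧ (k ^ n).b = n * k.b ∧ (k ^ n).c = n * k.c := by
  clear h
  induction n with
  | zero => simp
  | succ n ih =>
    obtain ⟨h1, h2, h3⟩ := ih
    rw [pow_succ, mul_a, mul_b, mul_c, h1, h2, h3, hk]
    push_cast
    refine ⟨by ring, by ring, by ring⟩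

theorem Dt.U1 (ha : ∀ y ∈ D1, y.a = 0) {k k' : P} (hk : k ∈ D1) (hk' : k' ∈ D1) (hB : k.b * k'.c ≠ k'.b * k.c) :
    ∀ s t : ZMod 3, ∃ y ∈ D1, y.b = s ∧ y.c = t := by
  intro s t
  obtain ⟨d, hd⟩ : ∃ d, d = k.b * k'.c - k'.b * k.c := ⟨_, rfl⟩
  have hd0 : d ≠ 0 := by rw [hd]; exact sub_ne_zero.2 hB
  have d2 := z3a hd0
  obtain ⟨p1, p2, p3⟩ := pow_bc h (ha k hk) (d * (s * k'.c - t * k'.b)).val
  obtain ⟨q1, q2, q3⟩ := pow_bc h (ha k' hk') (d * (k.b * t - k.c * s)).val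
  rw [ZMod.natCast_zmod_val] at p2 p3 q2 q3
  refine ⟨k ^ (d * (s * k'.c - t * k'.b)).val * k' ^ (d * (k.b * t - k.c * s)).val,
    mul_mem (pow_mem hk _) (pow_mem hk' _), ?_, ?_⟩
  · rw [mul_b, p2, q2]
    linear_combination s * d2 - s * d * hd
  · rw [mul_c, p3, q3, p1]
    linear_combination t * d2 - t * d * hd

/-- the exceptional configuration -/
theorem Dt.case2ii (h1 : E 0 1 0 0 0 0 ∈ tr Q) (h2 : ¬ (E 0 0 1 0 0 0 ∈ tr Q ∧ E 0 0 0 1 0 0 ∈ tr Q))
    (ha : ∀ y ∈ D1, y.a = 0) : (∀ q ∈ Q, q.a = 0) ∧ (∀ s t : ZMod 3, ∃ y ∈ D1, y.b = s ∧ y.c = t) ∧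
      ∀ v, v ∈ tr Q ↔ v 3 = 0 ∧ v 4 = 0 ∧ v 5 = 0 := by
  obtain ⟨k, hk, hkA⟩ := h.ex
  have hk0 := ha k hk
  have hkbc := notA h hk0 hkA
  have he2 : ∀ q, br q (E 0 0 1 0 0 0) = E (q.a ^ 2) q.a 0 0 0 0 := by
    intro q
    rw [br_E]
    congr 1 <;> ring
  have he3 : ∀ q, br q (E 0 0 0 1 0 0) = E (2 * q.c) q.b 0 0 0 0 := by
    intro q
    rw [br_E]
    congr 1 <;> ring
  have h3 : E 0 0 1 0 0 0 ∈ tr Q := by
    by_contra hcon
    refine h.A6 _ hcon (fun q hq => ?_) k hk hkA ?_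
    · rw [he2]; exact h.e01 h1 _ _
    · rw [he2, hk0, zero_pow two_ne_zero, E_zero]; exact zero_mem _
  have h4 : E 0 0 0 1 0 0 ∉ tr Q := fun h4 => h2 ⟨h3, h4⟩
  have hs : ∀ y ∈ D1, y ∉ A → E (2 * y.c) y.b 0 0 0 0 ∉ tr D1 := by
    intro y hy hyA
    rw [← he3]
    refine h.A6 _ h4 (fun q hq => ?_) y hy hyA
    rw [he3]; exact h.e01 h1 _ _
  have hW3 : ∀ x y z : ZMod 3, E x y z 0 0 0 ∈ tr Q := by
    intro x y z
    have h5 := (tr Q).add_mem (h.e01 h1 x y) ((tr Q).smul_mem z h3)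
    rw [E_smul, E_add] at h5
    simpa using h5
  have hCW : ∀ v ∈ tr D1, v 3 = 0 ∧ v 4 = 0 ∧ v 5 = 0 := fun v hv => h.C_W3 ha hv
  by_cases hB : ∀ y ∈ D1, k.b * y.c = y.b * k.c
  · exfalso
    have hN := N1 h.C_le (h.L3 ha hkbc hB) (h.e01 h1 _ _) (hs k hk hkA)
    have hDW : ∀ v ∈ tr Q, v 3 = 0 ∧ v 4 = 0 ∧ v 5 = 0 := by
      intro v hv
      obtain ⟨l, hl⟩ := hN v hv
      obtain ⟨e3, e4, e5⟩ := hCW _ hl
      rw [E_smul] at e3 e4 e5
      refine ⟨?_, ?_, ?_⟩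
      · have : v 3 - l * 0 = 0 := e3
        linear_combination this
      · have : v 4 - l * 0 = 0 := e4
        linear_combination this
      · have : v 5 - l * 0 = 0 := e5
        linear_combination this
    by_cases hq0 : ∀ q ∈ Q, q.a = 0
    · -- the test vector
      obtain ⟨l, hl⟩ := hN _ (hW3 0 k.c (2 * k.b))
      refine h.A6 (E 0 0 0 (-l) 1 0) ?_ (fun q hq => ?_) k hk hkA ?_
      · intro hcon
        have := (hDW _ hcon).2.1
        exact one_ne_zero this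
      · rw [br_E, hq0 q hq]
        have := hW3 (2 * q.c * (-l)) (q.c + q.b * (-l)) (2 * q.b)
        convert this using 1
        congr 1 <;> ring
      · rw [br_E, hk0]
        rw [E_smul, E_sub] at hl
        convert hl using 1
        congr 1 <;> ring
    · push Not at hq0
      obtain ⟨q, hq, hqa⟩ := hq0
      have h5 := hB _ (h.cj q hq k hk)
      simp only [mul_a, mul_b, mul_c, inv_a, inv_b, inv_c, hk0] at h5
      have h6 : k.b * (q.a * k.b) = 0 := by linear_combination h5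
      have h7 : k.b = 0 := by
        rcases mul_eq_zero.1 h6 with h7 | h7
        · exact h7
        · exact (mul_eq_zero.1 h7).resolve_left hqa
      obtain ⟨l, hl⟩ := hN _ h1
      have h8 := h.A2 q hq _ hl
      rw [E_smul, E_sub, h7, br_E] at h8
      have h9 : E (2 * q.a) 0 0 0 0 0 ∈ tr D1 := by
        convert h8 using 1
        (with_reducible congr 1) <;> ring
      apply hs k hk hkA
      have h10 := (tr D1).smul_mem (2 * q.a * (2 * k.c)) h9
      rw [E_smul] at h10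
      have q2 := z3a hqa
      convert h10 using 1
      rw [h7]
      congr 1
      · linear_combination (-8 * k.c) * q2 - 2 * k.c * h30
      all_goals ring
  · push Not at hB
    obtain ⟨k', hk', hB⟩ := hB
    have hU := h.U1 ha hk hk' hB
    have hC2 : ∀ x y : ZMod 3, E x y 0 0 0 0 ∈ tr D1 → x = 0 ∧ y = 0 := by
      intro x y hxy
      obtain ⟨z, hz, hzb, hzc⟩ := hU y (2 * x)
      by_contra hcon
      apply hs z hz
      · rintro ⟨-, hb, hc⟩
        rw [hzb] at hb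
        rw [hzc] at hc
        apply hcon
        refine ⟨?_, hb⟩
        linear_combination 2 * hc - x * h30
      · rw [hzb, hzc]
        convert hxy using 2
        linear_combination x * h30
    have hC3 : ∀ v ∈ tr D1, v 2 = 0 → v = 0 := by
      intro v hv hv2
      obtain ⟨v3, v4, v5⟩ := hCW v hv
      rw [E_eta v, hv2, v3, v4, v5] at hv ⊢
      obtain ⟨e0, e1⟩ := hC2 _ _ hv
      rw [e0, e1, E_zero]
    have hcC : Nat.card (tr D1) ≤ 3 := by
      have h6 : Nat.card (tr D1) ≤ Nat.card (ZMod 3) := by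
        refine Nat.card_le_card_of_injective (fun v : tr D1 => v.1 2) ?_
        intro v w hvw
        have h5 := hC3 (v.1 - w.1) ((tr D1).sub_mem v.2 w.2) (sub_eq_zero.2 hvw)
        exact Subtype.ext (sub_eq_zero.1 h5)
      rwa [Nat.card_zmod] at h6
    have hcD : Nat.card (tr Q) ≤ 27 := by
      have := h.L2 ha
      omega
    -- `D = W₃`
    have hDW : ∀ v ∈ tr Q, v 3 = 0 ∧ v 4 = 0 ∧ v 5 = 0 := by
      intro v hv
      let g : ZMod 3 × ZMod 3 × ZMod 3 → tr Q := fun p => ⟨E p.1 p.2.1 p.2.2 0 0 0, hW3 _ _ _⟩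
      have hg : Function.Injective g := by
        intro p p' hpp
        have h5 := E_inj (congrArg Subtype.val hpp)
        exact Prod.ext h5.1 (Prod.ext h5.2.1 h5.2.2.1)
      have hgb : Function.Bijective g := by
        rw [Nat.bijective_iff_injective_and_card]
        refine ⟨hg, le_antisymm (Nat.card_le_card_of_injective g hg) ?_⟩
        rw [Nat.card_prod, Nat.card_prod, Nat.card_zmod]
        exact hcD
      obtain ⟨p, hp⟩ := hgb.2 ⟨v, hv⟩
      have h5 : E p.1 p.2.1 p.2.2 0 0 0 = v := congrArg Subtype.val hp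
      rw [← h5]
      exact ⟨rfl, rfl, rfl⟩
    refine ⟨?_, hU, fun v => ⟨hDW v, fun hv => ?_⟩⟩
    · -- a nonzero element of `C`
      obtain ⟨c, hc, hc0⟩ : ∃ c ∈ tr D1, c ≠ 0 := by
        by_contra hcon
        push Not at hcon
        have h5 : Nat.card (tr D1) ≤ 1 := by
          rw [Finite.card_le_one_iff_subsingleton]
          exact ⟨fun v w => Subtype.ext ((hcon _ v.2).trans (hcon _ w.2).symm)⟩
        have h6 := h.L2 ha
        have h7 : 27 ≤ Nat.card (tr Q) := by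
          have h8 := Nat.card_le_card_of_injective (fun p : ZMod 3 × ZMod 3 × ZMod 3 =>
            (⟨E p.1 p.2.1 p.2.2 0 0 0, hW3 _ _ _⟩ : tr Q)) (by
              intro p p' hpp
              have h5 := E_inj (congrArg Subtype.val hpp)
              exact Prod.ext h5.1 (Prod.ext h5.2.1 h5.2.2.1))
          rw [Nat.card_prod, Nat.card_prod, Nat.card_zmod] at h8
          exact h8
        omega
      have hc2 : c 2 ≠ 0 := fun e => hc0 (hC3 c hc e)
      obtain ⟨c3, c4, c5⟩ := hCW c hc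
      intro q hq
      have h5 := h.A2 q hq c hc
      rw [br, c3, c4, c5] at h5
      have h6 : E (2 * q.a * c 1 + q.a ^ 2 * c 2) (q.a * c 2) 0 0 0 0 ∈ tr D1 := by
        convert h5 using 1
        congr 1 <;> ring
      exact (mul_eq_zero.1 (hC2 _ _ h6).2).resolve_right hc2
    · rw [E_eta v, hv.1, hv.2.1, hv.2.2]
      exact hW3 _ _ _

theorem Dt.case34 (h1 : E 0 1 0 0 0 0 ∈ tr Q) (h2 : E 0 0 1 0 0 0 ∈ tr Q) (h3 : E 0 0 0 1 0 0 ∈ tr Q) (h7 : ¬ A ≤ Q) :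
    (∀ y ∈ D1, y.a = 0) ∧ (∀ s t : ZMod 3, ∃ y ∈ D1, y.b = s ∧ y.c = t) ∧ (∀ v, v ∈ tr Q ↔ v 5 = 0) ∧
      ∀ v, v ∈ tr D1 ↔ v 3 = 0 ∧ v 4 = 0 ∧ v 5 = 0 := by
  have hX4 : ∀ x y z u : ZMod 3, E x y z u 0 0 ∈ tr Q := by
    intro x y z u
    have h5 := (tr Q).add_mem ((tr Q).add_mem (h.e01 h1 x y) ((tr Q).smul_mem z h2)) ((tr Q).smul_mem u h3)
    rw [E_smul, E_add, E_smul, E_add] at h5
    simpa using h5
  have ha : ∀ y ∈ D1, y.a = 0 := by
    intro y hy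
    by_contra hcon
    have a2 := z3a hcon
    have h5 := h.A4 y hy _ h2
    have h6 := h.A3 y hy _ h5
    rw [br_E, br_E, ← E_zero] at h6
    have h7 := (E_inj h6).1
    apply hcon
    linear_combination (2 * y.a) * h7 - 4 * y.a * a2 - y.a * h30
  obtain ⟨k, hk, hkA⟩ := h.ex
  have hk0 := ha k hk
  have hkbc := notA h hk0 hkA
  have he3 : ∀ q, br q (E 0 0 0 1 0 0) = E (2 * q.c) q.b 0 0 0 0 := by
    intro q
    rw [br_E]
    congr 1 <;> ring
  have he4 : ∀ q, br q (E 0 0 0 0 1 0) = E (2 * q.a * q.c) (q.c + q.b * q.a) (2 * q.b) q.a 0 0 := by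
    intro q
    rw [br_E]
    congr 1 <;> ring
  have hCW : ∀ v ∈ tr D1, v 3 = 0 ∧ v 4 = 0 ∧ v 5 = 0 := fun v hv => h.C_W3 ha hv
  have hC3 : E 0 0 0 1 0 0 ∉ tr D1 := fun hcon => one_ne_zero (hCW _ hcon).1
  have hs : E 0 0 0 0 1 0 ∉ tr Q → ∀ y ∈ D1, y ∉ A → E 0 y.c (2 * y.b) 0 0 0 ∉ tr D1 := by
    intro hcon y hy hyA
    have h5 := h.A6 _ hcon (fun q hq => by rw [he4]; exact hX4 _ _ _ _) y hy hyA
    rw [he4, ha y hy] at h5
    convert h5 using 2
    congr 1 <;> ring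
  have hU : ∀ s t : ZMod 3, ∃ y ∈ D1, y.b = s ∧ y.c = t := by
    by_cases hB : ∀ y ∈ D1, k.b * y.c = y.b * k.c
    · exfalso
      have hN := N1 h.C_le (h.L3 ha hkbc hB) h3 hC3
      by_cases h4 : E 0 0 0 0 1 0 ∈ tr Q
      · obtain ⟨l, hl⟩ := hN _ h4
        rw [E_smul, E_sub] at hl
        have h5 : (1 : ZMod 3) - l * 0 = 0 := (hCW _ hl).2.1
        rw [mul_zero, sub_zero] at h5
        exact one_ne_zero h5
      · obtain ⟨l, hl⟩ := hN _ (hX4 0 k.c (2 * k.b) 0)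
        rw [E_smul, E_sub] at hl
        have h5 : (0 : ZMod 3) - l * 1 = 0 := (hCW _ hl).1
        apply hs h4 k hk hkA
        have h6 : l = 0 := by linear_combination (-1) * h5
        rw [h6] at hl
        convert hl using 1
        congr 1 <;> ring
    · push Not at hB
      obtain ⟨k', hk', hB⟩ := hB
      exact h.U1 ha hk hk' hB
  have hC2 : ∀ x y : ZMod 3, E x y 0 0 0 0 ∈ tr D1 := by
    intro x y
    obtain ⟨z, hz, hzb, hzc⟩ := hU y (2 * x)
    have h5 := h.A4 z hz _ h3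
    rw [he3, hzb, hzc] at h5
    convert h5 using 2
    linear_combination (-x) * h30
  have h4 : E 0 0 0 0 1 0 ∈ tr Q := by
    by_contra hcon
    obtain ⟨z, hz, hzb, hzc⟩ := hU 0 1
    apply hs hcon z hz
    · rintro ⟨-, -, hc⟩
      rw [hzc] at hc
      exact one_ne_zero hc
    · rw [hzb, hzc, mul_zero]
      exact hC2 0 1
  have hW5 : ∀ x y z u w : ZMod 3, E x y z u w 0 ∈ tr Q := by
    intro x y z u w
    have h5 := (tr Q).add_mem (hX4 x y z u) ((tr Q).smul_mem w h4)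
    rw [E_smul, E_add] at h5
    simpa using h5
  have h5 : E 0 0 0 0 0 1 ∉ tr Q := by
    intro hcon
    apply h7
    intro x hx
    have h6 := (tr Q).add_mem (hW5 (crd x 0) (crd x 1) (crd x 2) (crd x 3) (crd x 4)) ((tr Q).smul_mem (crd x 5) hcon)
    rw [E_smul, E_add] at h6
    have h7 : crd x ∈ tr Q := by
      rw [E_eta (crd x)]
      convert h6 using 1
      congr 1 <;> ring
    rw [mem_tr, vec_crd hx] at h7
    exact h7
  refine ⟨ha, hU, fun v => ⟨fun hv => ?_, fun hv => ?_⟩, fun v => ⟨hCW v, fun hv => ?_⟩⟩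
  · by_contra hcon
    apply h5
    have v2 := z3a hcon
    have h6 := (tr Q).smul_mem (v 5) ((tr Q).sub_mem hv (hW5 (v 0) (v 1) (v 2) (v 3) (v 4)))
    nth_rw 2 [E_eta v] at h6
    rw [E_sub, E_smul] at h6
    convert h6 using 1
    congr 1
    · ring
    · ring
    · ring
    · ring
    · ring
    · linear_combination (-1) * v2
  · rw [E_eta v, hv]; exact hW5 _ _ _ _ _
  · have h6 := h.A4
    obtain ⟨z, hz, hzb, hzc⟩ := hU (2 * v 2) 0
    have h7 := h.A4 z hz _ h4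
    rw [he4, hzb, hzc, ha z hz] at h7
    have h8 := (tr D1).add_mem h7 (hC2 (v 0) (v 1))
    rw [E_add] at h8
    rw [E_eta v, hv.1, hv.2.1, hv.2.2]
    convert h8 using 1
    congr 1
    · ring
    · ring
    · linear_combination (-v 2) * h30
    all_goals ring

theorem Dt.fin (h4 : ∀ x ∈ D1, ∀ y ∈ D1, x * y = y * x) (h5 : ∀ x ∈ D1, x ^ 3 = 1) (ha : ∀ y ∈ D1, y.a = 0)
    (hU : ∀ s t : ZMod 3, ∃ y ∈ D1, y.b = s ∧ y.c = t) : ∃ i, D1 ≤ DD i := by
  have h33 : ∀ y ∈ D1, y.m33 = 0 := by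
    intro y hy
    by_cases hyA : y ∈ A
    · have h6 : crd y ∈ tr D1 := by rw [mem_tr, vec_crd hyA]; exact hy
      exact (h.C_W3 ha h6).2.2
    · have hbc := notA h (ha y hy) hyA
      have h6 := h5 y hy
      rw [pow_succ, pow_two] at h6
      have h7 := congrArg P.m11 h6
      have h8 := congrArg P.m22 h6
      simp only [mul_m11, mul_m22, mul_a, mul_b, mul_c, mul_m12, mul_m13, mul_m23, mul_m33, one_m11, one_m22, ha y hy] at h7 h8
      have key : ∀ b c m : ZMod 3, (b ≠ 0 ∨ c ≠ 0) → 2 * c ^ 2 * m = 0 → 2 * b ^ 2 * m = 0 → m = 0 := by decide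
      refine key y.b y.c _ hbc ?_ ?_
      · linear_combination h7 - (y.m11 + 2 * y.c * y.m13 + y.c ^ 2 * y.m33) * h30
      · linear_combination h8 - (y.m22 + 2 * y.b * y.m23 + y.b ^ 2 * y.m33) * h30
  obtain ⟨y1, hy1, hb1, hc1⟩ := hU 1 0
  obtain ⟨y2, hy2, hb2, hc2⟩ := hU 0 1
  have hc : ∀ y ∈ D1, y1.m13 * y.c = 0 ∧ y.m23 = y.b * y1.m23 ∧ y.m13 = y.c * y1.m23 + y.b * y1.m13 := by
    intro y hy
    have h6 := h4 y1 hy1 y hy
    have e0 := congrArg P.m11 h6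
    have e1 := congrArg P.m12 h6
    have e2 := congrArg P.m22 h6
    simp only [mul_m11, mul_m12, mul_m22, ha y hy, ha y1 hy1, h33 y hy, h33 y1 hy1, hb1, hc1] at e0 e1 e2
    refine ⟨?_, ?_, ?_⟩
    · linear_combination e0 + y.c * y1.m13 * h30
    · linear_combination 2 * e2 - (y.m23 - y.b * y1.m23) * h30
    · linear_combination e1
  have h0 : y1.m13 = 0 := by
    have := (hc y2 hy2).1
    rwa [hc2, mul_one] at this
  refine ⟨y1.m23, fun y hy => mem_DD.2 ⟨ha y hy, h33 y hy, ?_, ?_⟩⟩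
  · rw [(hc y hy).2.2, h0]; ring
  · rw [(hc y hy).2.1]; ring

end

/-- lemE3 -/
theorem lemE3 {Q D1 : Subgroup P} (h1 : D1 ≤ Q) (h2 : ∀ q ∈ Q, ∀ d ∈ D1, q * d * q⁻¹ ∈ D1)
    (h3 : Nat.card D1 = Nat.card ↥(Q ⊓ A)) (h4 : ∀ x ∈ D1, ∀ y ∈ D1, x * y = y * x) (h5 : ∀ x ∈ D1, x ^ 3 = 1)
    (h6 : ∀ x : P, (∀ q ∈ Q, x * q = q * x) → x ∈ Q) (h7 : ¬ A ≤ Q) (h8 : D1 ≠ Q ⊓ A)
    (h9 : ∀ b ∈ A, b ∉ Q → (∀ q ∈ Q, b * q * b⁻¹ ∈ Q) → ∀ y ∈ D1, y ∉ A → y * b * y⁻¹ * b⁻¹ ∉ D1) :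
    (Q ⊓ A = W5 ∧ ∃ i, D1 = DD i) ∨ ∃ i, Q = DD i := by
  have h := mk_Dt h1 h2 h3 h4 h6 h8 h9
  have e1 : E 0 1 0 0 0 0 ∈ tr Q := by
    by_contra hcon
    exact h.case1 hcon
  have hdiv : ∀ (i : ZMod 3) (x y : P), x ∈ DD i → y ∈ DD i → y.b = x.b → y.c = x.c → y⁻¹ * x ∈ A ∧
      crd (y⁻¹ * x) 3 = 0 ∧ crd (y⁻¹ * x) 4 = 0 ∧ crd (y⁻¹ * x) 5 = 0 := by
    intro i x y hx hy hb hc
    have hxy := (DD i).mul_mem ((DD i).inv_mem hy) hx
    have hA : y⁻¹ * x ∈ A := by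
      refine ⟨hxy.1, ?_, ?_⟩
      · simp only [mul_b, inv_b, hb]; ring
      · simp only [mul_c, inv_c, inv_a, hy.1, hc]; ring
    refine ⟨hA, ?_, ?_, hxy.2.1⟩
    · show (y⁻¹ * x).m13 = 0
      rw [hxy.2.2.1, hA.2.2, mul_zero]
    · show (y⁻¹ * x).m23 = 0
      rw [hxy.2.2.2, hA.2.1, mul_zero]
  by_cases hX : E 0 0 1 0 0 0 ∈ tr Q ∧ E 0 0 0 1 0 0 ∈ tr Q
  · left
    obtain ⟨ha, hU, hD, hC⟩ := h.case34 e1 hX.1 hX.2 h7
    obtain ⟨i, hi⟩ := h.fin h4 h5 ha hU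
    refine ⟨?_, i, le_antisymm hi ?_⟩
    · ext x
      constructor
      · rintro ⟨hxQ, hxA⟩
        have h10 : crd x ∈ tr Q := by rw [mem_tr, vec_crd hxA]; exact hxQ
        exact mem_W5.2 ⟨hxA.1, hxA.2.1, hxA.2.2, (hD _).1 h10⟩
      · intro hx
        obtain ⟨x1, x2, x3, x4⟩ := mem_W5.1 hx
        have hxA : x ∈ A := ⟨x1, x2, x3⟩
        refine ⟨?_, hxA⟩
        have h10 : crd x ∈ tr Q := (hD _).2 x4
        rwa [mem_tr, vec_crd hxA] at h10
    · intro x hx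
      obtain ⟨y, hy, hyb, hyc⟩ := hU x.b x.c
      obtain ⟨hA, h11⟩ := hdiv i x y hx (hi hy) hyb hyc
      have h12 := (hC _).2 h11
      rw [mem_tr, vec_crd hA] at h12
      rw [← mul_inv_cancel_left y x]
      exact D1.mul_mem hy h12
  · right
    by_cases ha : ∀ y ∈ D1, y.a = 0
    · obtain ⟨hQa, hU, hD⟩ := h.case2ii e1 hX ha
      obtain ⟨i, hi⟩ := h.fin h4 h5 ha hU
      refine ⟨i, le_antisymm ?_ ?_⟩
      · intro q hq
        obtain ⟨y, hy, hyb, hyc⟩ := hU q.b q.c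
        have hA : y⁻¹ * q ∈ A := by
          refine ⟨?_, ?_, ?_⟩
          · simp only [mul_a, inv_a, ha y hy, hQa q hq]; ring
          · simp only [mul_b, inv_b, hyb]; ring
          · simp only [mul_c, inv_c, inv_a, ha y hy, hyc]; ring
        have h10 : crd (y⁻¹ * q) ∈ tr Q := by
          rw [mem_tr, vec_crd hA]; exact Q.mul_mem (Q.inv_mem (h1 hy)) hq
        obtain ⟨v3, v4, v5⟩ := (hD _).1 h10
        have h11 : y⁻¹ * q ∈ DD i := by
          refine mem_DD.2 ⟨hA.1, v5, ?_, ?_⟩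
          · rw [hA.2.2, mul_zero]; exact v3
          · rw [hA.2.1, mul_zero]; exact v4
        rw [← mul_inv_cancel_left y q]
        exact (DD i).mul_mem (hi hy) h11
      · intro x hx
        obtain ⟨y, hy, hyb, hyc⟩ := hU x.b x.c
        obtain ⟨hA, h11⟩ := hdiv i x y hx (hi hy) hyb hyc
        have h12 := (hD _).2 h11
        rw [mem_tr, vec_crd hA] at h12
        rw [← mul_inv_cancel_left y x]
        exact Q.mul_mem (h1 hy) h12
    · push Not at ha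
      obtain ⟨k, hk, hka⟩ := ha
      exact (h.case2i e1 hX hk hka).elim

end Cfsg.Agent.H276.Co1
end

-- part: H536/Nine/Reg
section
/-!
# S5227, section A: `|T ∩ K| ≠ 9`, part 6 (helper536): fixed points of the regular elements
-/

set_option autoImplicit false

namespace Cfsg.Agent.H536.Nine

open Subgroup Cfsg.Agent.H776.Co

universe u

variable {Γ : Type u} [Group Γ] {T U1 U2 K : Subgroup Γ} {z : Γ}

/-- the group `W × ⟨t⟩` -/
theorem card_sup_zpowers {W : Subgroup Γ} {t : Γ} (hW : Nat.card W = 3) (ht : orderOf t = 3) (htW : t ∉ W)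
    (hc : ∀ x ∈ W, x * t = t * x) : Nat.card ↥(W ⊔ zpowers t) = 9 := by
  have hfW : Finite W := Nat.finite_of_card_ne_zero (by rw [hW]; norm_num)
  have hcomm : ∀ (m : W) (n : zpowers t), Commute (W.subtype m) ((zpowers t).subtype n) := by
    rintro ⟨m, hm⟩ ⟨n, hn⟩
    obtain ⟨i, rfl⟩ := mem_zpowers_iff.1 hn
    exact Commute.zpow_right (hc m hm) i
  have hinj : Function.Injective (MonoidHom.noncommCoprod W.subtype (zpowers t).subtype hcomm) := by
    rw [MonoidHom.noncommCoprod_injective]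
    refine ⟨W.subtype_injective, (zpowers t).subtype_injective, ?_⟩
    rw [range_subtype, range_subtype, disjoint_iff]
    by_contra hne
    have h1 : Nat.card ↥(W ⊓ zpowers t) ∣ 3 := by rw [← hW]; exact card_dvd_of_le inf_le_left
    have hfi : Finite ↥(W ⊓ zpowers t) := Finite.of_injective (inclusion (inf_le_left : W ⊓ zpowers t ≤ W)) (inclusion_injective _)
    rcases (Nat.dvd_prime Nat.prime_three).1 h1 with h2 | h2
    · exact hne (card_eq_one.1 h2)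
    · apply htW
      have hfz : Finite (zpowers t) := Nat.finite_of_card_ne_zero (by rw [Nat.card_zpowers, ht]; norm_num)
      have h3 : W ⊓ zpowers t = zpowers t := eq_of_le_of_card_ge inf_le_right (by rw [h2, Nat.card_zpowers, ht])
      have h4 : t ∈ W ⊓ zpowers t := by rw [h3]; exact mem_zpowers t
      exact h4.1
  have h1 : Nat.card (W × zpowers t) = Nat.card (MonoidHom.noncommCoprod W.subtype (zpowers t).subtype hcomm).range :=
    Nat.card_congr (MonoidHom.ofInjective hinj).toEquiv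
  rw [MonoidHom.noncommCoprod_range, range_subtype, range_subtype, Nat.card_prod, Nat.card_zpowers, ht, hW] at h1
  exact h1.symm

open scoped Pointwise in
/-- a Sylow subgroup from its order -/
theorem conj_le (hT : Nat.card T = 27) [Finite Γ] (hsyl : ¬ 3 ∣ T.index) {S : Subgroup Γ} (hS : IsPGroup 3 S) :
    ∃ g : Γ, ∀ x ∈ S, g * x * g⁻¹ ∈ T := by
  have : Fact (Nat.Prime 3) := ⟨Nat.prime_three⟩
  have hTp : IsPGroup 3 T := IsPGroup.of_card (n := 3) (by rw [hT]; norm_num)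
  obtain ⟨ST, hST⟩ := hTp.exists_le_sylow
  have hTS : (ST : Subgroup Γ) = T := by
    have h1 : T.relIndex ST ∣ T.index := relIndex_dvd_index_of_le hST
    have h2 : T.relIndex ST ∣ Nat.card ST := by
      exact index_dvd_card _
    obtain ⟨k, hk⟩ := ST.2.exists_card_eq
    rw [hk] at h2
    obtain ⟨j, hj, h3⟩ := (Nat.dvd_prime_pow Nat.prime_three).1 h2
    have h4 : j = 0 := by
      by_contra hne
      apply hsyl
      refine dvd_trans ?_ h1
      rw [h3]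
      exact dvd_pow_self 3 hne
    rw [h4, pow_zero, relIndex_eq_one] at h3
    exact le_antisymm h3 hST
  obtain ⟨S', hS'⟩ := hS.exists_le_sylow
  obtain ⟨g, hg⟩ := MulAction.exists_smul_eq Γ S' ST
  refine ⟨g, fun x hx => ?_⟩
  rw [← hTS, ← hg]
  have h1 : x ∈ (S' : Subgroup Γ) := hS' hx
  have h2 : g * x * g⁻¹ = MulAut.conj g x := rfl
  rw [h2]
  change MulAut.conj g x ∈ (MulAut.conj g) • (S' : Subgroup Γ)
  rw [mem_pointwise_smul_iff_inv_smul_mem]
  have h3 : (MulAut.conj g)⁻¹ • MulAut.conj g x = x := by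
    rw [MulAut.smul_def, ← MulAut.mul_apply, inv_mul_cancel, MulAut.one_apply]
  rwa [h3]

namespace Ctx1

variable [Finite Γ]

section

variable {t : Γ} (h : Ctx1 T U1 U2 z K) (ht : t ∈ T) (h1 : t ∉ U1) (h2 : t ∉ U2)

include h ht h1 in
omit [Finite Γ] in
theorem notMem_K : t ∉ K := by
  intro h3
  apply h1
  rw [← h.eq]
  exact ⟨ht, h3⟩

include h ht h1 in
omit [Finite Γ] in
theorem order_t : orderOf t = 3 := by
  have : Fact (Nat.Prime 3) := ⟨Nat.prime_three⟩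
  refine orderOf_eq_prime (h.exp t ht) ?_
  rintro rfl
  exact h1 U1.one_mem

include h ht h1 in
omit [Finite Γ] in
theorem nine_dvd_ctr : 9 ∣ Nat.card (centralizer ({t} : Set Γ)) := by
  have h3 : Nat.card ↥(zpowers z ⊔ zpowers t) = 9 := by
    apply card_sup_zpowers h.card_z (h.order_t ht h1)
    · intro h4
      exact h1 (zpowers_le.2 h.z_mem1 h4)
    · intro x hx
      obtain ⟨i, rfl⟩ := mem_zpowers_iff.1 hx
      exact (Commute.zpow_right (h.z_comm t ht) i).symm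
  rw [← h3]
  apply card_dvd_of_le
  rw [sup_le_iff, zpowers_le, zpowers_le]
  exact ⟨mem_centralizer_singleton_iff.2 (h.z_comm t ht).symm, mem_centralizer_singleton_iff.2 rfl⟩

include h ht h1 h2 in
theorem not_27_ctr : ¬ 27 ∣ Nat.card (centralizer ({t} : Set Γ)) := by
  intro h27
  have : Fact (Nat.Prime 3) := ⟨Nat.prime_three⟩
  set C := centralizer ({t} : Set Γ) with hC
  have htC : t ∈ C := mem_centralizer_singleton_iff.2 rfl
  have hp : IsPGroup 3 (zpowers (⟨t, htC⟩ : C)) := by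
    apply IsPGroup.of_card (n := 1)
    rw [Nat.card_zpowers, orderOf_mk, h.order_t ht h1, pow_one]
  obtain ⟨S, hS⟩ := hp.exists_le_sylow
  have h3 : 27 ∣ Nat.card (S : Subgroup C) := by
    rw [S.card_eq_multiplicity]
    have h4 : 3 ≤ (Nat.card C).factorization 3 :=
      (Nat.prime_three.pow_dvd_iff_le_factorization Nat.card_pos.ne').1 (by simpa only [_root_.Nat.reducePow] using h27)
    have h5 := pow_dvd_pow 3 h4
    simpa only [_root_.Nat.reducePow] using h5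
  obtain ⟨g, hg⟩ := conj_le h.card_T h.syl (S.2.map C.subtype)
  set S' := (S : Subgroup C).map C.subtype with hS'
  have h4 : cj g S' ≤ T := by
    intro x hx
    rw [mem_cj] at hx
    have := hg _ hx
    have h5 : g * (g⁻¹ * x * g) * g⁻¹ = x := by group
    rwa [h5] at this
  have h5 : Nat.card (cj g S') = Nat.card (S : Subgroup C) := by
    rw [card_cj, hS', card_map_of_injective C.subtype_injective]
  have h6 : cj g S' = T := by
    apply eq_of_le_of_card_ge h4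
    rw [h.card_T, h5]
    exact Nat.le_of_dvd Nat.card_pos h3
  have htS : t ∈ S' := ⟨⟨t, htC⟩, hS (mem_zpowers _), rfl⟩
  have h7 : g * t * g⁻¹ ∈ T := hg t htS
  have h8 : g * t * g⁻¹ ∈ zpowers z := by
    apply h.center _ h7
    intro y hy
    rw [← h6, mem_cj] at hy
    obtain ⟨⟨w, hwC⟩, hw, hwy⟩ := hy
    change w = g⁻¹ * y * g at hwy
    have h9 := mem_centralizer_singleton_iff.1 hwC
    have h10 : y = g * w * g⁻¹ := by rw [hwy]; group
    rw [h10]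
    calc g * t * g⁻¹ * (g * w * g⁻¹) = g * (t * w) * g⁻¹ := by group
      _ = g * (w * t) * g⁻¹ := by rw [h9]
      _ = _ := by group
  have h9 := h.type g⁻¹ (g * t * g⁻¹) (Or.inl (zpowers_le.2 h.z_mem1 h8))
  have h10 : g⁻¹ * (g * t * g⁻¹) * g⁻¹⁻¹ = t := by group
  rw [h10] at h9
  rcases h9 ht with h11 | h11
  · exact h1 h11
  · exact h2 h11

include h ht h1 in
/-- `t` does not centralize a Sylow 3-subgroup of `K` -/
theorem not_le_ctr (Q : Om K) : ¬ Q.1 ≤ centralizer ({t} : Set Γ) := by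
  intro hle
  have hK := h.normal
  have : Fact (Nat.Prime 3) := ⟨Nat.prime_three⟩
  obtain ⟨k, hk, hkQ⟩ := exists_smul h.nine_dvd h.not_27 Q h.P0
  set! t' := k * t * k⁻¹ with ht'
  have h2 : ∀ x ∈ U1, x * t' = t' * x := by
    intro x hx
    have h3 : x ∈ (k • Q).1 := by rw [hkQ]; exact hx
    rw [coe_smul, mem_cj] at h3
    have h4 := mem_centralizer_singleton_iff.1 (hle h3)
    rw [ht']
    calc x * (k * t * k⁻¹) = k * ((k⁻¹ * x * k) * t) * k⁻¹ := by group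
      _ = k * (t * (k⁻¹ * x * k)) * k⁻¹ := by rw [h4]
      _ = k * t * k⁻¹ * x := by group
  have ho : orderOf t' = 3 := by
    rw [← h.order_t ht h1, ht']
    exact orderOf_injective (MulAut.conj k).toMonoidHom (MulAut.conj k).injective t
  have ht'K : t' ∉ K := by
    intro h3
    apply h.notMem_K ht h1
    have h4 := hK.conj_mem _ h3 k⁻¹
    have h5 : k⁻¹ * t' * k⁻¹⁻¹ = t := by rw [ht']; group
    rwa [h5] at h4
  have hTp : IsPGroup 3 T := IsPGroup.of_card (n := 3) (by rw [h.card_T]; norm_num)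
  have hzp : IsPGroup 3 (zpowers t') := IsPGroup.of_card (n := 1) (by rw [Nat.card_zpowers, ho]; norm_num)
  have h3 : IsPGroup 3 ↥(T ⊔ zpowers t') := by
    apply h.tri z (Or.inl h.z_mem1) h.z_ne _ _ hTp hzp
    · intro x hx
      exact mem_centralizer_singleton_iff.2 (h.z_comm x hx)
    · rw [zpowers_le]
      exact mem_centralizer_singleton_iff.2 (h2 z h.z_mem1).symm
  obtain ⟨g, hg⟩ := conj_le h.card_T h.syl h3
  have h4 : Nat.card ↥(T ⊔ zpowers t') ≤ 27 := by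
    rw [← card_cj g, ← h.card_T]
    apply card_le_of_le
    intro x hx
    rw [mem_cj] at hx
    have := hg _ hx
    have h5 : g * (g⁻¹ * x * g) * g⁻¹ = x := by group
    rwa [h5] at this
  have h5 : T = T ⊔ zpowers t' := eq_of_le_of_card_ge le_sup_left (by rw [h.card_T]; exact h4)
  have h6 : t' ∈ T := by rw [h5]; exact mem_sup_right (mem_zpowers t')
  have h7 : t' ∉ U1 := fun h8 => ht'K (h.le_K h8)
  -- `U1` is not central in `T`
  obtain ⟨u, hu, huz⟩ : ∃ u ∈ U1, u ∉ zpowers z := by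
    by_contra hne
    push Not at hne
    have h8 := card_le_of_le (fun x hx => hne x hx : U1 ≤ zpowers z)
    rw [h.card1, h.card_z] at h8
    omega
  exact h.not_comm h.le1 h.card1 h6 h7 hu huz (h2 u hu).symm

end

end Ctx1

end Cfsg.Agent.H536.Nine
end

-- part: H536/Nine/Cnt
section
/-!
# S5227, section A: `|T ∩ K| ≠ 9`, part 7 (helper536): number of the fixed points of the regular elements
-/

set_option autoImplicit false

namespace Cfsg.Agent.H536.Nine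

open Subgroup Cfsg.Agent.H776.Co

universe u

variable {Γ : Type u} [Group Γ] {T U1 U2 K : Subgroup Γ} {z : Γ}

/-- the subgroups of order 3 of `C_K(t)` -/
def V3 (K : Subgroup Γ) (t : Γ) : Type u := {W : Subgroup Γ // W ≤ K ∧ W ≤ centralizer ({t} : Set Γ) ∧ Nat.card W = 3}

theorem exists_ne_one {W : Subgroup Γ} (hW : Nat.card W = 3) : ∃ u ∈ W, u ≠ 1 := by
  by_contra hne
  push Not at hne
  have : W = ⊥ := eq_bot_iff.2 fun x hx => mem_bot.2 (hne x hx)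
  rw [this, card_bot] at hW
  norm_num at hW

theorem ctr_of_mem_ctr {t u : Γ} (hu : u ∈ centralizer ({t} : Set Γ)) : t⁻¹ * u * t = u := by
  have h1 := mem_centralizer_singleton_iff.1 hu
  rw [mul_assoc, h1]
  group

/-- the Sylow subgroups from the subgroups of order 9 -/
theorem eq_nine_of_le {W W' : Subgroup Γ} (hW : Nat.card W' = Nat.card W) (hW0 : Nat.card W' ≠ 0) (h : W ≤ W') : W = W' := by
  have hfin : Finite W' := Nat.finite_of_card_ne_zero hW0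
  exact eq_of_le_of_card_ge h (by rw [hW])

namespace Ctx1

variable [Finite Γ]

section

variable {t : Γ} (h : Ctx1 T U1 U2 z K) (ht : t ∈ T) (h1 : t ∉ U1) (h2 : t ∉ U2)

include h ht h1 in
theorem card_inf_ctr {Q : Om K} (hQ : have := h.normal; t • Q = Q) : Nat.card ↥(Q.1 ⊓ centralizer ({t} : Set Γ)) = 3 := by
  have hK := h.normal
  change t • Q = Q at hQ
  rw [smul_eq_iff] at hQ
  obtain ⟨u, hu, hu1, htu⟩ := exists_comm Q.card (h.exp t ht) hQ
  rcases card_le_nine Q.card (inf_le_left : Q.1 ⊓ centralizer ({t} : Set Γ) ≤ Q.1) with h3 | h3 | h3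
  · exfalso
    have h4 := card_eq_one.1 h3
    have h5 : u ∈ Q.1 ⊓ centralizer ({t} : Set Γ) := ⟨hu, mem_centralizer_singleton_iff.2 htu.symm⟩
    rw [h4, mem_bot] at h5
    exact hu1 h5
  · exact h3
  · exfalso
    apply h.not_le_ctr ht h1 Q
    rw [← h3]
    exact inf_le_right

include h ht h1 in
omit [Finite Γ] in
theorem order_t' : Nat.card (zpowers t) = 3 := by rw [Nat.card_zpowers, h.order_t ht h1]

include h ht h1 h2 in
theorem t_mem {S : Om (centralizer ({t} : Set Γ))} : t ∈ S.1 := by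
  have hzp : IsPGroup 3 (zpowers t) := IsPGroup.of_card (n := 1) (by rw [h.order_t' ht h1]; norm_num)
  have h3 : IsPGroup 3 ↥(S.1 ⊔ zpowers t) := by
    apply (pgroup_of_nine S.card).to_sup_of_normal_right' hzp
    intro x hx
    have h4 := mem_centralizer_singleton_iff.1 (S.le hx)
    rw [mem_normalizer_iff]
    intro y
    have h5 : ∀ y ∈ zpowers t, x * y * x⁻¹ = y := by
      intro y hy
      obtain ⟨i, rfl⟩ := mem_zpowers_iff.1 hy
      have h6 : x * t ^ i = t ^ i * x := (Commute.zpow_right h4 i).eq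
      rw [h6]
      group
    constructor
    · intro hy
      have h6 := h5 y hy
      change x * y * x⁻¹ ∈ zpowers t
      rw [h6]
      exact hy
    · intro hy
      change x * y * x⁻¹ ∈ zpowers t at hy
      obtain ⟨i, hi⟩ := mem_zpowers_iff.1 hy
      have h6 : y = x⁻¹ * (t ^ i) * x := by rw [hi]; group
      have h7 : t ^ i * x = x * t ^ i := (Commute.zpow_right h4 i).eq.symm
      rw [h6, mul_assoc, h7]
      change x⁻¹ * (x * t ^ i) ∈ zpowers t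
      rw [inv_mul_cancel_left]
      exact zpow_mem_zpowers t i
  have h4 : S.1 ⊔ zpowers t ≤ centralizer ({t} : Set Γ) :=
    sup_le S.le (zpowers_le.2 (mem_centralizer_singleton_iff.2 rfl))
  have h5 := eq_of_pgroup (h.nine_dvd_ctr ht h1) (h.not_27_ctr ht h1 h2) h3 h4 (Q := S) le_sup_left
  rw [← h5]
  exact mem_sup_right (mem_zpowers t)

include h ht h1 h2 in
theorem card_inf_K {S : Om (centralizer ({t} : Set Γ))} : Nat.card ↥(S.1 ⊓ K) = 3 := by
  have hK := h.normal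
  rcases card_le_nine S.card (inf_le_left : S.1 ⊓ K ≤ S.1) with h3 | h3 | h3
  · exfalso
    apply h.syl
    have h4 : K.relIndex S.1 = 9 := by
      have h5 := (K.subgroupOf S.1).card_mul_index
      have h6 : Nat.card (K.subgroupOf S.1) = 1 := by
        rw [card_eq_one] at h3 ⊢
        rw [subgroupOf_eq_bot, disjoint_iff, inf_comm]
        exact h3
      rw [h6, one_mul, S.card] at h5
      exact h5
    have h5 : 9 ∣ K.index := by
      rw [← h4]
      exact relIndex_dvd_index_of_normal K S.1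
    have h6 := mul_dvd_mul h.nine_dvd h5
    rw [K.card_mul_index, ← T.card_mul_index, h.card_T] at h6
    have h7 : 27 * 3 ∣ 27 * T.index := by
      simpa only [_root_.Nat.reduceMul] using h6
    exact Nat.dvd_of_mul_dvd_mul_left (by norm_num) h7
  · exact h3
  · exfalso
    apply h.notMem_K ht h1
    have h4 : t ∈ S.1 := h.t_mem ht h1 h2
    rw [← h3] at h4
    exact h4.2

/-- the first map -/
def f1 (Q : {Q : Om K // have := h.normal; t • Q = Q}) : V3 K t :=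
  ⟨Q.1.1 ⊓ centralizer ({t} : Set Γ), inf_le_left.trans Q.1.le, inf_le_right, h.card_inf_ctr ht h1 Q.2⟩

/-- the second map -/
def f2 (S : Om (centralizer ({t} : Set Γ))) : V3 K t :=
  ⟨S.1 ⊓ K, inf_le_right, inf_le_left.trans S.le, h.card_inf_K ht h1 h2⟩

theorem f1_bij : Function.Bijective (h.f1 ht h1) := by
  have hK := h.normal
  constructor
  · intro Q Q' hQ
    have h3 : Q.1.1 ⊓ centralizer ({t} : Set Γ) = Q'.1.1 ⊓ centralizer ({t} : Set Γ) := congrArg Subtype.val hQ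
    obtain ⟨u, hu, hu1⟩ := exists_ne_one (h.card_inf_ctr ht h1 Q.2)
    have hu' := hu
    rw [h3] at hu'
    exact Subtype.ext (h.ti hu.1 hu'.1 hu1)
  · rintro ⟨W, hWK, hWC, hW⟩
    have hWp : IsPGroup 3 W := IsPGroup.of_card (n := 1) (by rw [hW]; norm_num)
    obtain ⟨Q, hQ⟩ := exists_ge h.nine_dvd h.not_27 hWp hWK
    obtain ⟨u, hu, hu1⟩ := exists_ne_one hW
    have hfix : t • Q = Q := by
      apply h.ti (u := u) _ (hQ hu) hu1
      rw [coe_smul, mem_cj, ctr_of_mem_ctr (hWC hu)]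
      exact hQ hu
    refine ⟨⟨Q, hfix⟩, Subtype.ext ?_⟩
    change Q.1 ⊓ centralizer ({t} : Set Γ) = W
    have h3 := h.card_inf_ctr ht h1 (Q := Q) hfix
    exact (eq_nine_of_le (by rw [h3, hW]) (by rw [h3]; norm_num) (le_inf hQ hWC)).symm

include h ht h1 in
theorem card_V_sup {W : Subgroup Γ} (hWK : W ≤ K) (hWC : W ≤ centralizer ({t} : Set Γ)) (hW : Nat.card W = 3) :
    Nat.card ↥(W ⊔ zpowers t) = 9 := by
  apply card_sup_zpowers hW (h.order_t ht h1)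
  · intro h3
    exact h.notMem_K ht h1 (hWK h3)
  · intro x hx
    exact mem_centralizer_singleton_iff.1 (hWC hx)

theorem f2_bij : Function.Bijective (h.f2 ht h1 h2) := by
  have hK := h.normal
  constructor
  · intro S S' hS
    have h3 : S.1 ⊓ K = S'.1 ⊓ K := congrArg Subtype.val hS
    have key : ∀ S : Om (centralizer ({t} : Set Γ)), (S.1 ⊓ K) ⊔ zpowers t = S.1 := by
      intro S
      have h4 : Nat.card ↥((S.1 ⊓ K) ⊔ zpowers t) = 9 :=
        h.card_V_sup ht h1 inf_le_right (inf_le_left.trans S.le) (h.card_inf_K ht h1 h2)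
      exact eq_nine_of_le (by rw [h4, S.card]) (by rw [S.card]; norm_num)
        (sup_le inf_le_left (zpowers_le.2 (h.t_mem ht h1 h2)))
    apply Om.ext
    rw [← key S, ← key S', h3]
  · rintro ⟨W, hWK, hWC, hW⟩
    have h4 := h.card_V_sup ht h1 hWK hWC hW
    refine ⟨⟨W ⊔ zpowers t, sup_le hWC (zpowers_le.2 (mem_centralizer_singleton_iff.2 rfl)), h4⟩, Subtype.ext ?_⟩
    change (W ⊔ zpowers t) ⊓ K = W
    have h5 := h.card_inf_K ht h1 h2
      (S := ⟨W ⊔ zpowers t, sup_le hWC (zpowers_le.2 (mem_centralizer_singleton_iff.2 rfl)), h4⟩)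
    exact (eq_nine_of_le (by rw [h5, hW]) (by rw [h5]; norm_num) (le_inf le_sup_left hWK)).symm

include h ht h1 h2 in
theorem card_fix : Nat.card {Q : Om K // have := h.normal; t • Q = Q} = 1 ∨
    Nat.card {Q : Om K // have := h.normal; t • Q = Q} = 4 := by
  rw [Nat.card_congr (Equiv.ofBijective _ (h.f1_bij ht h1)),
    ← Nat.card_congr (Equiv.ofBijective _ (h.f2_bij ht h1 h2)), card_Om (h.nine_dvd_ctr ht h1) (h.not_27_ctr ht h1 h2)]
  exact h.reg t ht h1 h2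

end

theorem card_fix_conj (h : Ctx1 T U1 U2 z K) {x y g : Γ} (hg : g * x * g⁻¹ = y ∨ g * x * g⁻¹ = y⁻¹) :
    Nat.card {Q : Om K // have := h.normal; x • Q = Q} = Nat.card {Q : Om K // have := h.normal; y • Q = Q} := by
  have hK := h.normal
  change Nat.card (MulAction.fixedBy (Om K) x) = Nat.card (MulAction.fixedBy (Om K) y)
  have key : ∀ w : Γ, g * x * g⁻¹ = w → Nat.card (MulAction.fixedBy (Om K) x) = Nat.card (MulAction.fixedBy (Om K) w) := by
    rintro w rfl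
    refine Nat.card_congr (Equiv.ofBijective (fun Q : MulAction.fixedBy (Om K) x =>
      (⟨g • Q.1, ?_⟩ : MulAction.fixedBy (Om K) (g * x * g⁻¹))) ⟨?_, ?_⟩)
    · have h1 : x • Q.1 = Q.1 := Q.2
      change (g * x * g⁻¹) • (g • Q.1) = g • Q.1
      rw [smul_smul, inv_mul_cancel_right, mul_smul, h1]
    · intro Q Q' hQ
      exact Subtype.ext (smul_left_cancel g (congrArg Subtype.val hQ))
    · rintro ⟨Q, hQ⟩
      have h1 : (g * x * g⁻¹) • Q = Q := hQ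
      refine ⟨⟨g⁻¹ • Q, ?_⟩, Subtype.ext ?_⟩
      · change x • (g⁻¹ • Q) = g⁻¹ • Q
        calc x • (g⁻¹ • Q) = g⁻¹ • ((g * x * g⁻¹) • Q) := by rw [smul_smul, smul_smul]; congr 1; group
          _ = _ := by rw [h1]
      · change g • (g⁻¹ • Q) = Q
        rw [smul_inv_smul]
  rcases hg with h1 | h1
  · exact key y h1
  · rw [key _ h1, MulAction.fixedBy_inv]

end Ctx1

end Cfsg.Agent.H536.Nine
end

-- part: H536/Nine/Burn
section
/-!
# S5227, section A: `|T ∩ K| ≠ 9`, part 8 (helper536): `|Syl_3(K)|` is 1 or 19 modulo 27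
-/

set_option autoImplicit false

namespace Cfsg.Agent.H536.Nine

open Subgroup Cfsg.Agent.H776.Co

universe u

variable {Γ : Type u} [Group Γ] {T U1 U2 K : Subgroup Γ} {z : Γ}

open scoped Classical in
theorem Half.card_union (h : Half T U1 U2 z) [Fintype T] :
    (Finset.univ.filter (fun a : T => (a : Γ) ∈ U1 ∨ (a : Γ) ∈ U2)).card = 15 := by
  have key : ∀ U : Subgroup Γ, U ≤ T → (Finset.univ.filter (fun a : T => (a : Γ) ∈ U)).card = Nat.card U := by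
    intro U hU
    rw [← Fintype.card_subtype, ← Nat.card_eq_fintype_card, ← Nat.card_congr (subgroupOfEquivOfLe hU).toEquiv]
    rfl
  have h1 := Finset.card_union_add_card_inter (Finset.univ.filter (fun a : T => (a : Γ) ∈ U1))
    (Finset.univ.filter (fun a : T => (a : Γ) ∈ U2))
  rw [← Finset.filter_or, ← Finset.filter_and, key U1 h.le1, key U2 h.le2, h.card1, h.card2] at h1
  have h2 : (Finset.univ.filter (fun a : T => (a : Γ) ∈ U1 ∧ (a : Γ) ∈ U2)).card = 3 := by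
    have h3 := key (U1 ⊓ U2) (inf_le_left.trans h.le1)
    rw [h.inf, h.card_z] at h3
    rw [← h3]
    congr 1
    ext a
    rw [Finset.mem_filter, Finset.mem_filter, ← h.inf, mem_inf]
  rw [h2] at h1
  omega

open scoped Classical in
theorem Ctx1.mod_27 [Finite Γ] (h : Ctx1 T U1 U2 z K) : Nat.card (Om K) % 27 = 1 ∨ Nat.card (Om K) % 27 = 19 := by
  have hK := h.normal
  let _ : Fintype T := Fintype.ofFinite T
  have hu := h.card_union
  have hT : Fintype.card T = 27 := by rw [← Nat.card_eq_fintype_card, h.card_T]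
  -- a regular element
  obtain ⟨t0, ht0⟩ : ∃ a : T, ¬ ((a : Γ) ∈ U1 ∨ (a : Γ) ∈ U2) := by
    by_contra hne
    push Not at hne
    rw [Finset.filter_true_of_mem (fun a _ => hne a), Finset.card_univ, hT] at hu
    norm_num at hu
  rw [not_or] at ht0
  set! f := Nat.card (MulAction.fixedBy (Om K) (t0 : Γ)) with hf
  have hf14 : f = 1 ∨ f = 4 := h.card_fix t0.2 ht0.1 ht0.2
  have hsum : ∑ a : T, Nat.card (MulAction.fixedBy (Om K) a) =
      Nat.card (Quotient (MulAction.orbitRel T (Om K))) * 27 := by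
    rw [← Nat.card_sigma, Nat.card_congr (MulAction.sigmaFixedByEquivOrbitsProdGroup T (Om K)), Nat.card_prod, h.card_T]
  have hF : ∀ a : T, (Nat.card (MulAction.fixedBy (Om K) a) : ℤ) = f + (if (a : Γ) ∈ U1 ∨ (a : Γ) ∈ U2 then 1 - (f : ℤ) else 0) +
      (if a = 1 then (Nat.card (Om K) : ℤ) - 1 else 0) := by
    intro a
    by_cases ha1 : a = 1
    · subst ha1
      have h0 : ((1 : T) : Γ) ∈ U1 ∨ ((1 : T) : Γ) ∈ U2 := Or.inl U1.one_mem
      rw [if_pos rfl, if_pos h0]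
      have h1 : MulAction.fixedBy (Om K) (1 : T) = Set.univ := by
        ext Q
        simp
      rw [h1, Nat.card_coe_set_eq, Set.ncard_univ]
      ring
    · rw [if_neg ha1]
      have ha1' : (a : Γ) ≠ 1 := fun h1 => ha1 (Subtype.ext h1)
      by_cases hau : (a : Γ) ∈ U1 ∨ (a : Γ) ∈ U2
      · rw [if_pos hau]
        have h1 : MulAction.fixedBy (Om K) a = {h.P0} := by
          ext Q
          rw [Set.mem_singleton_iff]
          constructor
          · intro hQ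
            exact h.fix_dist hau ha1' hQ
          · rintro rfl
            exact h.smul_P0 a.2
        rw [h1, Nat.card_coe_set_eq, Set.ncard_singleton]
        push_cast
        ring
      · rw [if_neg hau]
        rw [not_or] at hau
        obtain ⟨g, hg⟩ := h.reg_conj t0 t0.2 ht0.1 ht0.2 a a.2 hau.1 hau.2
        have h1 := h.card_fix_conj hg
        have h2 : Nat.card (MulAction.fixedBy (Om K) a) = f := h1.symm
        rw [h2]
        ring
  have hsum' : (∑ a : T, (Nat.card (MulAction.fixedBy (Om K) a) : ℤ)) = 12 * f + 14 + Nat.card (Om K) := by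
    rw [Finset.sum_congr rfl (fun a _ => hF a), Finset.sum_add_distrib, Finset.sum_add_distrib, Finset.sum_const,
      Finset.card_univ, hT, ← Finset.sum_filter, Finset.sum_const, hu, ← Finset.sum_filter, Finset.sum_const]
    have h1 : (Finset.univ.filter (fun a : T => a = 1)).card = 1 := by
      rw [Finset.card_eq_one]
      exact ⟨1, by ext a; simp only [_root_.Finset.mem_filter, _root_.Finset.mem_univ, _root_.true_and, _root_.Finset.mem_singleton]⟩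
    rw [h1]
    simp only [nsmul_eq_mul]
    push_cast
    ring
  rw [← Nat.cast_sum, hsum] at hsum'
  push_cast at hsum'
  rcases hf14 with h1 | h1
  · rw [h1] at hsum'
    left
    omega
  · rw [h1] at hsum'
    right
    omega

end Cfsg.Agent.H536.Nine
end

-- part: H536/Nine/Mat
section
/-!
# S5227, section A: `|T ∩ K| ≠ 9`, part 4 (helper536): the quaternion subgroup of `GL(2,3)`
-/

set_option autoImplicit false

namespace Cfsg.Agent.H536.Nine

/-- 2×2-matrices -/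
abbrev Q4 := ZMod 3 × ZMod 3 × ZMod 3 × ZMod 3

namespace Q4

/-- product -/
def mul (g h : Q4) : Q4 :=
  (g.1 * h.1 + g.2.1 * h.2.2.1, g.1 * h.2.1 + g.2.1 * h.2.2.2, g.2.2.1 * h.1 + g.2.2.2 * h.2.2.1,
    g.2.2.1 * h.2.1 + g.2.2.2 * h.2.2.2)

/-- unit -/
def one : Q4 := (1, 0, 0, 1)

/-- the unipotent matrix -/
def tau : Q4 := (1, 0, 1, 1)

/-- its inverse -/
def taui : Q4 := (1, 0, 2, 1)

/-- `w` does not have order 3 -/
def Ok (w : Q4) : Prop := mul w (mul w w) = one → w = one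

instance (w : Q4) : Decidable (Ok w) := by unfold Ok; infer_instance

/-- the quaternion group -/
def q8 : Finset Q4 :=
  {(0, 1, 2, 0), (0, 2, 1, 0), (1, 0, 0, 1), (1, 1, 1, 2), (1, 2, 2, 2), (2, 0, 0, 2), (2, 1, 1, 1), (2, 2, 2, 1)}

theorem card_q8 : q8.card = 8 := by decide

theorem mem_q8 : ∀ g : Q4, g.1 * g.2.2.2 - g.2.1 * g.2.2.1 ≠ 0 → Ok g → Ok (mul g g) →
    Ok (mul (mul (mul taui g) tau) g) → Ok (mul (mul (mul (mul taui g) tau) g) (mul (mul (mul taui g) tau) g)) → g ∈ q8 := by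
  decide +kernel

theorem gen_q8 : ∀ g ∈ q8, g.2.1 ≠ 0 → ∀ q ∈ q8, q = one ∨ q = g ∨ q = mul g g ∨ q = mul (mul g g) g ∨
    q = mul (mul taui g) tau ∨ q = mul (mul g g) (mul (mul taui g) tau) ∨ q = mul g (mul (mul taui g) tau) ∨
    q = mul (mul (mul taui g) tau) g := by
  decide +kernel

theorem eq_q8 (S : Set Q4) (h1 : one ∈ S) (hm : ∀ g ∈ S, ∀ h ∈ S, mul g h ∈ S) (ht : ∀ g ∈ S, mul (mul taui g) tau ∈ S)
    (hd : ∀ g ∈ S, g.1 * g.2.2.2 - g.2.1 * g.2.2.1 ≠ 0) (ho : ∀ g ∈ S, Ok g) (hb : ∃ g ∈ S, g.2.1 ≠ 0) : S = (q8 : Set Q4) := by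
  have hle : ∀ g ∈ S, g ∈ q8 := by
    intro g hg
    have h2 := hm _ (ht g hg) g hg
    exact mem_q8 g (hd g hg) (ho g hg) (ho _ (hm g hg g hg)) (ho _ h2) (ho _ (hm _ h2 _ h2))
  apply Set.Subset.antisymm
  · intro g hg
    exact hle g hg
  · intro q hq
    obtain ⟨g, hg, hgb⟩ := hb
    have h2 := ht g hg
    have h3 := hm g hg g hg
    rcases gen_q8 g (hle g hg) hgb q hq with h | h | h | h | h | h | h | h
    · rw [h]; exact h1
    · rw [h]; exact hg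
    · rw [h]; exact h3
    · rw [h]; exact hm _ h3 _ hg
    · rw [h]; exact h2
    · rw [h]; exact hm _ h3 _ h2
    · rw [h]; exact hm _ hg _ h2
    · rw [h]; exact hm _ h2 _ hg

end Q4

end Cfsg.Agent.H536.Nine
end

-- part: H536/Nine/Nrm
section
/-!
# S5227, section A: `|T ∩ K| ≠ 9`, part 9 (helper536): `|N_K(P)| = 72`
-/

set_option autoImplicit false

namespace Cfsg.Agent.H536.Nine

open Subgroup Cfsg.Agent.H776.Co

universe u

variable {Γ : Type u} [Group Γ] {T U1 U2 K : Subgroup Γ} {z : Γ}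

/-! ### Coordinates -/

/-- the element with the coordinates `p` -/
def el (z u : Γ) (p : ZMod 3 × ZMod 3) : Γ := z ^ p.1.val * u ^ p.2.val

theorem pow_val_add {x : Γ} (hx : x ^ 3 = 1) (a b : ZMod 3) : x ^ (a + b).val = x ^ a.val * x ^ b.val := by
  rw [← pow_add, ZMod.val_add, ← pow_mod_orderOf, ← pow_mod_orderOf x (a.val + b.val)]
  congr 1
  exact Nat.mod_mod_of_dvd _ (orderOf_dvd_of_pow_eq_one hx)

theorem pow_val_mul {x : Γ} (hx : x ^ 3 = 1) (a b : ZMod 3) : x ^ (a * b).val = (x ^ a.val) ^ b.val := by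
  rw [← pow_mul, ZMod.val_mul, ← pow_mod_orderOf, ← pow_mod_orderOf x (a.val * b.val)]
  congr 1
  exact Nat.mod_mod_of_dvd _ (orderOf_dvd_of_pow_eq_one hx)

section

variable {u : Γ} (hz : z ^ 3 = 1) (hu : u ^ 3 = 1) (hzu : Commute z u)

include hz hu hzu in
theorem el_add (p q : ZMod 3 × ZMod 3) : el z u (p + q) = el z u p * el z u q := by
  unfold el
  rw [Prod.fst_add, Prod.snd_add, pow_val_add hz, pow_val_add hu]
  have h1 : u ^ p.2.val * z ^ q.1.val = z ^ q.1.val * u ^ p.2.val := ((hzu.pow_pow _ _).eq).symm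
  calc z ^ p.1.val * z ^ q.1.val * (u ^ p.2.val * u ^ q.2.val)
      = z ^ p.1.val * (z ^ q.1.val * u ^ p.2.val) * u ^ q.2.val := by simp only [mul_assoc]
    _ = z ^ p.1.val * (u ^ p.2.val * z ^ q.1.val) * u ^ q.2.val := by rw [h1]
    _ = _ := by simp only [mul_assoc]

include hz hu hzu in
theorem el_pow (p : ZMod 3 × ZMod 3) (a : ZMod 3) : (el z u p) ^ a.val = el z u (p.1 * a, p.2 * a) := by
  unfold el
  rw [pow_val_mul hz, pow_val_mul hu, (hzu.pow_pow _ _).mul_pow]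

include hz hu hzu in
/-- conjugation in coordinates -/
theorem conj_el {g : Γ} {r s : ZMod 3 × ZMod 3} (hr : g * z * g⁻¹ = el z u r) (hs : g * u * g⁻¹ = el z u s)
    (p : ZMod 3 × ZMod 3) : g * el z u p * g⁻¹ = el z u (p.1 * r.1 + p.2 * s.1, p.1 * r.2 + p.2 * s.2) := by
  have h1 : g * el z u p * g⁻¹ = (g * z * g⁻¹) ^ p.1.val * (g * u * g⁻¹) ^ p.2.val := by
    rw [conj_pow, conj_pow]
    unfold el
    group
  rw [h1, hr, hs, el_pow hz hu hzu, el_pow hz hu hzu, ← el_add hz hu hzu]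
  congr 1
  ext
  · simp only [Prod.fst_add]; ring
  · simp only [Prod.snd_add]; ring

end

namespace Q4

theorem det_ne : ∀ g h : Q4, mul g h = one → h.1 * h.2.2.2 - h.2.1 * h.2.2.1 ≠ 0 := by
  intro g h hgh h0
  have h1 : (g.1 * g.2.2.2 - g.2.1 * g.2.2.1) * (h.1 * h.2.2.2 - h.2.1 * h.2.2.1) =
      (mul g h).1 * (mul g h).2.2.2 - (mul g h).2.1 * (mul g h).2.2.1 := by
    unfold mul
    ring
  rw [hgh, h0, mul_zero] at h1
  revert h1
  decide

end Q4

/-- coordinates -/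
noncomputable def co (z u x : Γ) : ZMod 3 × ZMod 3 := Function.invFun (el z u) x

/-- the matrix -/
noncomputable def mat (z u g : Γ) : Q4 :=
  ((co z u (g * z * g⁻¹)).1, (co z u (g * z * g⁻¹)).2, (co z u (g * u * g⁻¹)).1, (co z u (g * u * g⁻¹)).2)

/-- a basis of `U1` -/
structure Bas (U1 : Subgroup Γ) (z u : Γ) : Prop where
  card : Nat.card U1 = 9
  hz : z ∈ U1
  hu : u ∈ U1
  z3 : z ^ 3 = 1
  u3 : u ^ 3 = 1
  z_ne : z ≠ 1
  not : u ∉ zpowers z

namespace Bas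

variable {u : Γ}

theorem comm (h : Bas U1 z u) : Commute z u := comm_of_nine h.card h.hz h.hu

theorem el_mem (h : Bas U1 z u) (p : ZMod 3 × ZMod 3) : el z u p ∈ U1 :=
  U1.mul_mem (U1.pow_mem h.hz _) (U1.pow_mem h.hu _)

theorem eq_zero (h : Bas U1 z u) {p : ZMod 3 × ZMod 3} (hp : el z u p = 1) : p = 0 := by
  have h1 : p.2 = 0 := by
    by_contra hne
    apply h.not
    -- `u ^ b ∈ ⟨z⟩`
    have h2 : u ^ p.2.val ∈ zpowers z := by
      have h3 : u ^ p.2.val = (z ^ p.1.val)⁻¹ := eq_inv_of_mul_eq_one_right hp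
      rw [h3]
      exact (zpowers z).inv_mem ((zpowers z).pow_mem (mem_zpowers z) _)
    have h4 : (u ^ p.2.val) ^ (p.2⁻¹).val = u := by
      rw [← pow_val_mul h.u3, mul_inv_cancel₀ hne]
      have : (1 : ZMod 3).val = 1 := rfl
      rw [this, pow_one]
    rw [← h4]
    exact (zpowers z).pow_mem h2 _
  have h2 : p.1 = 0 := by
    by_contra hne
    apply h.z_ne
    have h3 : z ^ p.1.val = 1 := by
      have h4 := hp
      unfold el at h4
      rw [h1] at h4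
      simpa using h4
    have h4 : (z ^ p.1.val) ^ (p.1⁻¹).val = z := by
      rw [← pow_val_mul h.z3, mul_inv_cancel₀ hne]
      have : (1 : ZMod 3).val = 1 := rfl
      rw [this, pow_one]
    rw [← h4, h3, one_pow]
  exact Prod.ext h2 h1

theorem inj (h : Bas U1 z u) : Function.Injective (el z u) := by
  intro p q hpq
  have h1 : el z u (p - q) = 1 := by
    have h2 : el z u (p - q) * el z u q = el z u q := by
      rw [← el_add h.z3 h.u3 h.comm, sub_add_cancel, hpq]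
    exact mul_eq_right.1 h2
  exact sub_eq_zero.1 (h.eq_zero h1)

theorem surj (h : Bas U1 z u) {x : Γ} (hx : x ∈ U1) : ∃ p, el z u p = x := by
  have hfin : Finite U1 := Nat.finite_of_card_ne_zero (by rw [h.card]; norm_num)
  have hinj : Function.Injective (fun p => (⟨el z u p, h.el_mem p⟩ : U1)) := by
    intro p q hpq
    exact h.inj (congrArg Subtype.val hpq)
  have hb := (Nat.bijective_iff_injective_and_card (fun p => (⟨el z u p, h.el_mem p⟩ : U1))).2 ⟨hinj, by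
    rw [h.card, Nat.card_prod, Nat.card_zmod]⟩
  obtain ⟨p, hp⟩ := hb.2 ⟨x, hx⟩
  exact ⟨p, congrArg Subtype.val hp⟩

theorem el_co (h : Bas U1 z u) {x : Γ} (hx : x ∈ U1) : el z u (co z u x) = x :=
  Function.invFun_eq (h.surj hx)

theorem co_el (h : Bas U1 z u) (p : ZMod 3 × ZMod 3) : co z u (el z u p) = p :=
  h.inj (h.el_co (h.el_mem p))

theorem co_eq (h : Bas U1 z u) {x : Γ} {p : ZMod 3 × ZMod 3} (hx : x = el z u p) : co z u x = p := by
  rw [hx, h.co_el]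

theorem el_10 : el z u (1, 0) = z := by
  unfold el
  have : (1 : ZMod 3).val = 1 := rfl
  simp [this]

theorem el_01 : el z u (0, 1) = u := by
  unfold el
  have : (1 : ZMod 3).val = 1 := rfl
  simp [this]

theorem el_11 : el z u (1, 1) = z * u := by
  unfold el
  have : (1 : ZMod 3).val = 1 := rfl
  simp [this]

/-- the matrix of a product -/
theorem mat_mul (h : Bas U1 z u) {g k : Γ} (hg : ∀ x ∈ U1, g * x * g⁻¹ ∈ U1) (hk : ∀ x ∈ U1, k * x * k⁻¹ ∈ U1) :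
    mat z u (g * k) = Q4.mul (mat z u k) (mat z u g) := by
  have key : ∀ x ∈ U1, co z u (g * k * x * (g * k)⁻¹) =
      ((co z u (k * x * k⁻¹)).1 * (co z u (g * z * g⁻¹)).1 + (co z u (k * x * k⁻¹)).2 * (co z u (g * u * g⁻¹)).1,
        (co z u (k * x * k⁻¹)).1 * (co z u (g * z * g⁻¹)).2 + (co z u (k * x * k⁻¹)).2 * (co z u (g * u * g⁻¹)).2) := by
    intro x hx
    apply h.co_eq
    rw [← conj_el h.z3 h.u3 h.comm (h.el_co (hg z h.hz)).symm (h.el_co (hg u h.hu)).symm, h.el_co (hk x hx)]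
    group
  unfold mat
  rw [key z h.hz, key u h.hu]
  rfl

theorem mat_one (h : Bas U1 z u) : mat z u 1 = Q4.one := by
  unfold mat
  have h1 : (1 : Γ) * z * 1⁻¹ = el z u (1, 0) := by rw [el_10]; group
  have h2 : (1 : Γ) * u * 1⁻¹ = el z u (0, 1) := by rw [el_01]; group
  rw [h1, h2, h.co_el, h.co_el]
  rfl

theorem mat_of_comm (h : Bas U1 z u) {g : Γ} (hg : ∀ x ∈ U1, x * g = g * x) : mat z u g = Q4.one := by
  unfold mat
  have h1 : g * z * g⁻¹ = el z u (1, 0) := by rw [el_10, ← hg z h.hz]; group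
  have h2 : g * u * g⁻¹ = el z u (0, 1) := by rw [el_01, ← hg u h.hu]; group
  rw [h1, h2, h.co_el, h.co_el]
  rfl

theorem comm_of_mat (h : Bas U1 z u) {g : Γ} (hg : ∀ x ∈ U1, g * x * g⁻¹ ∈ U1) (h1 : mat z u g = Q4.one) :
    ∀ x ∈ U1, x * g = g * x := by
  intro x hx
  unfold mat Q4.one at h1
  rw [Prod.mk.injEq, Prod.mk.injEq, Prod.mk.injEq] at h1
  obtain ⟨h2, h3, h4, h5⟩ := h1
  have h6 := conj_el h.z3 h.u3 h.comm (h.el_co (hg z h.hz)).symm (h.el_co (hg u h.hu)).symm (co z u x)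
  rw [h.el_co hx, h2, h3, h4, h5] at h6
  simp only [mul_one, mul_zero, add_zero, zero_add] at h6
  have h7 : g * x * g⁻¹ = x := by
    rw [h6]
    exact h.el_co hx
  calc x * g = (g * x * g⁻¹) * g := by rw [h7]
    _ = g * x := by group

end Bas

end Cfsg.Agent.H536.Nine
end

-- part: H536/Nine/Nrm2
section
/-!
# S5227, section A: `|T ∩ K| ≠ 9`, part 10 (helper536): `|N_K(P)| = 72`
-/

set_option autoImplicit false

namespace Cfsg.Agent.H536.Nine

open Subgroup Cfsg.Agent.H776.Co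

universe u

variable {Γ : Type u} [Group Γ] {T U1 U2 K : Subgroup Γ} {z : Γ}

theorem Q4.taui_unique : ∀ g : Q4, Q4.mul Q4.tau g = Q4.one → g = Q4.taui := by decide +kernel

namespace Half

theorem exists_u (h : Half T U1 U2 z) : ∃ u, Bas U1 z u ∧ ∃ t ∈ T, t * u * t⁻¹ = z * u := by
  obtain ⟨u, hu, huz⟩ : ∃ u ∈ U1, u ∉ zpowers z := by
    by_contra hne
    push Not at hne
    have hfin : Finite (zpowers z) := Nat.finite_of_card_ne_zero (by rw [h.card_z]; norm_num)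
    have h8 := card_le_of_le (fun x hx => hne x hx : U1 ≤ zpowers z)
    rw [h.card1, h.card_z] at h8
    omega
  obtain ⟨t0, ht0, ht0u⟩ : ∃ t ∈ T, t ∉ U1 := by
    by_contra hne
    push Not at hne
    have hfin : Finite U1 := Nat.finite_of_card_ne_zero (by rw [h.card1]; norm_num)
    have h8 := card_le_of_le (fun x hx => hne x hx : T ≤ U1)
    rw [h.card1, h.card_T] at h8
    omega
  refine ⟨u, ⟨h.card1, h.z_mem1, hu, h.exp z h.z_mem, h.exp u (h.le1 hu), h.z_ne, huz⟩, ?_⟩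
  have h1 := h.not_comm h.le1 h.card1 ht0 ht0u hu huz
  obtain ⟨i, hi⟩ := mem_zpowers_iff.1 (h.comm_mem ht0 (h.le1 hu))
  rw [← zpow_mod_orderOf, h.order_z] at hi
  have h2 : i % ((3 : ℕ) : ℤ) = 0 ∨ i % ((3 : ℕ) : ℤ) = 1 ∨ i % ((3 : ℕ) : ℤ) = 2 := by omega
  rcases h2 with h2 | h2 | h2
  · exfalso
    apply h1
    rw [h2, zpow_zero] at hi
    calc t0 * u = (t0 * u * t0⁻¹ * u⁻¹) * (u * t0) := by group
      _ = u * t0 := by rw [← hi, one_mul]
  · refine ⟨t0, ht0, ?_⟩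
    rw [h2, zpow_one] at hi
    calc t0 * u * t0⁻¹ = (t0 * u * t0⁻¹ * u⁻¹) * u := by group
      _ = z * u := by rw [← hi]
  · refine ⟨t0⁻¹, T.inv_mem ht0, ?_⟩
    rw [h2] at hi
    have h3 : z ^ (2 : ℤ) = z⁻¹ := by
      have h4 := h.exp z h.z_mem
      rw [eq_inv_iff_mul_eq_one, ← zpow_add_one, ← h4]
      exact zpow_natCast z 3
    rw [h3] at hi
    have h4 : t0 * u * t0⁻¹ = z⁻¹ * u := by
      calc t0 * u * t0⁻¹ = (t0 * u * t0⁻¹ * u⁻¹) * u := by group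
        _ = z⁻¹ * u := by rw [← hi]
    have h5 : u = t0⁻¹ * (z⁻¹ * u) * t0 := by rw [← h4]; group
    have h6 : t0⁻¹ * z⁻¹ = z⁻¹ * t0⁻¹ := by
      have h7 := h.z_comm t0 ht0
      rw [← mul_inv_rev, ← mul_inv_rev, h7]
    calc t0⁻¹ * u * t0⁻¹⁻¹ = z * (z⁻¹ * t0⁻¹) * u * t0 := by group
      _ = z * (t0⁻¹ * z⁻¹) * u * t0 := by rw [h6]
      _ = z * (t0⁻¹ * (z⁻¹ * u) * t0) := by group
      _ = z * u := by rw [← h5]

end Half

namespace Ctx1

theorem conj_mem_of_fix (h : Ctx1 T U1 U2 z K) {g : Γ} (hg : have := h.normal; g • h.P0 = h.P0) :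
    ∀ x ∈ U1, g * x * g⁻¹ ∈ U1 := by
  have hK := h.normal
  intro x hx
  have h1 : g * x * g⁻¹ ∈ (g • h.P0).1 := by
    rw [coe_smul, mem_cj]
    have : g⁻¹ * (g * x * g⁻¹) * g = x := by group
    rw [this]
    exact hx
  have h2 : g • h.P0 = h.P0 := hg
  rw [h2] at h1
  exact h1

variable [Finite Γ]

theorem fix_pow (h : Ctx1 T U1 U2 z K) {g : Γ} (hgK : g ∈ K) (hg : have := h.normal; g • h.P0 = h.P0)
    (h3 : g ^ 3 ∈ U1) : g ∈ U1 := by
  have hK := h.normal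
  have : Fact (Nat.Prime 3) := ⟨Nat.prime_three⟩
  have h1 : g ^ 9 = 1 := by
    have h2 := h.exp _ (h.le1 h3)
    rw [← pow_mul] at h2
    exact h2
  have hp : IsPGroup 3 (zpowers g) := by
    rintro ⟨x, hx⟩
    obtain ⟨i, rfl⟩ := mem_zpowers_iff.1 hx
    refine ⟨2, Subtype.ext ?_⟩
    change (g ^ i) ^ (3 ^ 2) = 1
    rw [← zpow_natCast, ← zpow_mul, mul_comm, zpow_mul, zpow_natCast]
    norm_num [h1]
  have h2 : IsPGroup 3 ↥(zpowers g ⊔ U1) := by
    apply hp.to_sup_of_normal_right' (pgroup_of_nine h.card1)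
    rw [zpowers_le]
    rw [mem_normalizer_iff]
    intro x
    constructor
    · exact h.conj_mem_of_fix hg x
    · intro hx
      have hg' : g⁻¹ • h.P0 = h.P0 := by
        have h4 : g • h.P0 = h.P0 := hg
        rw [inv_smul_eq_iff, h4]
      have h5 := h.conj_mem_of_fix hg' _ hx
      have h6 : g⁻¹ * (g * x * g⁻¹) * g⁻¹⁻¹ = x := by group
      rwa [h6] at h5
  have h4 : zpowers g ⊔ U1 ≤ K := sup_le (zpowers_le.2 hgK) h.le_K
  have h5 := eq_of_pgroup h.nine_dvd h.not_27 h2 h4 (Q := h.P0) le_sup_right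
  have h6 : g ∈ zpowers g ⊔ U1 := mem_sup_left (mem_zpowers g)
  rw [h5] at h6
  exact h6

/-- `|N_K(P)| = 72` -/
theorem card_stab (h : Ctx1 T U1 U2 z K) : (have := h.normal; Nat.card (MulAction.stabilizer K h.P0) = 72) := by
  have hK := h.normal
  change Nat.card (MulAction.stabilizer K h.P0) = 72
  obtain ⟨u, hB, t, ht, htu⟩ := h.exists_u
  set N := MulAction.stabilizer K h.P0 with hN
  have hfix : ∀ n : N, (((n : K) : Γ) : Γ) • h.P0 = h.P0 := fun n => n.2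
  have hconj : ∀ n : N, ∀ x ∈ U1, ((n : K) : Γ) * x * ((n : K) : Γ)⁻¹ ∈ U1 := fun n => h.conj_mem_of_fix (hfix n)
  have htfix : t • h.P0 = h.P0 := h.smul_P0 ht
  have htfix' : t⁻¹ • h.P0 = h.P0 := h.smul_P0 (T.inv_mem ht)
  have htc := h.conj_mem_of_fix htfix
  have htc' := h.conj_mem_of_fix htfix'
  -- the matrices of `t`
  have hmt : mat z u t = Q4.tau := by
    unfold mat
    have h1 : t * z * t⁻¹ = el z u (1, 0) := by rw [Bas.el_10, h.z_comm t ht]; group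
    have h2 : t * u * t⁻¹ = el z u (1, 1) := by rw [Bas.el_11, htu]
    rw [h1, h2, hB.co_el, hB.co_el]
    rfl
  have hmt' : mat z u t⁻¹ = Q4.taui := by
    apply Q4.taui_unique
    rw [← hmt, ← hB.mat_mul htc' htc, inv_mul_cancel, hB.mat_one]
  -- the set of matrices
  have hS : Set.range (fun n : N => mat z u ((n : K) : Γ)) = (Q4.q8 : Set Q4) := by
    apply Q4.eq_q8
    · exact ⟨1, hB.mat_one⟩
    · rintro _ ⟨n, rfl⟩ _ ⟨k, rfl⟩
      refine ⟨k * n, ?_⟩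
      exact hB.mat_mul (hconj k) (hconj n)
    · rintro _ ⟨n, rfl⟩
      have h1 : t * ((n : K) : Γ) * t⁻¹ ∈ K := hK.conj_mem _ (n : K).2 t
      have h2 : (t * ((n : K) : Γ) * t⁻¹) • h.P0 = h.P0 := by
        rw [mul_smul, mul_smul, htfix', hfix n, htfix]
      refine ⟨⟨⟨_, h1⟩, h2⟩, ?_⟩
      change mat z u (t * ((n : K) : Γ) * t⁻¹) = _
      rw [mul_assoc, hB.mat_mul htc, hB.mat_mul (hconj n) htc', hmt, hmt']
      intro x hx
      have h3 := hconj n _ (htc' x hx)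
      have h4 : ((n : K) : Γ) * t⁻¹ * x * (((n : K) : Γ) * t⁻¹)⁻¹ =
        ((n : K) : Γ) * (t⁻¹ * x * t⁻¹⁻¹) * ((n : K) : Γ)⁻¹ := by group
      rw [h4]
      exact h3
    · rintro _ ⟨n, rfl⟩
      apply Q4.det_ne (mat z u ((n⁻¹ : N) : K))
      rw [← hB.mat_mul (hconj n) (hconj n⁻¹)]
      have h1 : ((n : K) : Γ) * (((n⁻¹ : N) : K) : Γ) = 1 := by
        rw [← Subgroup.coe_mul, ← Subgroup.coe_mul, mul_inv_cancel]
        rfl
      rw [h1, hB.mat_one]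
    · rintro _ ⟨n, rfl⟩ h3
      change Q4.mul (mat z u ((n : K) : Γ)) (Q4.mul (mat z u ((n : K) : Γ)) (mat z u ((n : K) : Γ))) = Q4.one at h3
      have h4 : mat z u (((n * n * n : N) : K) : Γ) = Q4.one := by
        rw [← h3]
        have h5 : (((n * n * n : N) : K) : Γ) = (((n * n : N) : K) : Γ) * ((n : K) : Γ) := rfl
        rw [h5, hB.mat_mul (hconj _) (hconj n)]
        have h6 : (((n * n : N) : K) : Γ) = ((n : K) : Γ) * ((n : K) : Γ) := rfl
        rw [h6, hB.mat_mul (hconj n) (hconj n)]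
      have h5 := hB.comm_of_mat (hconj _) h4
      have h6 : (((n * n * n : N) : K) : Γ) ∈ T ⊓ K := by
        apply h.ctr (n * n * n : N).1.2
        intro x hx
        rw [h.eq] at hx
        exact h5 x hx
      rw [h.eq] at h6
      have h7 : ((n : K) : Γ) ^ 3 ∈ U1 := by
        have h8 : (((n * n * n : N) : K) : Γ) = ((n : K) : Γ) ^ 3 := by
          rw [pow_succ, pow_two]
          rfl
        rwa [h8] at h6
      have h8 := h.fix_pow (n : K).2 (hfix n) h7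
      exact hB.mat_of_comm fun x hx => comm_of_nine h.card1 hx h8
    · obtain ⟨n, hn, hnP, hnz⟩ := h.irr
      rw [h.eq] at hnP
      have hnfix : n • h.P0 = h.P0 := by
        apply Om.ext
        have hfin : Finite (cj n U1) := Nat.finite_of_card_ne_zero (by rw [card_cj, h.card1]; norm_num)
        rw [coe_smul]
        apply eq_of_le_of_card_ge
        · intro x hx
          rw [mem_cj] at hx
          have h1 := hnP _ hx
          have h2 : n * (n⁻¹ * x * n) * n⁻¹ = x := by group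
          rwa [h2] at h1
        · rw [card_cj]
      refine ⟨_, ⟨⟨⟨n, hn⟩, hnfix⟩, rfl⟩, ?_⟩
      change (co z u (n * z * n⁻¹)).2 ≠ 0
      intro h0
      apply hnz
      have h1 := hB.el_co (hnP z h.z_mem1)
      rw [← h1]
      unfold el
      rw [h0, ZMod.val_zero, pow_zero, mul_one]
      exact (zpowers z).pow_mem (mem_zpowers z) _
  -- count
  set! U : Subgroup N := (U1.subgroupOf K).subgroupOf N with hU
  have hUN : U1.subgroupOf K ≤ N := by
    rintro ⟨x, hxK⟩ hx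
    rw [mem_subgroupOf] at hx
    exact h.smul_P0 (h.le1 hx)
  have hUc : Nat.card U = 9 := by
    rw [hU, Nat.card_congr (subgroupOfEquivOfLe hUN).toEquiv, Nat.card_congr (subgroupOfEquivOfLe h.le_K).toEquiv, h.card1]
  have hker : ∀ n k : N, mat z u ((n : K) : Γ) = mat z u ((k : K) : Γ) ↔ n⁻¹ * k ∈ U := by
    intro n k
    have hmem : ∀ w : N, w ∈ U ↔ ((w : K) : Γ) ∈ U1 := fun w => Iff.rfl
    have hmul : ∀ w v : N, mat z u (((w * v : N) : K) : Γ) = Q4.mul (mat z u ((v : K) : Γ)) (mat z u ((w : K) : Γ)) := by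
      intro w v
      exact hB.mat_mul (hconj w) (hconj v)
    have hone : ∀ w : N, w ∈ U ↔ mat z u ((w : K) : Γ) = Q4.one := by
      intro w
      rw [hmem]
      constructor
      · intro hw
        exact hB.mat_of_comm fun x hx => comm_of_nine h.card1 hx hw
      · intro hw
        have h5 := hB.comm_of_mat (hconj _) hw
        have h6 : ((w : K) : Γ) ∈ T ⊓ K := by
          apply h.ctr (w : K).2
          intro x hx
          rw [h.eq] at hx
          exact h5 x hx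
        rwa [h.eq] at h6
    rw [hone, hmul]
    constructor
    · intro h1
      rw [← h1, ← hmul, inv_mul_cancel]
      exact hB.mat_one
    · intro h1
      have h2 : k = n * (n⁻¹ * k) := by group
      have h3 : mat z u ((k : K) : Γ) = mat z u (((n * (n⁻¹ * k) : N) : K) : Γ) := by rw [← h2]
      rw [h3, hmul, hmul, h1]
      generalize mat z u ((n : K) : Γ) = g
      revert g
      decide +kernel
  have hidx : U.index = 8 := by
    have h1 : Nat.card (Set.range (fun n : N => mat z u ((n : K) : Γ))) = 8 := by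
      rw [hS, Nat.card_coe_set_eq, Set.ncard_coe_finset, Q4.card_q8]
    rw [← h1, index]
    apply Nat.card_congr
    refine Equiv.ofBijective (Quotient.lift (s := QuotientGroup.leftRel U)
      (fun n : N => (⟨mat z u ((n : K) : Γ), n, rfl⟩ : Set.range (fun n : N => mat z u ((n : K) : Γ)))) ?_) ⟨?_, ?_⟩
    · intro a b hab
      exact Subtype.ext ((hker a b).2 (QuotientGroup.leftRel_apply.1 hab))
    · rintro ⟨a⟩ ⟨b⟩ hab
      exact Quotient.sound (QuotientGroup.leftRel_apply.2 ((hker a b).1 (congrArg Subtype.val hab)))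
    · rintro ⟨_, n, rfl⟩
      exact ⟨Quotient.mk _ n, rfl⟩
  have h1 := U.card_mul_index
  rw [hUc, hidx] at h1
  exact h1.symm

/-- `|K| = 72 m` -/
theorem card_K (h : Ctx1 T U1 U2 z K) : Nat.card K = 72 * Nat.card (Om K) := by
  have hK := h.normal
  have h1 := MulAction.index_stabilizer (G := K) h.P0
  have h2 : MulAction.orbit K h.P0 = Set.univ := by
    ext Q
    simp only [Set.mem_univ, iff_true]
    obtain ⟨k, hk, hkQ⟩ := exists_smul h.nine_dvd h.not_27 h.P0 Q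
    exact ⟨⟨k, hk⟩, hkQ⟩
  rw [h2, Set.ncard_univ] at h1
  have h3 := (MulAction.stabilizer K h.P0).card_mul_index
  have h4 : Nat.card (MulAction.stabilizer K h.P0) = 72 := h.card_stab
  rw [h1, h4] at h3
  exact h3.symm

end Ctx1

end Cfsg.Agent.H536.Nine
end

-- part: H536/Nine/Main
section
/-!
# S5227, section A: `|T ∩ K| ≠ 9`, part 11 (helper536): the theorem, with S5303 and the list of orders as hypotheses
-/

set_option autoImplicit false

namespace Cfsg.Agent.H536.Nine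

open Subgroup Cfsg.Agent.H776.Co

universe u

variable {Γ : Type u} [Group Γ] {T U1 U2 K : Subgroup Γ} {z : Γ}

theorem Ctx1.false_of [Finite Γ] (h : Ctx1 T U1 U2 z K)
    (hno : ∀ m : ℕ, Nat.card K = 72 * m → m % 27 = 1 ∨ m % 27 = 19 →
      Nat.card K ∣ 2 ^ 13 * 3 ^ 2 * 5 * 7 * 11 ^ 2 * 13 ^ 2 → False) : False := by
  apply hno _ h.card_K h.mod_27
  obtain ⟨k, hk⟩ := h.nine_dvd
  have h3 : ¬ 3 ∣ k := by
    rintro ⟨j, rfl⟩
    apply h.not_27
    rw [hk]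
    exact ⟨j, by ring⟩
  have h1 : Nat.card K ∣ 2 ^ 13 * 3 ^ 3 * 5 * 7 * 11 ^ 2 * 13 ^ 2 := (K.card_subgroup_dvd_card).trans h.ord
  rw [hk] at h1 ⊢
  have h2 : k ∣ 3 * (2 ^ 13 * 5 * 7 * 11 ^ 2 * 13 ^ 2) := by
    apply Nat.dvd_of_mul_dvd_mul_left (by norm_num : 0 < 9)
    have h6 : 9 * (3 * (2 ^ 13 * 5 * 7 * 11 ^ 2 * 13 ^ 2)) = 2 ^ 13 * 3 ^ 3 * 5 * 7 * 11 ^ 2 * 13 ^ 2 := by norm_num
    rw [h6]
    exact h1
  have h4 : Nat.Coprime k 3 := (Nat.coprime_comm.1 ((Nat.Prime.coprime_iff_not_dvd Nat.prime_three).2 h3))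
  have h5 := mul_dvd_mul_left 9 (h4.dvd_of_dvd_mul_left h2)
  have h6 : 9 * (2 ^ 13 * 5 * 7 * 11 ^ 2 * 13 ^ 2) = 2 ^ 13 * 3 ^ 2 * 5 * 7 * 11 ^ 2 * 13 ^ 2 := by norm_num
  rw [h6] at h5
  exact h5

theorem Ctx.false_of [Finite Γ] (h : Ctx T U1 U2 z K)
    (hno : ∀ m : ℕ, Nat.card K = 72 * m → m % 27 = 1 ∨ m % 27 = 19 →
      Nat.card K ∣ 2 ^ 13 * 3 ^ 2 * 5 * 7 * 11 ^ 2 * 13 ^ 2 → False) : False := by
  rcases Ctx1.of_ctx h with h1 | h1
  · exact h1.false_of hno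
  · exact h1.false_of hno

/-- the irreducibility (S5303) in the form which is needed -/
theorem irr_of [Finite Γ] (h : Half T U1 U2 z) (hK : K.Normal) (h9 : Nat.card ↥(T ⊓ K) = 9) (hz : z ∈ K)
    (hirr : ∀ (S : Sylow 3 K), (S : Subgroup K) ≠ ⊥ → IsMulCommutative (S : Subgroup K) → ∀ Ω : Subgroup K,
      (∀ x : K, x ∈ Ω ↔ x ∈ (S : Subgroup K) ∧ x ^ 3 = 1) →
      (∀ B : Subgroup K, B ≤ Ω → (∀ n ∈ Subgroup.normalizer ((S : Subgroup K) : Set K), ∀ b ∈ B, n * b * n⁻¹ ∈ B) →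
        B = ⊥ ∨ B = Ω)) :
    ∃ n ∈ K, (∀ x ∈ T ⊓ K, n * x * n⁻¹ ∈ T ⊓ K) ∧ n * z * n⁻¹ ∉ zpowers z := by
  have : Fact (Nat.Prime 3) := ⟨Nat.prime_three⟩
  have h9K := Nine.nine_dvd (K := K) h9
  have h27 := Nine.not_27 h.card_T h.syl h.exp h9
  set! Q : Om K := ⟨T ⊓ K, inf_le_right, h9⟩ with hQ
  set! S := Q.toSylow h9K h27 with hS
  have hSQ : (S : Subgroup K) = (T ⊓ K).subgroupOf K := Q.coe_toSylow h9K h27
  have hmem : ∀ x : K, x ∈ (S : Subgroup K) ↔ (x : Γ) ∈ T ⊓ K := by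
    intro x
    rw [hSQ]
    exact mem_subgroupOf
  by_contra hne
  push Not at hne
  have hSne : (S : Subgroup K) ≠ ⊥ := by
    intro h1
    have h2 : (⟨z, hz⟩ : K) ∈ (S : Subgroup K) := (hmem _).2 ⟨h.z_mem, hz⟩
    rw [h1, mem_bot] at h2
    exact h.z_ne (congrArg Subtype.val h2)
  have hSc : IsMulCommutative (S : Subgroup K) := by
    refine ⟨⟨fun a b => ?_⟩⟩
    have ha := (hmem a).1 a.2
    have hb := (hmem b).1 b.2
    exact Subtype.ext (Subtype.ext (comm_of_nine h9 ha hb))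
  have h1 := hirr S hSne hSc S (fun x => ⟨fun hx => ⟨hx, Subtype.ext (h.exp x ((hmem x).1 hx).1)⟩, fun hx => hx.1⟩)
    ((zpowers z).subgroupOf K) (by
      intro x hx
      rw [mem_subgroupOf] at hx
      rw [hmem]
      exact ⟨(zpowers_le.2 h.z_mem) hx, x.2⟩) (by
      rintro ⟨n, hnK⟩ hn ⟨b, hbK⟩ hb
      rw [mem_subgroupOf] at hb ⊢
      have h2 : ∀ x ∈ T ⊓ K, n * x * n⁻¹ ∈ T ⊓ K := by
        intro x hx
        have h3 : (⟨x, hx.2⟩ : K) ∈ (S : Subgroup K) := (hmem _).2 hx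
        have h4 := (mem_normalizer_iff.1 hn ⟨x, hx.2⟩).1 h3
        exact (hmem _).1 h4
      have h3 := hne n hnK h2
      obtain ⟨i, hi⟩ := mem_zpowers_iff.1 hb
      change z ^ i = b at hi
      change n * b * n⁻¹ ∈ zpowers z
      rw [← hi, ← conj_zpow]
      exact (zpowers z).zpow_mem h3 i)
  rcases h1 with h2 | h2
  · have h3 : (⟨z, hz⟩ : K) ∈ (zpowers z).subgroupOf K := mem_subgroupOf.2 (mem_zpowers z)
    rw [h2, mem_bot] at h3
    exact h.z_ne (congrArg Subtype.val h3)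
  · have h3 : Nat.card ((zpowers z).subgroupOf K) = Nat.card (S : Subgroup K) := by rw [h2]
    rw [Nat.card_congr (subgroupOfEquivOfLe (zpowers_le.2 hz)).toEquiv, h.card_z, hSQ,
      Nat.card_congr (subgroupOfEquivOfLe inf_le_right).toEquiv, h9] at h3
    norm_num at h3

/-- the theorem with hypotheses -/
theorem card_inf_ne_of [Finite Γ] (h : Loc T U1 U2 z ⊥) (hK : K.Normal) (hz : z ∈ K)
    (hirr : ∀ (S : Sylow 3 K), (S : Subgroup K) ≠ ⊥ → IsMulCommutative (S : Subgroup K) → ∀ Ω : Subgroup K,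
      (∀ x : K, x ∈ Ω ↔ x ∈ (S : Subgroup K) ∧ x ^ 3 = 1) →
      (∀ B : Subgroup K, B ≤ Ω → (∀ n ∈ Subgroup.normalizer ((S : Subgroup K) : Set K), ∀ b ∈ B, n * b * n⁻¹ ∈ B) →
        B = ⊥ ∨ B = Ω))
    (hno : ∀ m : ℕ, Nat.card K = 72 * m → m % 27 = 1 ∨ m % 27 = 19 →
      Nat.card K ∣ 2 ^ 13 * 3 ^ 2 * 5 * 7 * 11 ^ 2 * 13 ^ 2 → False) : Nat.card ↥(T ⊓ K) ≠ 9 := by
  intro h9
  have h' := Half.of_loc h
  exact Ctx.false_of ⟨h', hK, h9, hz, irr_of h' hK h9 hz hirr⟩ hno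

end Cfsg.Agent.H536.Nine
end

-- part: H429/NoSimple
section
/-!
# No simple group of order `72 m`, `m ≡ 1, 19 mod 27`, of order dividing `2^13 3^2 5 7 11^2 13^2` (helper429, for S5227)
-/

set_option autoImplicit false

namespace Cfsg.Agent.H429.NoSimple

open Cfsg Cfsg.Agent.OrdDiv

universe u

/-- the check -/
def chk : Bool :=
  (cands [(2, 13), (3, 2), (5, 1), (7, 1), (11, 2), (13, 2)] (2 ^ 13 * 3 ^ 2 * 5 * 7 * 11 ^ 2 * 13 ^ 2)).all fun g =>
    (ordN g % 72 != 0) || ((ordN g / 72 % 27 != 1) && (ordN g / 72 % 27 != 19))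

/-- **Task E2 of S5227.** -/
theorem no_simple {K : Type u} [Group K] [Finite K] [IsSimpleGroup K] (hc : ¬ IsMulCommutative K) {m : ℕ}
    (hm : Nat.card K = 72 * m) (h27 : m % 27 = 1 ∨ m % 27 = 19)
    (hd : Nat.card K ∣ 2 ^ 13 * 3 ^ 2 * 5 * 7 * 11 ^ 2 * 13 ^ 2) : False := by
  have hna : ¬ ∀ a b : K, a * b = b * a := fun h => hc ⟨⟨h⟩⟩
  obtain ⟨g, hg, -, ho⟩ := exists_good table (Cfsg.Agent.S0000.result (G := K)) hna
    (l := [(2, 13), (3, 2), (5, 1), (7, 1), (11, 2), (13, 2)])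
    (N := 2 ^ 13 * 3 ^ 2 * 5 * 7 * 11 ^ 2 * 13 ^ 2) (by decide +kernel) hd
  have hchk : chk = true := by decide +kernel
  rw [chk, List.all_eq_true] at hchk
  have h1 := hchk g hg
  rw [← ho, hm] at h1
  have h2 : 72 * m % 72 = 0 := Nat.mul_mod_right _ _
  have h3 : 72 * m / 72 = m := Nat.mul_div_cancel_left _ (by norm_num)
  rw [h2, h3] at h1
  rcases h27 with h | h <;> simp [h] at h1

end Cfsg.Agent.H429.NoSimple
end

-- part: H536/Nine/Final
section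
/-!
# S5227, section A: `|T ∩ K| ≠ 9` (helper536)
-/

set_option autoImplicit false

namespace Cfsg.Agent.H536.Nine

open Cfsg.Agent.H776.Co

universe u

variable {Γ : Type u} [Group Γ] [Finite Γ] {T U1 U2 : Subgroup Γ} {z : Γ}

theorem Loc.card_inf_ne' (h : Loc T U1 U2 z ⊥) {K : Subgroup Γ} (hK : K.Normal) (hs : IsSimpleGroup K)
    (hc : ¬ IsMulCommutative K) (hz : z ∈ K) : Nat.card ↥(T ⊓ K) ≠ 9 := by
  have : Fact (Nat.Prime 3) := ⟨Nat.prime_three⟩
  exact card_inf_ne_of h hK hz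
    (fun S hS hSc Ω hΩ => (Cfsg.Agent.S5303.result (G := K) hc 3 S hS hSc Ω hΩ).1)
    (fun _ hm h27 hd => Cfsg.Agent.H429.NoSimple.no_simple (K := K) hc hm h27 hd)

end Cfsg.Agent.H536.Nine
end

private theorem dce_99954737a7b9 : _root_.True := by
  try have : _root_.True := by simp only [_root_.Cfsg.Agent.H276.Co1.E.eq_1]
  try have : _root_.True := by simp only [_root_.Cfsg.Agent.H276.Co1.br.eq_1]
  try have : _root_.True := by simp only [_root_.Cfsg.Agent.H536.Nine.Ctx1.P0.congr_simp]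
  try have : _root_.True := by simp only [_root_.Cfsg.Agent.H429.NoSimple.chk.eq_1]
  exact _root_.True.intro
end

-- part: H776/Co/In
section
prune_inst 0x2400100000000000000800000001a0000000000080080000200028082400000000080002000000080000004000002000020000000000000000000000120000002001000a104040000800080000000000000000000000000000000010000000000000
set_option linter.all false
open scoped Cfsg.Agent.FastGrp

private theorem Cfsg.Agent.H776.Co.Lin.ext6 {u v : Fin 6 → ZMod 3} (h0 : u 0 = v 0) (h1 : u 1 = v 1) (h2 : u 2 = v 2)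
    (h3 : u 3 = v 3) (h4 : u 4 = v 4) (h5 : u 5 = v 5) : u = v :=
  funext fun i => match i with
    | ⟨0, _⟩ => h0 | ⟨1, _⟩ => h1 | ⟨2, _⟩ => h2 | ⟨3, _⟩ => h3 | ⟨4, _⟩ => h4 | ⟨5, _⟩ => h5
    | ⟨n + 6, h⟩ => absurd h (by omega)

-- part: H395/CoReg
section
/-!
# `Lin.reg` of the project `S5227` (helper395, task 3754)

The centralizer of a regular element `x` of `T` acts on `V / im (x - 1)`, of dimension 2, the kernel is a 3-group.
-/

set_option autoImplicit false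

namespace Cfsg.Agent.H395.CoReg

open Cfsg.Agent.H776.Co.Lin Subgroup

/-! ### the number of Sylow 3-subgroups of `GL_2(3)` -/

abbrev M2 := Matrix (Fin 2) (Fin 2) (ZMod 3)
abbrev GG := GL (Fin 2) (ZMod 3)

theorem eight : (Finset.univ.filter fun M : M2 => M * M * M = 1 ∧ M ≠ 1).card = 8 := by decide +kernel

theorem card_gg : Nat.card GG = 48 := by
  have : Fact (Nat.Prime 3) := ⟨Nat.prime_three⟩
  rw [Matrix.card_GL_field, Fin.prod_univ_two, ZMod.card]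
  norm_num

theorem card_sylow_gg : Nat.card (Sylow 3 GG) ≤ 4 := by
  classical
  have : Fact (Nat.Prime 3) := ⟨Nat.prime_three⟩
  have hfin : Finite GG := Nat.finite_of_card_ne_zero (by rw [card_gg]; norm_num)
  have hP : ∀ P : Sylow 3 GG, Nat.card P = 3 := by
    intro P
    obtain ⟨k, hk⟩ := IsPGroup.iff_card.1 P.isPGroup'
    have h1 : 3 ∣ Nat.card P := P.dvd_card_of_dvd_card (by rw [card_gg]; norm_num)
    have h2 : k < 2 := by
      by_contra hlt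
      have h3 : 3 ^ 2 ∣ Nat.card GG := by
        refine (pow_dvd_pow 3 (show 2 ≤ k by omega)).trans ?_
        rw [← hk]
        exact card_subgroup_dvd_card _
      rw [card_gg] at h3
      norm_num at h3
    have h3 : k ≠ 0 := by
      rintro rfl
      rw [hk] at h1
      norm_num at h1
    rw [hk, show k = 1 by omega, pow_one]
  have hg : ∀ P : Sylow 3 GG, ∃ g : GG, g ∈ P ∧ orderOf g = 3 := by
    intro P
    obtain ⟨⟨g, hg⟩, ho⟩ := exists_prime_orderOf_dvd_card' (G := P) 3 (by rw [hP P])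
    exact ⟨g, hg, (Subgroup.orderOf_mk g hg).symm.trans ho⟩
  choose g hgP ho using hg
  have hz : ∀ P : Sylow 3 GG, zpowers (g P) = (P : Subgroup GG) := by
    intro P
    apply Subgroup.eq_of_le_of_card_ge (zpowers_le.2 (hgP P))
    rw [Nat.card_zpowers, ho]
    exact (hP P).le
  have hmem : ∀ h : GG, orderOf h = 3 → (h : M2) ∈ Finset.univ.filter fun M : M2 => M * M * M = 1 ∧ M ≠ 1 := by
    intro h hh
    rw [Finset.mem_filter]
    refine ⟨Finset.mem_univ _, ?_, ?_⟩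
    · have h1 : h ^ 3 = 1 := orderOf_dvd_iff_pow_eq_one.1 hh.dvd
      have h2 := congrArg (fun x : GG => (x : M2)) h1
      simpa [pow_succ] using h2
    · intro h1
      have h2 : h = 1 := Units.ext h1
      rw [h2, orderOf_one] at hh
      omega
  let f : Sylow 3 GG × Bool → {M : M2 // M ∈ Finset.univ.filter fun M : M2 => M * M * M = 1 ∧ M ≠ 1} := fun p =>
    if p.2 then ⟨(g p.1 : M2), hmem _ (ho _)⟩ else ⟨((g p.1)⁻¹ : GG), hmem _ (by rw [orderOf_inv]; exact ho _)⟩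
  have hf : Function.Injective f := by
    have key : ∀ P : Sylow 3 GG, g P ≠ (g P)⁻¹ := by
      intro P h
      have h1 : (g P) ^ 2 = 1 := by
        rw [pow_two]
        nth_rewrite 2 [h]
        exact mul_inv_cancel _
      have h2 := orderOf_dvd_of_pow_eq_one h1
      rw [ho] at h2
      norm_num at h2
    rintro ⟨P, i⟩ ⟨Q, j⟩ h
    have h1 := congrArg Subtype.val h
    have hval : ∀ (P : Sylow 3 GG) (i : Bool), (f (P, i)).1 = ((if i then g P else (g P)⁻¹ : GG) : M2) := by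
      intro P i
      cases i <;> simp [f]
    rw [hval, hval] at h1
    have h2 : (if i then g P else (g P)⁻¹ : GG) = (if j then g Q else (g Q)⁻¹ : GG) := Units.ext h1
    have hPQ : P = Q := by
      apply Sylow.ext
      rw [← hz P, ← hz Q]
      have h3 : ∀ (P : Sylow 3 GG) (i : Bool), zpowers (if i then g P else (g P)⁻¹ : GG) = zpowers (g P) := by
        intro P i
        cases i <;> simp
      rw [← h3 P i, ← h3 Q j, h2]
    subst hPQ
    have hij : i = j := by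
      cases i <;> cases j <;> simp at h2 ⊢
      · exact key P h2.symm
      · exact key P h2
    rw [hij]
  have h1 := Nat.card_le_card_of_injective f hf
  have h2 : Nat.card {M : M2 // M ∈ Finset.univ.filter fun M : M2 => M * M * M = 1 ∧ M ≠ 1} = 8 := by
    rw [Nat.card_eq_fintype_card, Fintype.card_coe, eight]
  rw [h2, Nat.card_prod, Nat.card_eq_fintype_card (α := Bool), Fintype.card_bool] at h1
  omega

/-! ### the action on `V / im (x - 1)` -/

def ph (a b c : ZMod 3) (v : V) : ZMod 3 := a * v 2 + b * v 3 - (a * b + c) * v 4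
def ps (v : V) : ZMod 3 := v 5

theorem three : (3 : ZMod 3) = 0 := by decide

theorem ph_add (a b c : ZMod 3) (v w : V) : ph a b c (v + w) = ph a b c v + ph a b c w := by
  simp only [ph, Pi.add_apply]; ring

theorem ph_smul (a b c r : ZMod 3) (v : V) : ph a b c (r • v) = r * ph a b c v := by
  simp only [ph, Pi.smul_apply, smul_eq_mul]; ring

theorem gen_ph {R : Type*} [CommRing R] (h3 : (3 : R) = 0) {a b c v2 v3 v4 v5 : R} (hb : b ^ 2 = 1) :
    a * (v2 + 2 * b * v4 + b ^ 2 * v5) + b * (v3 + a * v4 + c * v5) - (a * b + c) * (v4 + b * v5) =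
      a * v2 + b * v3 - (a * b + c) * v4 := by
  linear_combination (a * b * v4) * h3

theorem ph_tf (a b c : ZMod 3) (hb : b ^ 2 = 1) (v : V) : ph a b c (tf a b c v) = ph a b c v :=
  gen_ph three hb

theorem ps_tf (a b c : ZMod 3) (v : V) : ps (tf a b c v) = ps v := by
  simp [ps, tf]

theorem gen {R : Type*} [CommRing R] (h3 : (3 : R) = 0) {a b c v0 v1 v2 v3 v4 w1 w2 w4 w5 : R} (ha : a ^ 2 = 1)
    (hb : b ^ 2 = 1) (h1 : a * v2 + b * v3 - (a * b + c) * v4 = 0) (e5 : w5 = b * v4) (e4 : w4 = a * (v3 - c * w5))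
    (e2 : w2 = a * (v1 - c * w4 - a * b * w4 - b * c * w5))
    (e1 : w1 = 2 * a * (v0 - a ^ 2 * w2 - 2 * a * c * w4 - c ^ 2 * w5)) :
    0 + 2 * a * w1 + 2 * c * 0 + a ^ 2 * w2 + 2 * a * c * w4 + c ^ 2 * w5 = 0 + v0 ∧
    w1 + a * w2 + c * w4 + b * (0 + a * w4 + c * w5) = w1 + v1 ∧
    w2 + 2 * b * w4 + b ^ 2 * w5 = w2 + v2 ∧
    0 + a * w4 + c * w5 = 0 + v3 ∧
    w4 + b * w5 = w4 + v4 := by
  refine ⟨?_, ?_, ?_, ?_, ?_⟩
  · linear_combination (2 * a) * e1 + (4 * (v0 - a ^ 2 * w2 - 2 * a * c * w4 - c ^ 2 * w5)) * ha +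
      (v0 - a ^ 2 * w2 - 2 * a * c * w4 - c ^ 2 * w5) * h3
  · linear_combination a * e2 + (v1 - c * w4 - a * b * w4 - b * c * w5) * ha
  · linear_combination (2 * b) * e4 + (b ^ 2 - 2 * a * b * c) * e5 + (b * v4 - 2 * a * c * v4) * hb - a * h1 +
      (v2 - b * v4) * ha + (a * b * v3 - a * c * v4) * h3
  · linear_combination a * e4 + (v3 - c * w5) * ha
  · linear_combination b * e5 + v4 * hb

/-- the elements killed by the two functionals are in the image of `x - 1` -/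
theorem exists_pre {a b c : ZMod 3} (ha : a ^ 2 = 1) (hb : b ^ 2 = 1) (v : V) (h1 : ph a b c v = 0) (h2 : ps v = 0) :
    ∃ w : V, tf a b c w = w + v := by
  unfold ph at h1
  unfold ps at h2
  obtain ⟨w5, e5⟩ : ∃ w5, w5 = b * v 4 := ⟨_, rfl⟩
  obtain ⟨w4, e4⟩ : ∃ w4, w4 = a * (v 3 - c * w5) := ⟨_, rfl⟩
  obtain ⟨w2, e2⟩ : ∃ w2, w2 = a * (v 1 - c * w4 - a * b * w4 - b * c * w5) := ⟨_, rfl⟩
  obtain ⟨w1, e1⟩ : ∃ w1, w1 = 2 * a * (v 0 - a ^ 2 * w2 - 2 * a * c * w4 - c ^ 2 * w5) := ⟨_, rfl⟩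
  obtain ⟨g0, g1, g2, g3, g4⟩ := gen three ha hb h1 e5 e4 e2 e1
  refine ⟨![0, w1, w2, 0, w4, w5], ?_⟩
  funext i
  fin_cases i
  · exact g0
  · exact g1
  · exact g2
  · exact g3
  · exact g4
  · show w5 = w5 + v 5
    rw [h2, add_zero]

/-! ### the homomorphism -/

section hom

variable {a b c : ZMod 3} {C : Subgroup L}

def u1 (a : ZMod 3) : V := ![0, 0, a, 0, 0, 0]
def u2 : V := ![0, 0, 0, 0, 0, 1]

theorem ph_u1 (ha : a ^ 2 = 1) : ph a b c (u1 a) = 1 := by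
  simp [ph, u1, ← pow_two, ha]

theorem ps_u1 : ps (u1 a) = 0 := by simp [ps, u1]

theorem ph_u2 : ph a b c u2 = 0 := by simp [ph, u2]

theorem ps_u2 : ps u2 = 1 := by simp [ps, u2]

theorem ps_add (v w : V) : ps (v + w) = ps v + ps w := rfl

theorem ps_smul (r : ZMod 3) (v : V) : ps (r • v) = r * ps v := rfl

/-- the elements commuting with `x` preserve the common kernel of the functionals -/
theorem ker_map (ha : a ^ 2 = 1) (hb : b ^ 2 = 1) {g : L} (hg : g * tl a b c = tl a b c * g) {v : V}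
    (h1 : ph a b c v = 0) (h2 : ps v = 0) : ph a b c (g v) = 0 ∧ ps (g v) = 0 := by
  obtain ⟨w, hw⟩ := exists_pre ha hb v h1 h2
  have h3 : g (tf a b c w) = tf a b c (g w) := LinearEquiv.congr_fun hg w
  have h4 : g v + g w = tf a b c (g w) := by
    rw [← h3, hw, map_add, add_comm]
  constructor
  · have h5 := congrArg (ph a b c) h4
    rw [ph_add, ph_tf a b c hb] at h5
    exact add_eq_right.1 h5
  · have h5 := congrArg ps h4
    rw [ps_add, ps_tf] at h5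
    exact add_eq_right.1 h5

/-- the matrix of `g` on the quotient -/
def mat (a b c : ZMod 3) (g : L) : M2 :=
  !![ph a b c (g (u1 a)), ph a b c (g u2); ps (g (u1 a)), ps (g u2)]

theorem mat_spec (ha : a ^ 2 = 1) (hb : b ^ 2 = 1) {g : L} (hg : g * tl a b c = tl a b c * g) (v : V) :
    ph a b c (g v) = ph a b c (g (u1 a)) * ph a b c v + ph a b c (g u2) * ps v ∧
    ps (g v) = ps (g (u1 a)) * ph a b c v + ps (g u2) * ps v := by
  have h1 : ph a b c (v + ((-ph a b c v) • u1 a + (-ps v) • u2)) = 0 := by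
    rw [ph_add, ph_add, ph_smul, ph_smul, ph_u1 ha, ph_u2]; ring
  have h2 : ps (v + ((-ph a b c v) • u1 a + (-ps v) • u2)) = 0 := by
    rw [ps_add, ps_add, ps_smul, ps_smul, ps_u1, ps_u2]; ring
  obtain ⟨h3, h4⟩ := ker_map ha hb hg h1 h2
  rw [map_add, map_add, map_smul, map_smul, ph_add, ph_add, ph_smul, ph_smul] at h3
  rw [map_add, map_add, map_smul, map_smul, ps_add, ps_add, ps_smul, ps_smul] at h4
  constructor
  · linear_combination h3
  · linear_combination h4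

theorem mat_mul (ha : a ^ 2 = 1) (hb : b ^ 2 = 1) {g h : L} (hg : g * tl a b c = tl a b c * g) :
    mat a b c (g * h) = mat a b c g * mat a b c h := by
  have h1 := mat_spec ha hb hg (h (u1 a))
  have h2 := mat_spec ha hb hg (h u2)
  simp only [mat, Matrix.mul_fin_two]
  rw [← h1.1, ← h2.1, ← h1.2, ← h2.2]
  rfl

theorem mat_one (ha : a ^ 2 = 1) : mat a b c 1 = 1 := by
  ext i j
  fin_cases i <;> fin_cases j <;> simp [mat, ph_u1 ha, ph_u2, ps_u1, ps_u2]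

/-- the homomorphism into `GL_2(3)` -/
def rho (ha : a ^ 2 = 1) (hb : b ^ 2 = 1) (hC : ∀ g ∈ C, g * tl a b c = tl a b c * g) : C →* GG where
  toFun g := ⟨mat a b c g, mat a b c (g⁻¹ : C), by
    rw [← mat_mul ha hb (hC _ g.2), ← Subgroup.coe_mul, mul_inv_cancel]; exact mat_one ha, by
    rw [← mat_mul ha hb (hC _ (g⁻¹).2), ← Subgroup.coe_mul, inv_mul_cancel]; exact mat_one ha⟩
  map_one' := Units.ext (mat_one ha)
  map_mul' g h := Units.ext (mat_mul ha hb (hC _ g.2))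

theorem tl_cube_v (a b c : ZMod 3) (v : V) : tf a b c (tf a b c (tf a b c v)) = v := by
  have h3 := three
  rw [tf_tf, tf_tf]
  have : tf (a + a + a) (b + b + b) (c + c + a * b + c + (a + a) * b) v = tf 0 0 0 v := by
    congr 1
    · linear_combination a * h3
    · linear_combination b * h3
    · linear_combination (c + a * b) * h3
  rw [this, tf_zero]

/-- the kernel consists of elements of order 3 -/
theorem cube_of_mat (ha : a ^ 2 = 1) (hb : b ^ 2 = 1) {g : L} (hg : g * tl a b c = tl a b c * g)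
    (h : mat a b c g = 1) : g ^ 3 = 1 := by
  have e11 : ph a b c (g (u1 a)) = 1 := by simpa [mat] using congrFun (congrFun h 0) 0
  have e12 : ph a b c (g u2) = 0 := by simpa [mat] using congrFun (congrFun h 0) 1
  have e21 : ps (g (u1 a)) = 0 := by simpa [mat] using congrFun (congrFun h 1) 0
  have e22 : ps (g u2) = 1 := by simpa [mat] using congrFun (congrFun h 1) 1
  have hc : ∀ v, g (tf a b c v) = tf a b c (g v) := fun v => LinearEquiv.congr_fun hg v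
  -- `g v = v + (x - 1) w`
  have step : ∀ v : V, ∃ w : V, g v = v + (tf a b c w - w) := by
    intro v
    obtain ⟨h1, h2⟩ := mat_spec ha hb hg v
    rw [e11, e12, one_mul, zero_mul, add_zero] at h1
    rw [e21, e22, zero_mul, one_mul, zero_add] at h2
    obtain ⟨w, hw⟩ := exists_pre ha hb (g v + (-1 : ZMod 3) • v)
      (by rw [ph_add, ph_smul, h1]; ring) (by rw [ps_add, ps_smul, h2]; ring)
    refine ⟨w, ?_⟩
    rw [hw, neg_smul, one_smul]
    abel
  have hlin : ∀ v w : V, tf a b c (v - w) = tf a b c v - tf a b c w := fun v w => map_sub (tl a b c) v w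
  have hlin' : ∀ v w : V, tf a b c (v + w) = tf a b c v + tf a b c w := fun v w => map_add (tl a b c) v w
  have h3v : ∀ v : V, v + v + v = 0 := by
    intro v
    funext i
    have := three
    show v i + v i + v i = 0
    linear_combination (v i) * this
  apply LinearEquiv.ext
  intro v
  obtain ⟨w1, hw1⟩ := step v
  obtain ⟨w2, hw2⟩ := step w1
  obtain ⟨w3, hw3⟩ := step w2
  have hx3 := tl_cube_v a b c w3
  set N : V → V := fun v => tf a b c v - v with hN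
  -- `y = N w1`, `g y = y + N N w2`, `g (N N w2) = N N w2 + N N N w3`, `N N N = 0`
  have hgN : ∀ v, g (N v) = N (g v) := by
    intro v
    rw [hN]
    simp only [map_sub, hc]
  have hNadd : ∀ v w, N (v + w) = N v + N w := by
    intro v w
    rw [hN]
    simp only [hlin']
    abel
  have hN3 : ∀ v, N (N (N v)) = 0 := by
    intro v
    rw [hN]
    simp only [hlin]
    rw [tl_cube_v]
    have h5 := h3v (tf a b c (tf a b c v))
    have h6 := h3v (tf a b c v)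
    have h7 : v - tf a b c (tf a b c v) - (tf a b c (tf a b c v) - tf a b c v) - (tf a b c (tf a b c v) - tf a b c v - (tf a b c v - v)) =
      -(tf a b c (tf a b c v) + tf a b c (tf a b c v) + tf a b c (tf a b c v)) + (tf a b c v + tf a b c v + tf a b c v) := by abel
    rw [h7, h5, h6, neg_zero, add_zero]
  have g1 : g v = v + N w1 := hw1
  have g2 : g (N w1) = N w1 + N (N w2) := by rw [hgN, hw2, hNadd]
  have g3 : g (N (N w2)) = N (N w2) := by
    rw [hgN, hgN, hw3, hNadd, hNadd]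
    show N (N w2) + N (N (N w3)) = N (N w2)
    rw [hN3, add_zero]
  show (g ^ 3) v = v
  rw [pow_succ, pow_two]
  show g (g (g v)) = v
  rw [g1, map_add, g1, g2, map_add, map_add, g1, g2, map_add, g2, g3]
  have h5 := h3v (N w1)
  have h6 := h3v (N (N w2))
  calc v + N w1 + (N w1 + N (N w2)) + (N w1 + N (N w2) + N (N w2)) =
      v + (N w1 + N w1 + N w1) + (N (N w2) + N (N w2) + N (N w2)) := by abel
    _ = v := by rw [h5, h6, add_zero, add_zero]

end hom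

theorem sq_eq_one {a : ZMod 3} (h : a ≠ 0) : a ^ 2 = 1 := by
  revert h; revert a; decide

/-- **`Lin.reg`** -/
theorem reg (x : L) (hx : x ∈ T) (h1 : x ∉ U1) (h2 : x ∉ U2) (C : Subgroup L) (hC : ∀ g ∈ C, g * x = x * g)
    (_h3 : 3 ∣ Nat.card C) : Nat.card (Sylow 3 C) = 1 ∨ Nat.card (Sylow 3 C) = 4 := by
  have : Fact (Nat.Prime 3) := ⟨Nat.prime_three⟩
  obtain ⟨a, b, c, rfl⟩ := hx
  have ha0 : a ≠ 0 := by
    rintro rfl
    exact h1 ⟨b, c, rfl⟩
  have hb0 : b ≠ 0 := by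
    rintro rfl
    exact h2 ⟨a, c, rfl⟩
  have ha := sq_eq_one ha0
  have hb := sq_eq_one hb0
  have hfin : Finite GG := Nat.finite_of_card_ne_zero (by rw [card_gg]; norm_num)
  have hfinL : Finite L := Finite.of_injective (fun g : L => (g : V → V)) DFunLike.coe_injective
  have hker : IsPGroup 3 (rho (C := C) ha hb hC).ker := by
    intro g
    refine ⟨1, ?_⟩
    have h3 : mat a b c ((g : C) : L) = 1 := congrArg (fun x : GG => (x : M2)) g.2
    have h4 := cube_of_mat ha hb (hC _ (g : C).2) h3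
    apply Subtype.ext
    apply Subtype.ext
    rw [pow_one]
    exact h4
  have hex : ∀ P : Sylow 3 C, ∃ Q : Sylow 3 GG, Q.comap (rho (C := C) ha hb hC) = P := fun P =>
    P.exists_comap_eq_of_ker_isPGroup hker
  choose q hq using hex
  have hinj : Function.Injective q := by
    intro P P' h
    apply Sylow.ext
    rw [← hq P, ← hq P', h]
  have h4 := (Nat.card_le_card_of_injective q hinj).trans card_sylow_gg
  have h5 := card_sylow_modEq_one 3 C
  have h6 : Nat.card (Sylow 3 C) ≠ 0 := Nat.card_pos.ne'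
  unfold Nat.ModEq at h5
  omega

end Cfsg.Agent.H395.CoReg
end

-- part: H447/Co/K
section
/-!
# S5227: `k ≠ 1` (task `Lin.k_ne_one`)

For `k = 1` the element `w1 x23 w2 x12x23 w1 w2` has order nine, and the exponent of the Sylow 3-subgroup `T` is three.
-/

set_option autoImplicit false
set_option linter.style.longLine false

namespace Cfsg.Agent.H447.Co

open Cfsg.Agent.H776.Co.Lin Subgroup

instance finite_L : Finite L := Finite.of_injective (fun g : L => (g : V → V)) DFunLike.coe_injective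

/-- elements of `T` have order dividing three -/
theorem pow_three_of_mem_T {x : L} (hx : x ∈ T) : x ^ 3 = 1 := by
  obtain ⟨a, b, c, rfl⟩ := hx
  rw [pow_succ, pow_two, tl_mul, tl_mul, ← tl_one]
  congr 1 <;> revert a b c <;> decide

theorem isPGroup_T : IsPGroup 3 T := by
  intro x
  refine ⟨1, ?_⟩
  apply Subtype.ext
  rw [pow_one]
  exact pow_three_of_mem_T x.2

/-- the Sylow 3-subgroup of `G` given by `T` -/
noncomputable def sylT {G : Subgroup L} (hG : Syl G) : Sylow 3 G :=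
  haveI : IsPGroup 3 (T.subgroupOf G) := isPGroup_T.comap_of_injective _ G.subtype_injective
  IsPGroup.toSylow this hG.idx

/-- every 3-element of `G` is conjugate into `T` -/
theorem exists_conj_mem_T {G : Subgroup L} (hG : Syl G) (P : Subgroup L) (hP : P ≤ G) (h3 : IsPGroup 3 P) :
    ∃ g ∈ G, ∀ x ∈ P, g * x * g⁻¹ ∈ T := by
  have h1 : IsPGroup 3 (P.subgroupOf G) := h3.comap_of_injective _ G.subtype_injective
  obtain ⟨S, hS⟩ := h1.exists_le_sylow
  obtain ⟨g, hg⟩ := MulAction.exists_smul_eq G S (sylT hG)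
  refine ⟨g, g.2, fun x hx => ?_⟩
  have h2 : (⟨x, hP hx⟩ : G) ∈ (S : Subgroup G) := hS hx
  have h4 : g * ⟨x, hP hx⟩ * g⁻¹ ∈ ((g • S : Sylow 3 G) : Subgroup G) := ⟨⟨x, hP hx⟩, h2, rfl⟩
  rw [hg] at h4
  exact h4

theorem pow_three {G : Subgroup L} (hG : Syl G) {x : L} (hx : x ∈ G) (h9 : x ^ 9 = 1) : x ^ 3 = 1 := by
  have h1 : IsPGroup 3 (zpowers x) := by
    rw [IsPGroup.iff_card]
    have h2 : orderOf x ∣ 3 ^ 2 := orderOf_dvd_of_pow_eq_one h9
    obtain ⟨k, -, hk⟩ := (Nat.dvd_prime_pow Nat.prime_three).1 h2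
    exact ⟨k, by rw [Nat.card_zpowers, hk]⟩
  obtain ⟨g, -, hg⟩ := exists_conj_mem_T hG (zpowers x) (by rwa [zpowers_le]) h1
  have h2 := pow_three_of_mem_T (hg x (mem_zpowers x))
  rw [conj_pow] at h2
  simpa using h2

/-- the word -/
def xf (v : V) : V := ![v 0 + v 2 + 2 * v 5, 2 * v 0 + 2 * v 2 + 2 * v 3 + v 5, 2 * v 0 + 2 * v 1 + 2 * v 2 + 2 * v 3 + 2 * v 5, 2 * v 0 + 2 * v 1 + 2 * v 2 + v 5, v 0 + v 1 + v 2 + v 3 + v 4 + 2 * v 5, v 0 + 2 * v 1 + 2 * v 2 + 2 * v 5]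
/-- its square -/
def x2f (v : V) : V := ![2 * v 0 + v 2 + 2 * v 3 + 2 * v 5, 2 * v 0 + v 1 + v 3, v 0 + 2 * v 3 + v 5, 2 * v 0 + 2 * v 3, v 0 + 2 * v 3 + v 4, 2 * v 0 + 2 * v 1 + v 2 + 2 * v 3]
/-- its cube -/
def x3f (v : V) : V := ![v 0 + v 1 + 2 * v 3, 2 * v 1 + 2 * v 3, v 2, v 1, 2 * v 1 + v 3 + v 4, v 5]
/-- its sixth power -/
def x6f (v : V) : V := ![v 0 + 2 * v 1 + v 3, v 3, v 2, 2 * v 1 + 2 * v 3, v 1 + 2 * v 3 + v 4, v 5]

theorem word_eq (v : V) : w1f (tf 0 1 0 (w2f 1 (tf 1 1 0 (w1f (w2f 1 v))))) = xf v := by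
  have h3 : (3 : ZMod 3) = 0 := rfl
  refine ext6 ?_ ?_ ?_ ?_ ?_ ?_
  · dsimp only [tf, w1f, w2f, xf, Matrix.cons_val]
    linear_combination ((-1) * v 5) * h3
  · dsimp only [tf, w1f, w2f, xf, Matrix.cons_val]
    linear_combination ((-1) * v 0 + (-1) * v 2 + (-1) * v 3) * h3
  · dsimp only [tf, w1f, w2f, xf, Matrix.cons_val]
    linear_combination ((-1) * v 5) * h3
  · dsimp only [tf, w1f, w2f, xf, Matrix.cons_val]
    linear_combination ((-1) * v 0 + (-1) * v 1 + (-1) * v 2) * h3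
  · dsimp only [tf, w1f, w2f, xf, Matrix.cons_val]
    linear_combination ((-1) * v 5) * h3
  · dsimp only [tf, w1f, w2f, xf, Matrix.cons_val]
    linear_combination ((-1) * v 5) * h3

theorem xf_xf (v : V) : xf (xf v) = x2f v := by
  have h3 : (3 : ZMod 3) = 0 := rfl
  refine ext6 ?_ ?_ ?_ ?_ ?_ ?_
  · dsimp only [xf, x2f, Matrix.cons_val]
    linear_combination (1 * v 0 + 2 * v 1 + 2 * v 2 + 2 * v 5) * h3
  · dsimp only [xf, x2f, Matrix.cons_val]
    linear_combination (3 * v 0 + 3 * v 1 + 4 * v 2 + 1 * v 3 + 4 * v 5) * h3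
  · dsimp only [xf, x2f, Matrix.cons_val]
    linear_combination (5 * v 0 + 4 * v 1 + 6 * v 2 + 2 * v 3 + 5 * v 5) * h3
  · dsimp only [xf, x2f, Matrix.cons_val]
    linear_combination (3 * v 0 + 2 * v 1 + 4 * v 2 + 2 * v 3 + 4 * v 5) * h3
  · dsimp only [xf, x2f, Matrix.cons_val]
    linear_combination (3 * v 0 + 3 * v 1 + 4 * v 2 + 1 * v 3 + 4 * v 5) * h3
  · dsimp only [xf, x2f, Matrix.cons_val]
    linear_combination (3 * v 0 + 2 * v 1 + 4 * v 2 + 2 * v 3 + 4 * v 5) * h3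

theorem x2f_xf (v : V) : x2f (xf v) = x3f v := by
  have h3 : (3 : ZMod 3) = 0 := rfl
  refine ext6 ?_ ?_ ?_ ?_ ?_ ?_
  · dsimp only [xf, x2f, x3f, Matrix.cons_val]
    linear_combination (3 * v 0 + 3 * v 1 + 4 * v 2 + 4 * v 5) * h3
  · dsimp only [xf, x2f, x3f, Matrix.cons_val]
    linear_combination (2 * v 0 + 2 * v 2 + 2 * v 5) * h3
  · dsimp only [xf, x2f, x3f, Matrix.cons_val]
    linear_combination (2 * v 0 + 2 * v 1 + 2 * v 2 + 2 * v 5) * h3
  · dsimp only [xf, x2f, x3f, Matrix.cons_val]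
    linear_combination (2 * v 0 + 1 * v 1 + 2 * v 2 + 2 * v 5) * h3
  · dsimp only [xf, x2f, x3f, Matrix.cons_val]
    linear_combination (2 * v 0 + 1 * v 1 + 2 * v 2 + 2 * v 5) * h3
  · dsimp only [xf, x2f, x3f, Matrix.cons_val]
    linear_combination (4 * v 0 + 2 * v 1 + 4 * v 2 + 2 * v 3 + 3 * v 5) * h3

theorem x3f_x3f (v : V) : x3f (x3f v) = x6f v := by
  have h3 : (3 : ZMod 3) = 0 := rfl
  refine ext6 ?_ ?_ ?_ ?_ ?_ ?_
  · dsimp only [x3f, x6f, Matrix.cons_val]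
    linear_combination (1 * v 1 + 1 * v 3) * h3
  · dsimp only [x3f, x6f, Matrix.cons_val]
    linear_combination (2 * v 1 + 1 * v 3) * h3
  · dsimp only [x3f, x6f, Matrix.cons_val] <;> ring1
  · dsimp only [x3f, x6f, Matrix.cons_val] <;> ring1
  · dsimp only [x3f, x6f, Matrix.cons_val]
    linear_combination (2 * v 1 + 1 * v 3) * h3
  · dsimp only [x3f, x6f, Matrix.cons_val] <;> ring1

theorem x6f_x3f (v : V) : x6f (x3f v) = v := by
  have h3 : (3 : ZMod 3) = 0 := rfl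
  refine ext6 ?_ ?_ ?_ ?_ ?_ ?_
  · dsimp only [x3f, x6f, Matrix.cons_val]
    linear_combination (2 * v 1 + 2 * v 3) * h3
  · dsimp only [x3f, x6f, Matrix.cons_val] <;> ring1
  · dsimp only [x3f, x6f, Matrix.cons_val] <;> ring1
  · dsimp only [x3f, x6f, Matrix.cons_val]
    linear_combination (2 * v 1 + 1 * v 3) * h3
  · dsimp only [x3f, x6f, Matrix.cons_val]
    linear_combination (2 * v 1 + 1 * v 3) * h3
  · dsimp only [x3f, x6f, Matrix.cons_val] <;> ring1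

theorem k_ne_one {G : Subgroup L} (hG : Syl G) (h1 : ∃ g ∈ G, ∀ v, g v = w1f v) {k : ZMod 3}
    (h2 : ∃ g ∈ G, ∀ v, g v = w2f k v) : k ≠ 1 := by
  rintro rfl
  obtain ⟨a, ha, ha'⟩ := h1
  obtain ⟨b, hb, hb'⟩ := h2
  set x : L := a * tl 0 1 0 * b * tl 1 1 0 * a * b with hx
  have ht : ∀ s t u : ZMod 3, tl s t u ∈ G := fun s t u => hG.le ⟨s, t, u, rfl⟩
  have hxG : x ∈ G := mul_mem (mul_mem (mul_mem (mul_mem (mul_mem ha (ht _ _ _)) hb) (ht _ _ _)) ha) hb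
  have e1 : ∀ v, x v = xf v := by
    intro v
    rw [hx]
    simp only [LinearEquiv.mul_apply, tl_apply, ha', hb']
    exact word_eq v
  have e3 : ∀ v, (x ^ 3) v = x3f v := by
    intro v
    rw [pow_succ, pow_two]
    simp only [LinearEquiv.mul_apply, e1]
    rw [xf_xf, x2f_xf]
  have e9 : x ^ 9 = 1 := by
    refine LinearEquiv.ext fun v => ?_
    rw [show (9 : ℕ) = 3 * 3 from rfl, pow_mul, pow_succ, pow_two]
    simp only [LinearEquiv.mul_apply, e3]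
    rw [x3f_x3f, x6f_x3f]
    rfl
  have e : x ^ 3 = 1 := pow_three hG hxG e9
  have h : x3f ![0, 1, 0, 0, 0, 0] = ![0, 1, 0, 0, 0, 0] := by
    rw [← e3, e]
    rfl
  have h' := congrFun h 0
  simp [x3f] at h'

end Cfsg.Agent.H447.Co
end

-- part: H575/Co/ExMax
section
/-!
# S5227, task C1 (`exists_max`): automorphisms of an essential subgroup moving `D` as far as possible (helper575)
-/

set_option autoImplicit false

namespace Cfsg.Agent.H575.Co

open Subgroup Cfsg Cfsg.Agent.H752 Cfsg.Agent.H802 Cfsg.Agent.H744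
open Cfsg.Agent.EvenType.StrongP
open Cfsg.Agent.H184.FusBad (respects mem_respects_of_mapsTo)

/-- A nontrivial `p`-element of `Y` with a conjugate in `Y`. -/
theorem mem_of_conj {X : Type*} [Group X] [Finite X] {p : ℕ} [Fact p.Prime] {Y : Subgroup X} (hY : NormIn p Y)
    {u a : X} (huY : u ∈ Y) (hu : ∃ n : ℕ, u ^ p ^ n = 1) (hu1 : u ≠ 1) (ha : a⁻¹ * u * a ∈ Y) : a ∈ Y := by
  by_contra hnot
  apply hY.inter hnot
  have hzm : u ∈ Y ⊓ Y.map (MulAut.conj a).toMonoidHom := by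
    refine ⟨huY, ⟨a⁻¹ * u * a, ha, ?_⟩⟩
    show a * (a⁻¹ * u * a) * a⁻¹ = u
    group
  obtain ⟨n, hn⟩ := hu
  have hzord : p ∣ orderOf u := by
    obtain ⟨m, -, hm⟩ := (Nat.dvd_prime_pow (Fact.out : p.Prime)).1 (orderOf_dvd_of_pow_eq_one hn)
    cases m with
    | zero =>
      rw [pow_zero, orderOf_eq_one_iff] at hm
      exact absurd hm hu1
    | succ m =>
      rw [hm, pow_succ]
      exact Dvd.intro_left _ rfl
  have hzle : Subgroup.zpowers u ≤ Y ⊓ Y.map (MulAut.conj a).toMonoidHom := by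
    rwa [Subgroup.zpowers_le]
  refine hzord.trans ?_
  rw [← Nat.card_zpowers]
  exact Subgroup.card_dvd_of_le hzle

/-- The abstract form: a proper subgroup `H` containing the `p`-group `W` and the subgroup `St` normalizing a `p`-group
`B` with `B ∩ W ≰ I`, such that nontrivial conjugates of elements of `W` in `H` are conjugates under `H`. -/
theorem abs_strong {X : Type*} [Group X] [Finite X] {p : ℕ} [Fact p.Prime] {I : Subgroup X} [I.Normal]
    {Y : Subgroup (X ⧸ I)} (hY : IsStronglyPEmbedded p Y) {W B St : Subgroup X} (hW : IsPGroup p W)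
    (hB : IsPGroup p B) (hn : ∀ s ∈ St, ∀ x ∈ B, s * x * s⁻¹ ∈ B) {b : X} (hbW : b ∈ W) (hbB : b ∈ B)
    (hbI : b ∉ I) :
    ∃ H : Subgroup X, H ≠ ⊤ ∧ St ≤ H ∧ ∀ w ∈ W, w ∉ I → ∀ a : X, a⁻¹ * w * a ∈ H → a ∈ H := by
  have hNY := normIn hY
  obtain ⟨hdvd, hYt, P, hP⟩ := hY
  have hPY := sylow_le hdvd hP
  set π := QuotientGroup.mk' I with hπ
  have hπ1 : ∀ a : X, π a = 1 ↔ a ∈ I := fun a => QuotientGroup.eq_one_iff a
  -- conjugate so that the image of `W` lies in `Y`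
  obtain ⟨R, hR⟩ := (hW.map π).exists_le_sylow
  obtain ⟨g, hg⟩ := MulAction.exists_smul_eq (X ⧸ I) P R
  set Y' := Y.map (MulAut.conj g).toMonoidHom with hY'
  have hNY' : NormIn p Y' := hNY.conj g
  have hWY : W.map π ≤ Y' := by
    refine hR.trans ?_
    rw [← hg, Sylow.coe_subgroup_smul]
    exact map_mono hPY
  have hYt' : Y' ≠ ⊤ := by
    intro h
    apply hYt
    rw [eq_top_iff]
    intro x _
    have h1 : g * x * g⁻¹ ∈ Y' := by rw [h]; exact mem_top _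
    obtain ⟨y, hy, hyx⟩ := h1
    have h2 : g * y * g⁻¹ = g * x * g⁻¹ := hyx
    have h3 : y = x := mul_left_cancel (mul_right_cancel h2)
    exact h3 ▸ hy
  -- the centre of the image of `B`
  have hbY : π b ∈ Y' := hWY (mem_map_of_mem π hbW)
  have hb1 : π b ≠ 1 := fun h => hbI ((hπ1 b).1 h)
  set Bb := B.map π with hBb
  have hBp : IsPGroup p Bb := hB.map π
  have hbBb : π b ∈ Bb := mem_map_of_mem π hbB
  set Z := Bb ⊓ centralizer (Bb : Set (X ⧸ I)) with hZ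
  have hZp : IsPGroup p Z := hBp.to_le inf_le_left
  have hbz : IsPGroup p (zpowers (π b)) := hBp.to_le (zpowers_le.2 hbBb)
  have hZY : Z ≤ Y' := by
    have h1 := hNY' (zpowers (π b)) hbz (zpowers_le.2 hbY) (by rwa [Ne, zpowers_eq_bot])
    refine le_trans ?_ h1
    refine le_trans ?_ (Subgroup.centralizer_le_normalizer _)
    intro x hx
    rw [mem_centralizer_iff]
    rintro _ ⟨n, rfl⟩
    have h2 : Commute (π b) x := mem_centralizer_iff.1 hx.2 _ hbBb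
    exact (h2.zpow_left n)
  have hZ1 : Z ≠ ⊥ := by
    have : Nontrivial Bb := ⟨⟨⟨π b, hbBb⟩, 1, fun h => hb1 (congrArg Subtype.val h)⟩⟩
    have hcn : Nontrivial (center Bb) := hBp.center_nontrivial
    obtain ⟨z, hz⟩ := exists_ne (1 : center Bb)
    intro h0
    apply hz
    have h1 : ((z : Bb) : X ⧸ I) ∈ Z := by
      refine mem_inf.2 ⟨(z : Bb).2, ?_⟩
      rw [mem_centralizer_iff]
      intro y hy
      have h2 := mem_center_iff.1 z.2 ⟨y, hy⟩
      exact congrArg Subtype.val h2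
    rw [h0, mem_bot] at h1
    exact Subtype.ext (Subtype.ext h1)
  have hNZ := hNY' Z hZp hZY hZ1
  refine ⟨Y'.comap π, ?_, ?_, ?_⟩
  · intro h
    apply hYt'
    rw [← map_comap_eq_self_of_surjective (QuotientGroup.mk'_surjective I) Y', ← hπ, h, ← MonoidHom.range_eq_map,
      MonoidHom.range_eq_top.2 (QuotientGroup.mk'_surjective I)]
  · intro s hs
    rw [mem_comap]
    apply hNZ
    have key : ∀ t ∈ St, ∀ z ∈ Z, π t * z * (π t)⁻¹ ∈ Z := by
      intro t ht z hz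
      have hBt : ∀ r ∈ St, ∀ y ∈ Bb, π r * y * (π r)⁻¹ ∈ Bb := by
        rintro r hr _ ⟨x, hx, rfl⟩
        rw [← map_inv, ← map_mul, ← map_mul]
        exact mem_map_of_mem π (hn r hr x hx)
      refine mem_inf.2 ⟨hBt t ht z hz.1, ?_⟩
      rw [mem_centralizer_iff]
      intro y hy
      have h1 := hBt t⁻¹ (inv_mem ht) y hy
      rw [map_inv, inv_inv] at h1
      have h2 := mem_centralizer_iff.1 hz.2 _ h1
      have h3 : y = π t * ((π t)⁻¹ * y * π t) * (π t)⁻¹ := by group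
      calc y * (π t * z * (π t)⁻¹) = π t * (((π t)⁻¹ * y * π t) * z) * (π t)⁻¹ := by group
        _ = π t * (z * ((π t)⁻¹ * y * π t)) * (π t)⁻¹ := by rw [h2]
        _ = π t * z * (π t)⁻¹ * y := by group
    rw [mem_normalizer_iff]
    intro z
    refine ⟨key s hs z, fun h => ?_⟩
    have h1 := key s⁻¹ (inv_mem hs) _ h
    rw [map_inv, inv_inv] at h1
    have h2 : (π s)⁻¹ * (π s * z * (π s)⁻¹) * π s = z := by group
    rwa [h2] at h1
  · intro w hw hwI a ha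
    rw [mem_comap] at ha ⊢
    rw [map_mul, map_mul, map_inv] at ha
    refine mem_of_conj hNY' (hWY (mem_map_of_mem π hw)) ?_ (fun h => hwI ((hπ1 w).1 h)) ha
    obtain ⟨n, hn⟩ := hW ⟨w, hw⟩
    refine ⟨n, ?_⟩
    rw [← map_pow]
    have h1 : w ^ p ^ n = 1 := congrArg Subtype.val hn
    rw [h1, map_one]

/-- The automorphisms of `Q` stabilizing the chain `1 ≤ D ≤ Q`. -/
def stb {Ω : Type*} [Group Ω] (Q D : Subgroup Ω) : Subgroup (MulAut Q) where
  carrier := {β | (∀ x : Q, ((β x : Q) : Ω) * (x : Ω)⁻¹ ∈ D) ∧ ∀ d : Q, (d : Ω) ∈ D → β d = d}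
  one_mem' := by
    refine ⟨fun x => ?_, fun d _ => rfl⟩
    show (x : Ω) * (x : Ω)⁻¹ ∈ D
    rw [mul_inv_cancel]
    exact D.one_mem
  mul_mem' := by
    rintro a b ⟨ha1, ha2⟩ ⟨hb1, hb2⟩
    refine ⟨fun x => ?_, fun d hd => ?_⟩
    · have h1 := D.mul_mem (ha1 (b x)) (hb1 x)
      have h2 : ((a (b x) : Q) : Ω) * ((b x : Q) : Ω)⁻¹ * (((b x : Q) : Ω) * (x : Ω)⁻¹) =
          ((a (b x) : Q) : Ω) * (x : Ω)⁻¹ := by group
      rw [h2] at h1
      exact h1
    · show a (b d) = d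
      rw [hb2 d hd, ha2 d hd]
  inv_mem' := by
    rintro a ⟨ha1, ha2⟩
    refine ⟨fun x => ?_, fun d hd => ?_⟩
    · have h1 := ha1 (a⁻¹ x)
      have h2 : a (a⁻¹ x) = x := MulEquiv.apply_symm_apply _ _
      rw [h2] at h1
      have h3 := D.inv_mem h1
      rw [mul_inv_rev, inv_inv] at h3
      exact h3
    · have h1 : a⁻¹ (a d) = d := MulEquiv.symm_apply_apply _ _
      rw [ha2 d hd] at h1
      exact h1

theorem stb_isPGroup {Ω : Type*} [Group Ω] {p : ℕ} [Fact p.Prime] {Q D : Subgroup Ω} [Finite Q] (hQ : IsPGroup p Q) :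
    IsPGroup p (stb Q D) := by
  obtain ⟨k, hk⟩ := IsPGroup.iff_card.1 hQ
  rintro ⟨a, ha1, ha2⟩
  refine ⟨k, ?_⟩
  apply Subtype.ext
  show a ^ p ^ k = 1
  apply MulEquiv.ext
  intro x
  show (a ^ p ^ k) x = x
  have hd : a (a x * x⁻¹) = a x * x⁻¹ := ha2 _ (ha1 x)
  have hit : ∀ m : ℕ, (a ^ m) x = (a x * x⁻¹) ^ m * x := by
    intro m
    induction m with
    | zero => simp
    | succ m ih =>
      rw [pow_succ']
      show a ((a ^ m) x) = _
      rw [ih, map_mul, map_pow, hd, pow_succ]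
      group
  rw [hit, ← hk, pow_card_eq_one', one_mul]

theorem exists_max {Ω : Type*} [Group Ω] {S : Subgroup Ω} [Finite S] {p : ℕ} [Fact p.Prime] (hS : IsPGroup p S)
    {F : FusionSystem S} {Q D : Subgroup Ω} (hQ : F.IsEssential p Q) (hD : D ≤ Q)
    (_hDn : ∀ q ∈ Q, ∀ d ∈ D, q * d * q⁻¹ ∈ D) {b : Ω} (hbS : b ∈ S) (hbN : b ∈ normalizer (Q : Set Ω)) (hbQ : b ∉ Q)
    (hb1 : ∀ q ∈ Q, b * q * b⁻¹ * q⁻¹ ∈ D) (hb2 : ∀ d ∈ D, b * d = d * b) :
    ∃ a : Ω → Ω, Mp F Q a ∧ (∀ x ∈ Q, a x ∈ Q) ∧ (∃ d ∈ D, a d ∉ D) ∧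
      (∀ n ∈ S, n ∈ normalizer (Q : Set Ω) → n ∉ Q → ∃ d ∈ D, ∀ d' ∈ D, n * a d * n⁻¹ ≠ a d') ∧
      (∀ n ∈ S, n ∈ normalizer (Q : Set Ω) → n ∉ Q → (∀ d ∈ D, n * d = d * n) →
        ∀ d ∈ D, a d ∉ D → ¬ (n * a d * n⁻¹ * (a d)⁻¹ ∈ D ∧ ∃ d' ∈ D, n * a d * n⁻¹ * (a d)⁻¹ = a d')) := by
  obtain ⟨hc, -, hnorm, E, hE⟩ := hQ
  have hQS : Q ≤ S := hc.1
  have hfin : Finite Q := finite_of_le hQS
  have hQp : IsPGroup p Q := hS.to_le hQS
  set A := F.autGroup Q with hA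
  have hWA : autInducedBy S Q ≤ A := autInducedBy_le_autGroup F hQS
  -- the automorphism induced by an element of `N_S(Q) \ Q`
  have hcj : ∀ n ∈ S, n ∈ normalizer (Q : Set Ω) → n ∉ Q → ∃ τ : A,
      (∀ x : Q, (((τ : MulAut Q) x : Q) : Ω) = n * (x : Ω) * n⁻¹) ∧ τ ∈ (autInducedBy S Q).subgroupOf A ∧
      τ ∉ (Inn Q).subgroupOf A := by
    intro n hnS hn hnQ
    obtain ⟨τ, hτ⟩ := exists_conjAut hn
    have h1 : τ ∈ autInducedBy S Q := (mem_autInducedBy_iff S Q τ).2 ⟨n, hnS, hτ⟩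
    exact ⟨⟨τ, hWA h1⟩, hτ, h1, fun h => hnQ (mem_of_inn hc hnS hτ h)⟩
  obtain ⟨β, hβ, hβW, hβI⟩ := hcj b hbS hbN hbQ
  have hβB : β ∈ (stb Q D).subgroupOf A := by
    refine ⟨fun x => ?_, fun d hd => ?_⟩
    · show (((β : MulAut Q) x : Q) : Ω) * (x : Ω)⁻¹ ∈ D
      rw [hβ x]
      exact hb1 x x.2
    · show (β : MulAut Q) d = d
      apply Subtype.ext
      rw [hβ d, hb2 d hd]
      group
  obtain ⟨H, hHt, hSt, hH⟩ := abs_strong (p := p) hE (W := (autInducedBy S Q).subgroupOf A)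
    (B := (stb Q D).subgroupOf A) (St := (respects Q D).subgroupOf A)
    ((isPGroup_autInducedBy hS Q).comap_of_injective _ (Subgroup.subtype_injective _))
    ((stb_isPGroup hQp).comap_of_injective _ (Subgroup.subtype_injective _)) (by
      rintro s hs x ⟨hx1, hx2⟩
      have hs' : ∀ x : Q, ((x : Ω) ∈ D ↔ (((s : MulAut Q) x : Q) : Ω) ∈ D) := hs
      have hss : ∀ y : Q, (s : MulAut Q) ((s : MulAut Q)⁻¹ y) = y := fun y => MulEquiv.apply_symm_apply _ _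
      refine ⟨fun y => ?_, fun d hd => ?_⟩
      · have h3 := hx1 ((s : MulAut Q)⁻¹ y)
        have h5 := (hs' ((x : MulAut Q) ((s : MulAut Q)⁻¹ y) * ((s : MulAut Q)⁻¹ y)⁻¹)).1 h3
        rw [map_mul, map_inv, hss] at h5
        exact h5
      · show (s : MulAut Q) ((x : MulAut Q) ((s : MulAut Q)⁻¹ d)) = d
        have h3 : (((s : MulAut Q)⁻¹ d : Q) : Ω) ∈ D := by
          rw [hs' ((s : MulAut Q)⁻¹ d), hss]
          exact hd
        have h4 : (x : MulAut Q) ((s : MulAut Q)⁻¹ d) = (s : MulAut Q)⁻¹ d := hx2 _ h3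
        rw [h4, hss]) hβW hβB hβI
  -- choose `a`
  have hne : Nonempty {a : A // a ∉ H} := by
    by_contra h
    rw [not_nonempty_iff] at h
    apply hHt
    rw [eq_top_iff]
    intro a _
    by_contra ha
    exact h.false ⟨a, ha⟩
  obtain ⟨⟨a, haH⟩, hmax⟩ := Finite.exists_max
    (fun a : {a : A // a ∉ H} => Nat.card {x : Q // (x : Ω) ∈ D ∧ (((a.1 : MulAut Q) x : Q) : Ω) ∈ D})
  have hax : ∀ x : Q, ex (fun x => (((a : MulAut Q) x : Q) : Ω)) x = (((a : MulAut Q) x : Q) : Ω) :=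
    fun x => ex_coe _ x
  refine ⟨ex fun x => (((a : MulAut Q) x : Q) : Ω), (mp_iff_autGroup hQS (a : MulAut Q)).1 a.2, ?_, ?_, ?_, ?_⟩
  · intro x hx
    rw [ex_apply _ hx]
    exact ((a : MulAut Q) ⟨x, hx⟩).2
  · by_contra hno
    push Not at hno
    apply haH
    apply hSt
    apply mem_respects_of_mapsTo
    intro x hx
    have h1 := hno x hx
    rwa [hax] at h1
  · intro n hnS hn hnQ
    by_contra hno
    push Not at hno
    obtain ⟨τ, hτ, hτW, hτI⟩ := hcj n hnS hn hnQ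
    apply haH
    apply hH τ hτW hτI a
    apply hSt
    apply mem_respects_of_mapsTo
    intro x hx
    obtain ⟨d', hd', h1⟩ := hno x hx
    rw [hax, ex_apply _ (hD hd')] at h1
    have h2 : (τ : MulAut Q) ((a : MulAut Q) x) = (a : MulAut Q) ⟨d', hD hd'⟩ := by
      apply Subtype.ext
      rw [hτ]
      exact h1
    show (((a : MulAut Q)⁻¹ ((τ : MulAut Q) ((a : MulAut Q) x)) : Q) : Ω) ∈ D
    rw [h2]
    have h3 : (a : MulAut Q)⁻¹ ((a : MulAut Q) ⟨d', hD hd'⟩) = ⟨d', hD hd'⟩ := MulEquiv.symm_apply_apply _ _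
    rw [h3]
    exact hd'
  · rintro n hnS hn hnQ hnD d hd hadD ⟨h1, d', hd', h2⟩
    obtain ⟨τ, hτ, hτW, hτI⟩ := hcj n hnS hn hnQ
    rw [ex_apply _ (hD hd)] at hadD h1 h2
    rw [ex_apply _ (hD hd')] at h2
    -- `c = τ⁻¹`, `a' = a⁻¹ c a`
    have hτi : ∀ x : Q, (τ : MulAut Q)⁻¹ ((τ : MulAut Q) x) = x := fun x => MulEquiv.symm_apply_apply _ _
    have hai : ∀ x : Q, (a : MulAut Q)⁻¹ ((a : MulAut Q) x) = x := fun x => MulEquiv.symm_apply_apply _ _
    have hfixD : ∀ x : Q, (x : Ω) ∈ D → (τ : MulAut Q)⁻¹ x = x := by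
      intro x hx
      have h3 : (τ : MulAut Q) x = x := by
        apply Subtype.ext
        rw [hτ x, hnD x hx]
        group
      calc (τ : MulAut Q)⁻¹ x = (τ : MulAut Q)⁻¹ ((τ : MulAut Q) x) := by rw [h3]
        _ = x := hτi x
    have ha' : a⁻¹ * τ⁻¹ * a ∉ H := by
      intro h
      apply haH
      refine hH τ⁻¹ (inv_mem hτW) (fun h => hτI ?_) a h
      simpa using inv_mem h
    have hval : ∀ x : Q, ((a⁻¹ * τ⁻¹ * a : A) : MulAut Q) x =
        (a : MulAut Q)⁻¹ ((τ : MulAut Q)⁻¹ ((a : MulAut Q) x)) := fun x => rfl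
    have hle := hmax ⟨_, ha'⟩
    -- the injection
    set N0 : Set Q := {x | (x : Ω) ∈ D ∧ (((a : MulAut Q) x : Q) : Ω) ∈ D} with hN0
    set N1 : Set Q := {x | (x : Ω) ∈ D ∧ ((((a⁻¹ * τ⁻¹ * a : A) : MulAut Q) x : Q) : Ω) ∈ D} with hN1
    have hsub : N0 ⊂ N1 := by
      rw [Set.ssubset_iff_of_subset]
      · refine ⟨⟨d, hD hd⟩, ⟨hd, ?_⟩, fun h => hadD h.2⟩
        rw [hval]
        -- `[n, y] = a d' =: c ∈ D`, `τ y = c y`, `τ⁻¹ y = c⁻¹ y`
        have h3 : (τ : MulAut Q) ((a : MulAut Q) ⟨d, hD hd⟩) =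
            (a : MulAut Q) ⟨d', hD hd'⟩ * (a : MulAut Q) ⟨d, hD hd⟩ := by
          apply Subtype.ext
          rw [hτ, Subgroup.coe_mul, ← h2]
          group
        have hcD : (((a : MulAut Q) ⟨d', hD hd'⟩ : Q) : Ω) ∈ D := by rw [← h2]; exact h1
        have h4 : (τ : MulAut Q)⁻¹ ((a : MulAut Q) ⟨d, hD hd⟩) =
            ((a : MulAut Q) ⟨d', hD hd'⟩)⁻¹ * (a : MulAut Q) ⟨d, hD hd⟩ := by
          have h5 := congrArg (fun z => (τ : MulAut Q)⁻¹ z) h3
          simp only [map_mul] at h5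
          rw [hτi, hfixD _ hcD] at h5
          rw [← inv_mul_eq_iff_eq_mul] at h5
          exact h5.symm
        rw [h4, map_mul, map_inv, hai, hai]
        exact mul_mem (inv_mem hd') hd
      · rintro x ⟨hx1, hx2⟩
        refine ⟨hx1, ?_⟩
        rw [hval, hfixD _ hx2, hai]
        exact hx1
    have hlt : Nat.card N0 < Nat.card N1 := Set.ncard_lt_ncard hsub (Set.toFinite _)
    exact absurd hlt (not_lt_of_ge hle)

end Cfsg.Agent.H575.Co
end

-- part: H623/CoLift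
section
/-!
# S5227, task C10: the Weyl elements of `R1` and `R2` (helper623)

`f` = an extension to `R` of the given element of `GF F`; `B = f t f⁻¹ t f` commutes with the involution `t` and agrees with
the Weyl element `w` on `A`; then `B = w ∘ c_s` for some `s ∈ A`.
-/

set_option autoImplicit false
set_option linter.style.longLine false

namespace Cfsg.Agent.H623.CoLift

open Subgroup Cfsg Cfsg.Agent.H752 Cfsg.Agent.H776.Co P

theorem three (x : ZMod 3) : x + x + x = 0 := by revert x; decide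

theorem cent_A {x : P} (h : ∀ y ∈ A, x * y = y * x) : x ∈ A := by
  have h1 := h ⟨0, 0, 0, 0, 0, 0, 0, 0, 1⟩ ⟨rfl, rfl, rfl⟩
  have h2 := h ⟨0, 0, 0, 0, 0, 1, 0, 0, 0⟩ ⟨rfl, rfl, rfl⟩
  have e1 := congrArg P.m12 h2
  have e2 := congrArg P.m23 h1
  have e3 := congrArg P.m13 h1
  simp only [mul_m12, mul_m23, mul_m13] at e1 e2 e3
  exact ⟨by linear_combination e1, by linear_combination e2, by linear_combination e3⟩

theorem conj_A (x : P) {y : P} (hy : y ∈ A) : x * y * x⁻¹ ∈ A := by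
  obtain ⟨h1, h2, h3⟩ := hy
  exact ⟨by simp [h1], by simp [h2], by simp [h1, h2, h3]⟩

theorem comm_A {x y : P} (hx : x ∈ A) (hy : y ∈ A) : x * y = y * x := by
  obtain ⟨h1, h2, h3⟩ := hx
  obtain ⟨h4, h5, h6⟩ := hy
  ext <;> simp only [mul_a, mul_b, mul_c, mul_m11, mul_m12, mul_m22, mul_m13, mul_m23, mul_m33, h1, h2, h3, h4, h5, h6] <;> ring

theorem pow_A {x : P} (hx : x ∈ A) : x * x * x = 1 := by
  obtain ⟨h1, h2, h3⟩ := hx
  ext <;> simp only [mul_a, mul_b, mul_c, mul_m11, mul_m12, mul_m22, mul_m13, mul_m23, mul_m33, h1, h2, h3, one_a, one_b, one_c,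
    one_m11, one_m12, one_m22, one_m13, one_m23, one_m33]
  · ring
  · ring
  · ring
  · linear_combination three x.m11
  · linear_combination three x.m12
  · linear_combination three x.m22
  · linear_combination three x.m13
  · linear_combination three x.m23
  · linear_combination three x.m33

/-- an automorphism of `R ≥ A` trivial on `A` has order dividing three -/
theorem cube {R : Subgroup P} (hR : A ≤ R) {u : MulAut R} (hu : ∀ x : R, (x : P) ∈ A → u x = x) : u * u * u = 1 := by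
  refine MulEquiv.ext fun x => ?_
  obtain ⟨z, hz⟩ : ∃ z : R, z = x⁻¹ * u x := ⟨_, rfl⟩
  have hux : u x = x * z := by rw [hz]; group
  have hzA : (z : P) ∈ A := by
    apply cent_A
    intro y hy
    have hyR : y ∈ R := hR hy
    have h1 : u ⟨y, hyR⟩ = ⟨y, hyR⟩ := hu _ hy
    have h2 : u (x * ⟨y, hyR⟩ * x⁻¹) = x * ⟨y, hyR⟩ * x⁻¹ := hu _ (conj_A _ hy)
    rw [map_mul, map_mul, map_inv, h1, hux] at h2
    have h3 : z * ⟨y, hyR⟩ = ⟨y, hyR⟩ * z := by
      have h4 : x * z * ⟨y, hyR⟩ * (x * z)⁻¹ = x * (z * ⟨y, hyR⟩ * z⁻¹) * x⁻¹ := by group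
      rw [h4] at h2
      have h5 : z * ⟨y, hyR⟩ * z⁻¹ = ⟨y, hyR⟩ := mul_left_cancel (mul_right_cancel h2)
      rw [mul_inv_eq_iff_eq_mul] at h5
      exact h5
    exact congrArg Subtype.val h3
  have huz : u z = z := hu z hzA
  have h1 : (u * u * u) x = x * (z * z * z) := by
    show u (u (u x)) = _
    rw [hux, map_mul, hux, huz, map_mul, map_mul, hux, huz]
    group
  have h2 : z * z * z = 1 := Subtype.ext (pow_A hzA)
  rw [h1, h2, mul_one]
  rfl

theorem exists_comm {F : FusionSystem (⊤ : Subgroup P)} {R : Subgroup P} (hR : A ≤ R) {t f : P → P} (ht : Mp F ⊤ t)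
    (htt : ∀ x, t (t x) = x) (htR : ∀ x ∈ R, t x ∈ R) (htA : ∀ x ∈ A, t x ∈ A) (hf : Mp F R f) (hfR : ∀ x ∈ R, f x ∈ R)
    (hfA : ∀ x ∈ A, f x ∈ A) (hc : ∀ x ∈ A, f (t x) = t (f x)) :
    ∃ B, Mp F R B ∧ (∀ x ∈ R, B x ∈ R) ∧ (∀ x ∈ A, B x = f x) ∧ ∀ x ∈ R, B (t x) = t (B x) := by
  obtain ⟨α, hα, hα'⟩ := hf.exists_aut hfR
  obtain ⟨τ, hτ, hτ'⟩ := (ht.res (R := R) le_top).exists_aut htR
  have hττ : τ * τ = 1 := by
    refine MulEquiv.ext fun x => ?_
    have h1 := hτ' (τ x) (τ x).2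
    have h2 := hτ' x x.2
    have h3 : t (t x) = ((τ (τ x) : R) : P) := by
      conv_lhs => rw [h2]
      exact h1
    rw [htt] at h3
    exact Subtype.ext h3.symm
  obtain ⟨β, hβ⟩ : ∃ β, β = α * τ * α⁻¹ * τ * α := ⟨_, rfl⟩
  have hβm : β ∈ F.autGroup R := by
    rw [hβ]
    exact mul_mem (mul_mem (mul_mem (mul_mem hα hτ) (inv_mem hα)) hτ) hα
  -- on A
  have hατ : ∀ x : R, (x : P) ∈ A → α (τ x) = τ (α x) := by
    intro x hx
    apply Subtype.ext
    rw [← hα' _ (τ x).2, ← hτ' x x.2, ← hτ' _ (α x).2, ← hα' x x.2]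
    exact hc _ hx
  have hβA : ∀ x : R, (x : P) ∈ A → β x = α x := by
    intro x hx
    rw [hβ]
    show α (τ (α⁻¹ (τ (α x)))) = α x
    rw [← hατ x hx]
    have h1 : α⁻¹ (α (τ x)) = τ x := α.symm_apply_apply _
    have h2 : τ (τ x) = x := DFunLike.congr_fun hττ x
    rw [h1, h2]
  have hu3 := cube hR (u := τ * (α * τ * α⁻¹)) (by
    intro x hx
    obtain ⟨y, hy, hyx⟩ := (hf.res hR).surj hfA hx
    have h1 : α ⟨y, hR hy⟩ = x := Subtype.ext (by rw [← hα' y (hR hy), hyx])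
    have h2 : α⁻¹ x = ⟨y, hR hy⟩ := by rw [← h1]; exact α.symm_apply_apply _
    show τ (α (τ (α⁻¹ x))) = x
    rw [h2, hατ _ hy, h1]
    exact DFunLike.congr_fun hττ x)
  have hβτ : β * τ = τ * β := by
    obtain ⟨s, hs⟩ : ∃ s, s = α * τ * α⁻¹ := ⟨_, rfl⟩
    rw [← hs] at hu3
    have hss : s * s = 1 := by
      rw [hs]
      calc α * τ * α⁻¹ * (α * τ * α⁻¹) = α * (τ * τ) * α⁻¹ := by group
        _ = 1 := by rw [hττ]; group
    have hτi : τ⁻¹ = τ := inv_eq_of_mul_eq_one_left hττ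
    have hsi : s⁻¹ = s := inv_eq_of_mul_eq_one_left hss
    have h1 : s * τ * s = τ * s * τ := by
      have h2 : (τ * s * τ) * (s * τ * s) = 1 := by
        calc (τ * s * τ) * (s * τ * s) = τ * s * (τ * s) * (τ * s) := by group
          _ = 1 := hu3
      have h3 := eq_inv_of_mul_eq_one_right h2
      rw [h3, mul_inv_rev, mul_inv_rev, hτi, hsi, mul_assoc]
    have h4 : α * τ = s * α := by rw [hs]; group
    calc β * τ = s * τ * (α * τ) := by rw [hβ, hs]; group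
      _ = s * τ * s * α := by rw [h4]; group
      _ = τ * β := by rw [h1, hβ, hs]; group
  refine ⟨ex fun x => ((β x : R) : P), (mp_iff_autGroup le_top β).1 hβm, ?_, ?_, ?_⟩
  · intro x hx
    rw [ex_apply _ hx]
    exact (β _).2
  · intro x hx
    rw [ex_apply _ (hR hx), hβA _ hx, ← hα' x (hR hx)]
  · intro x hx
    rw [ex_apply _ hx, ex_apply _ (htR x hx), hτ' _ (β _).2]
    have h1 : (⟨t x, htR x hx⟩ : R) = τ ⟨x, hx⟩ := Subtype.ext (hτ' x hx)
    rw [h1]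
    exact congrArg Subtype.val (DFunLike.congr_fun hβτ ⟨x, hx⟩)

/-- maps agreeing on `A` differ by elements of `A` -/
theorem diff_A {R : Subgroup P} (hR : A ≤ R) {B w : P → P} (hB : ∀ x ∈ R, ∀ y ∈ R, B (x * y) = B x * B y)
    (hw : ∀ x ∈ R, ∀ y ∈ R, w (x * y) = w x * w y) (hBw : ∀ x ∈ A, B x = w x) (hws : ∀ y ∈ A, ∃ x ∈ A, w x = y) {x : P}
    (hx : x ∈ R) : (w x)⁻¹ * B x ∈ A := by
  apply cent_A
  intro y hy
  obtain ⟨v, hv, rfl⟩ := hws y hy
  have h1 : x * v * x⁻¹ ∈ A := conj_A x hv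
  have h2 : B (x * v) = B (x * v * x⁻¹) * B x := by
    rw [← hB _ (hR h1) _ hx]; congr 1; group
  have h3 : w (x * v) = w (x * v * x⁻¹) * w x := by
    rw [← hw _ (hR h1) _ hx]; congr 1; group
  rw [hB _ hx _ (hR hv), hBw _ h1, hBw _ hv] at h2
  rw [hw _ hx _ (hR hv)] at h3
  have h4 : w (x * v * x⁻¹) = w x * w v * (w x)⁻¹ := by rw [h3]; group
  rw [h4] at h2
  calc (w x)⁻¹ * B x * w v = (w x)⁻¹ * (B x * w v) := by group
    _ = (w x)⁻¹ * (w x * w v * (w x)⁻¹ * B x) := by rw [h2]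
    _ = w v * ((w x)⁻¹ * B x) := by group

def u12 : P := ⟨1, 0, 0, 0, 0, 0, 0, 0, 0⟩
def u23 : P := ⟨0, 1, 0, 0, 0, 0, 0, 0, 0⟩
def u13 : P := ⟨0, 0, 1, 0, 0, 0, 0, 0, 0⟩

theorem gen_R1 {H : Subgroup P} (hA : A ≤ H) (h23 : u23 ∈ H) (h13 : u13 ∈ H) : R1 ≤ H := by
  intro x (hx : x.a = 0)
  have h0 : ∀ b c : ZMod 3, u23 ^ b.val * u13 ^ c.val = ⟨0, b, c, 0, 0, 0, 0, 0, 0⟩ := by decide +kernel
  have h1 : x = vec (crd x) * (u23 ^ (x.b).val * u13 ^ (x.c).val) := by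
    rw [h0]
    ext <;> simp only [vec, crd, mul_a, mul_b, mul_c, mul_m11, mul_m12, mul_m22, mul_m13, mul_m23, mul_m33, hx,
      Matrix.cons_val, mul_zero, zero_mul, add_zero, zero_add]
  rw [h1]
  exact mul_mem (hA (vec_mem _)) (mul_mem (pow_mem h23 _) (pow_mem h13 _))

theorem gen_R2 {H : Subgroup P} (hA : A ≤ H) (h12 : u12 ∈ H) (h13 : u13 ∈ H) : R2 ≤ H := by
  intro x (hx : x.b = 0)
  have h0 : ∀ a c : ZMod 3, u12 ^ a.val * u13 ^ c.val = ⟨a, 0, c, 0, 0, 0, 0, 0, 0⟩ := by decide +kernel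
  have h1 : x = vec (crd x) * (u12 ^ (x.a).val * u13 ^ (x.c).val) := by
    rw [h0]
    ext <;> simp only [vec, crd, mul_a, mul_b, mul_c, mul_m11, mul_m12, mul_m22, mul_m13, mul_m23, mul_m33, hx,
      Matrix.cons_val, mul_zero, zero_mul, add_zero, zero_add]
  rw [h1]
  exact mul_mem (hA (vec_mem _)) (mul_mem (pow_mem h12 _) (pow_mem h13 _))

theorem cj33_u23 (k : ZMod 3) : (⟨0, 0, 0, 0, 0, 0, 0, 0, k⟩ : P) * u23 * (⟨0, 0, 0, 0, 0, 0, 0, 0, k⟩ : P)⁻¹ =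
    ⟨0, 1, 0, 0, 0, -k, 0, -k, 0⟩ := by
  rw [mul_inv_eq_iff_eq_mul]
  ext <;> simp [u23]

theorem cj33_u13 (k : ZMod 3) : (⟨0, 0, 0, 0, 0, 0, 0, 0, k⟩ : P) * u13 * (⟨0, 0, 0, 0, 0, 0, 0, 0, k⟩ : P)⁻¹ =
    ⟨0, 0, 1, -k, 0, 0, -k, 0, 0⟩ := by
  rw [mul_inv_eq_iff_eq_mul]
  ext <;> simp [u13]

theorem cjA_u12 (x y z : ZMod 3) : (⟨0, 0, 0, 0, 0, x, 0, y, z⟩ : P) * u12 * (⟨0, 0, 0, 0, 0, x, 0, y, z⟩ : P)⁻¹ =
    ⟨1, 0, 0, -x, -x, 0, -y, 0, 0⟩ := by
  rw [mul_inv_eq_iff_eq_mul]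
  ext <;> simp [u12]

theorem cjA_u13 (x y z : ZMod 3) : (⟨0, 0, 0, 0, 0, x, 0, y, z⟩ : P) * u13 * (⟨0, 0, 0, 0, 0, x, 0, y, z⟩ : P)⁻¹ =
    ⟨0, 0, 1, -z, -y, 0, -z, 0, 0⟩ := by
  rw [mul_inv_eq_iff_eq_mul]
  ext <;> simp [u13]

/-- the two equations for `R1` -/
theorem solve1 {X Y : P} (hX : X.a = 0 ∧ X.b = 0 ∧ X.c = -1) (hY : Y.a = 0 ∧ Y.b = 1 ∧ Y.c = 0)
    (h1 : tor 1 (-1) 1 X = X⁻¹) (h2 : tor 1 (-1) 1 Y = Y⁻¹) (h3 : X * Y = Y * X) :
    X = ⟨0, 0, -1, Y.m23, 0, 0, -Y.m23, 0, 0⟩ ∧ Y = ⟨0, 1, 0, 0, 0, Y.m23, 0, Y.m23, 0⟩ := by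
  obtain ⟨xa, xb, xc⟩ := hX
  obtain ⟨ya, yb, yc⟩ := hY
  have e0 := congrArg P.m11 h1
  have e1 := congrArg P.m12 h1
  have e2 := congrArg P.m22 h1
  have e5 := congrArg P.m33 h1
  have f0 := congrArg P.m11 h2
  have f1 := congrArg P.m12 h2
  have f2 := congrArg P.m22 h2
  have f5 := congrArg P.m33 h2
  have g0 := congrArg P.m11 h3
  have g1 := congrArg P.m12 h3
  have g2 := congrArg P.m22 h3
  simp only [tor, inv_m11, inv_m12, inv_m22, inv_m33, mul_m11, mul_m12, mul_m22, xa, xb, xc, ya, yb, yc] at e0 e1 e2 e5 f0 f1 f2 f5 g0 g1 g2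
  have a5 : X.m33 = 0 := by linear_combination three X.m33 - e5
  have a2 : X.m22 = 0 := by linear_combination three X.m22 - e2
  have b5 : Y.m33 = 0 := by linear_combination three Y.m33 - f5
  have b0 : Y.m11 = 0 := by linear_combination three Y.m11 - f0
  have b3 : Y.m13 = 0 := by linear_combination three Y.m13 + g0 - b5
  have b1 : Y.m12 = 0 := by linear_combination three Y.m12 - f1 - b3
  have a4 : X.m23 = 0 := by linear_combination three X.m23 + g2 + a5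
  have a1 : X.m12 = 0 := by linear_combination three X.m12 - e1 + a4
  have a3 : X.m13 = -Y.m23 := by linear_combination -g1
  have a0 : X.m11 = Y.m23 := by linear_combination three X.m11 - e0 + 2 * a3 + a5 - three Y.m23
  have b2 : Y.m22 = Y.m23 := by linear_combination three (Y.m22 - Y.m23) - f2 + b5
  exact ⟨P.ext xa xb xc a0 a1 a2 a3 a4 a5, P.ext ya yb yc b0 b1 b2 b3 rfl b5⟩

/-- the two equations for `R2` -/
theorem solve2 {X Y : P} (hX : X.a = 0 ∧ X.b = 0 ∧ X.c = 1) (hY : Y.a = -1 ∧ Y.b = 0 ∧ Y.c = 0)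
    (h1 : tor (-1) 1 1 X = X⁻¹) (h2 : tor (-1) 1 1 Y = Y⁻¹) (h3 : X * Y = Y * X) :
    X = ⟨0, 0, 1, X.m13, X.m12, 0, X.m13, 0, 0⟩ ∧ Y = ⟨-1, 0, 0, -Y.m12, Y.m12, 0, -X.m12, 0, 0⟩ := by
  obtain ⟨xa, xb, xc⟩ := hX
  obtain ⟨ya, yb, yc⟩ := hY
  have e0 := congrArg P.m11 h1
  have e1 := congrArg P.m12 h1
  have e2 := congrArg P.m22 h1
  have e5 := congrArg P.m33 h1
  have f0 := congrArg P.m11 h2
  have f1 := congrArg P.m12 h2
  have f3 := congrArg P.m13 h2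
  have f5 := congrArg P.m33 h2
  have g0 := congrArg P.m11 h3
  simp only [tor, inv_m11, inv_m12, inv_m22, inv_m13, inv_m33, mul_m11, xa, xb, xc, ya, yb, yc] at e0 e1 e2 e5 f0 f1 f3 f5 g0
  have a5 : X.m33 = 0 := by linear_combination three X.m33 - e5
  have a2 : X.m22 = 0 := by linear_combination three X.m22 - e2
  have a4 : X.m23 = 0 := by linear_combination -e1
  have a0 : X.m11 = X.m13 := by linear_combination three (X.m11 - X.m13) - e0 + a5
  have b5 : Y.m33 = 0 := by linear_combination three Y.m33 - f5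
  have b2 : Y.m22 = 0 := by linear_combination f1
  have b4 : Y.m23 = 0 := by linear_combination f3
  have b0 : Y.m11 = -Y.m12 := by linear_combination three (Y.m11 + Y.m12) - f0 + b2
  have b3 : Y.m13 = -X.m12 := by linear_combination three (Y.m13 + X.m12) - g0 + b5 - a2
  exact ⟨P.ext xa xb xc a0 rfl a2 rfl a4 a5, P.ext ya yb yc b0 rfl b2 b3 b4 b5⟩

theorem B_one {R : Subgroup P} {B : P → P} (hB : ∀ x ∈ R, ∀ y ∈ R, B (x * y) = B x * B y) : B 1 = 1 := by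
  have h := hB 1 (one_mem R) 1 (one_mem R)
  rw [mul_one] at h
  exact left_eq_mul.1 h

theorem B_inv {R : Subgroup P} {B : P → P} (hB : ∀ x ∈ R, ∀ y ∈ R, B (x * y) = B x * B y) {x : P} (hx : x ∈ R) :
    B x⁻¹ = (B x)⁻¹ := by
  have h := hB x hx x⁻¹ (inv_mem hx)
  rw [mul_inv_cancel, B_one hB] at h
  exact (inv_eq_of_mul_eq_one_right h.symm).symm

/-- the subgroup on which two maps agree -/
def eqSub {R : Subgroup P} {B w : P → P} (hB : ∀ x ∈ R, ∀ y ∈ R, B (x * y) = B x * B y)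
    (hw : ∀ x ∈ R, ∀ y ∈ R, w (x * y) = w x * w y) : Subgroup P where
  carrier := {x | x ∈ R ∧ B x = w x}
  mul_mem' := by
    rintro x y ⟨hx, hx'⟩ ⟨hy, hy'⟩
    exact ⟨mul_mem hx hy, by rw [hB _ hx _ hy, hw _ hx _ hy, hx', hy']⟩
  one_mem' := ⟨one_mem R, by rw [B_one hB, B_one hw]⟩
  inv_mem' := by
    rintro x ⟨hx, hx'⟩
    exact ⟨inv_mem hx, by rw [B_inv hB hx, B_inv hw hx, hx']⟩

theorem normal_R1 (s : P) {x : P} (hx : x ∈ R1) : s * x * s⁻¹ ∈ R1 := by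
  have h1 : x.a = 0 := hx
  show (s * x * s⁻¹).a = 0
  simp [h1]

theorem normal_R2 (s : P) {x : P} (hx : x ∈ R2) : s * x * s⁻¹ ∈ R2 := by
  have h1 : x.b = 0 := hx
  show (s * x * s⁻¹).b = 0
  simp [h1]

theorem A_le_R1 : A ≤ R1 := fun _ h => h.1
theorem A_le_R2 : A ≤ R2 := fun _ h => h.2.1

theorem fin1 {B : P → P} (hB : ∀ x ∈ R1, ∀ y ∈ R1, B (x * y) = B x * B y) (hBA : ∀ x ∈ A, B x = w1 x)
    (hBt : ∀ x ∈ R1, B (tor 1 (-1) 1 x) = tor 1 (-1) 1 (B x)) : ∃ s : P, ∀ x ∈ R1, B x = w1 (s * x * s⁻¹) := by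
  have h23 : u23 ∈ R1 := rfl
  have h13 : u13 ∈ R1 := rfl
  have hws : ∀ y ∈ A, ∃ x ∈ A, w1 x = y := by
    rintro y ⟨ya, yb, yc⟩
    refine ⟨⟨0, 0, 0, y.m22, -y.m12, y.m11, y.m23, -y.m13, y.m33⟩, ⟨rfl, rfl, rfl⟩, ?_⟩
    ext <;> simp [w1, ya, yb, yc]
  have d1 := diff_A A_le_R1 hB (fun x hx y hy => w1_mul hx hy) hBA hws h23
  have d2 := diff_A A_le_R1 hB (fun x hx y hy => w1_mul hx hy) hBA hws h13
  obtain ⟨X, hX⟩ : ∃ X, X = B u23 := ⟨_, rfl⟩
  obtain ⟨Y, hY⟩ : ∃ Y, Y = B u13 := ⟨_, rfl⟩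
  rw [← hX] at d1
  rw [← hY] at d2
  have hX' : X.a = 0 ∧ X.b = 0 ∧ X.c = -1 := by
    obtain ⟨c1, c2, c3⟩ := d1
    simp [w1, u23] at c1 c2 c3
    exact ⟨c1, c2, by linear_combination c3⟩
  have hY' : Y.a = 0 ∧ Y.b = 1 ∧ Y.c = 0 := by
    obtain ⟨c1, c2, c3⟩ := d2
    simp [w1, u13] at c1 c2 c3
    exact ⟨c1, by linear_combination c2, by linear_combination c3⟩
  have k1 : tor 1 (-1) 1 X = X⁻¹ := by
    rw [hX, ← hBt _ h23, ← B_inv hB h23]
    congr 1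
  have k2 : tor 1 (-1) 1 Y = Y⁻¹ := by
    rw [hY, ← hBt _ h13, ← B_inv hB h13]
    congr 1
  have k3 : X * Y = Y * X := by
    rw [hX, hY, ← hB _ h23 _ h13, ← hB _ h13 _ h23]
    congr 1
  obtain ⟨r1, r2⟩ := solve1 hX' hY' k1 k2 k3
  obtain ⟨s, hs⟩ : ∃ s : P, s = ⟨0, 0, 0, 0, 0, 0, 0, 0, -Y.m23⟩ := ⟨_, rfl⟩
  have hsA : s ∈ A := by rw [hs]; exact ⟨rfl, rfl, rfl⟩
  have hw : ∀ x ∈ R1, ∀ y ∈ R1, w1 (s * (x * y) * s⁻¹) = w1 (s * x * s⁻¹) * w1 (s * y * s⁻¹) := by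
    intro x hx y hy
    rw [← w1_mul (normal_R1 s hx) (normal_R1 s hy)]
    congr 1
    group
  have key : R1 ≤ eqSub hB (w := fun x => w1 (s * x * s⁻¹)) hw := by
    refine gen_R1 ?_ ?_ ?_
    · intro x hx
      refine ⟨A_le_R1 hx, ?_⟩
      show B x = w1 (s * x * s⁻¹)
      rw [hBA x hx, comm_A hsA hx, mul_inv_cancel_right]
    · refine ⟨h23, ?_⟩
      show B u23 = w1 (s * u23 * s⁻¹)
      rw [hs, cj33_u23, ← hX, r1]
      ext <;> simp [w1]
    · refine ⟨h13, ?_⟩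
      show B u13 = w1 (s * u13 * s⁻¹)
      rw [hs, cj33_u13, ← hY]
      conv_lhs => rw [r2]
      ext <;> simp [w1]
  exact ⟨s, fun x hx => (key hx).2⟩

theorem fin2 {k : ZMod 3} {B : P → P} (hB : ∀ x ∈ R2, ∀ y ∈ R2, B (x * y) = B x * B y) (hBA : ∀ x ∈ A, B x = w2 k x)
    (hBt : ∀ x ∈ R2, B (tor (-1) 1 1 x) = tor (-1) 1 1 (B x)) : ∃ s : P, ∀ x ∈ R2, B x = w2 k (s * x * s⁻¹) := by
  have h12 : u12 ∈ R2 := rfl
  have h13 : u13 ∈ R2 := rfl
  have hws : ∀ y ∈ A, ∃ x ∈ A, w2 k x = y := by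
    rintro y ⟨ya, yb, yc⟩
    refine ⟨⟨0, 0, 0, y.m11 - k * (y.m33 - y.m22), y.m13, y.m33, -y.m12, -y.m23, y.m22⟩, ⟨rfl, rfl, rfl⟩, ?_⟩
    ext <;> simp [w2, ya, yb, yc]
  have d1 := diff_A A_le_R2 hB (fun x hx y hy => w2_mul k hx hy) hBA hws h12
  have d2 := diff_A A_le_R2 hB (fun x hx y hy => w2_mul k hx hy) hBA hws h13
  obtain ⟨X, hX⟩ : ∃ X, X = B u12 := ⟨_, rfl⟩
  obtain ⟨Y, hY⟩ : ∃ Y, Y = B u13 := ⟨_, rfl⟩
  rw [← hX] at d1
  rw [← hY] at d2
  have hX' : X.a = 0 ∧ X.b = 0 ∧ X.c = 1 := by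
    obtain ⟨c1, c2, c3⟩ := d1
    simp [w2, u12] at c1 c2 c3
    exact ⟨c1, c2, by linear_combination c3⟩
  have hY' : Y.a = -1 ∧ Y.b = 0 ∧ Y.c = 0 := by
    obtain ⟨c1, c2, c3⟩ := d2
    simp [w2, u13] at c1 c2 c3
    rw [c2] at c3
    exact ⟨by linear_combination c1, c2, by linear_combination c3⟩
  have k1 : tor (-1) 1 1 X = X⁻¹ := by
    rw [hX, ← hBt _ h12, ← B_inv hB h12]
    congr 1
  have k2 : tor (-1) 1 1 Y = Y⁻¹ := by
    rw [hY, ← hBt _ h13, ← B_inv hB h13]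
    congr 1
  have k3 : X * Y = Y * X := by
    rw [hX, hY, ← hB _ h12 _ h13, ← hB _ h13 _ h12]
    congr 1
  obtain ⟨r1, r2⟩ := solve2 hX' hY' k1 k2 k3
  obtain ⟨s, hs⟩ : ∃ s : P, s = ⟨0, 0, 0, 0, 0, -X.m13, 0, X.m12, Y.m12⟩ := ⟨_, rfl⟩
  have hsA : s ∈ A := by rw [hs]; exact ⟨rfl, rfl, rfl⟩
  have hw : ∀ x ∈ R2, ∀ y ∈ R2, w2 k (s * (x * y) * s⁻¹) = w2 k (s * x * s⁻¹) * w2 k (s * y * s⁻¹) := by
    intro x hx y hy
    rw [← w2_mul k (normal_R2 s hx) (normal_R2 s hy)]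
    congr 1
    group
  have key : R2 ≤ eqSub hB (w := fun x => w2 k (s * x * s⁻¹)) hw := by
    refine gen_R2 ?_ ?_ ?_
    · intro x hx
      refine ⟨A_le_R2 hx, ?_⟩
      show B x = w2 k (s * x * s⁻¹)
      rw [hBA x hx, comm_A hsA hx, mul_inv_cancel_right]
    · refine ⟨h12, ?_⟩
      show B u12 = w2 k (s * u12 * s⁻¹)
      rw [hs, cjA_u12, ← hX]
      conv_lhs => rw [r1]
      ext <;> simp [w2]
    · refine ⟨h13, ?_⟩
      show B u13 = w2 k (s * u13 * s⁻¹)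
      rw [hs, cjA_u13, ← hY]
      conv_lhs => rw [r2]
      ext <;> simp [w2]
  exact ⟨s, fun x hx => (key hx).2⟩

theorem lft_w1 {g : Lin.L} (hgv : ∀ v, g v = Lin.w1f v) {x : P} (hx : x ∈ A) : lft g x = w1 x := by
  obtain ⟨xa, xb, xc⟩ := hx
  ext <;> simp [lft, vec, crd, hgv, Lin.w1f, w1, xa, xb, xc]

theorem norm_w1 {g : Lin.L} (hgv : ∀ v, g v = Lin.w1f v) : ∀ r ∈ R1, g * Lin.tl r.a r.b r.c * g⁻¹ ∈ Lin.T := by
  intro r (hr : r.a = 0)
  refine ⟨0, r.c, -r.b, ?_⟩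
  rw [mul_inv_eq_iff_eq_mul, hr]
  refine LinearEquiv.ext fun v => ?_
  simp only [LinearEquiv.mul_apply, Lin.tl_apply, hgv]
  refine Lin.ext6 ?_ ?_ ?_ ?_ ?_ ?_ <;> dsimp only [Lin.w1f, Lin.tf, Matrix.cons_val] <;> ring1

theorem lft_w2 {k : ZMod 3} {g : Lin.L} (hgv : ∀ v, g v = Lin.w2f k v) {x : P} (hx : x ∈ A) : lft g x = w2 k x := by
  obtain ⟨xa, xb, xc⟩ := hx
  ext <;> simp [lft, vec, crd, hgv, Lin.w2f, w2, xa, xb, xc]

theorem norm_w2 {k : ZMod 3} {g : Lin.L} (hgv : ∀ v, g v = Lin.w2f k v) : ∀ r ∈ R2, g * Lin.tl r.a r.b r.c * g⁻¹ ∈ Lin.T := by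
  intro r (hr : r.b = 0)
  refine ⟨-r.c, 0, r.a, ?_⟩
  rw [mul_inv_eq_iff_eq_mul, hr]
  refine LinearEquiv.ext fun v => ?_
  simp only [LinearEquiv.mul_apply, Lin.tl_apply, hgv]
  refine Lin.ext6 ?_ ?_ ?_ ?_ ?_ ?_ <;> dsimp only [Lin.w2f, Lin.tf, Matrix.cons_val] <;> ring1

theorem lift1_core {F : FusionSystem (⊤ : Subgroup P)} (ht : Mp F ⊤ (tor 1 (-1) 1)) {f : P → P} (hf : Mp F R1 f)
    (hf1 : ∀ x ∈ A, f x = w1 x) : Mp F R1 w1 := by
  have hmul : ∀ x ∈ R1, ∀ y ∈ R1, f (x * y) = f x * f y := fun x hx y hy => hf.mul hx hy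
  have hws : ∀ y ∈ A, ∃ x ∈ A, w1 x = y := by
    rintro y ⟨ya, yb, yc⟩
    refine ⟨⟨0, 0, 0, y.m22, -y.m12, y.m11, y.m23, -y.m13, y.m33⟩, ⟨rfl, rfl, rfl⟩, ?_⟩
    ext <;> simp [w1, ya, yb, yc]
  have hfR1 : ∀ x ∈ R1, f x ∈ R1 := by
    intro x hx
    have h1 := diff_A A_le_R1 hmul (fun x hx y hy => w1_mul hx hy) hf1 hws hx
    have h2 : (w1 x) ∈ R1 := hx
    have h3 := mul_mem h2 (A_le_R1 h1)
    rwa [mul_inv_cancel_left] at h3
  have hfA : ∀ x ∈ A, f x ∈ A := by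
    intro x hx
    rw [hf1 x hx]
    obtain ⟨xa, xb, xc⟩ := hx
    exact ⟨by simp [w1, xa], by simp [w1, xc], by simp [w1, xb]⟩
  obtain ⟨B, hB, -, hBA, hBt⟩ := exists_comm A_le_R1 ht (f := f)
    (by
      intro x
      ext <;> dsimp only [tor] <;> ring1)
    (by
      intro x (hx : x.a = 0)
      show (1 : ZMod 3) * x.a = 0
      rw [hx, mul_zero])
    (by
      rintro x ⟨h1, h2, h3⟩
      exact ⟨by simp [tor, h1], by simp [tor, h2], by simp [tor, h3]⟩)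
    hf hfR1 hfA
    (by
      intro x hx
      have hx' : tor 1 (-1) 1 x ∈ A := by
        obtain ⟨h1, h2, h3⟩ := hx
        exact ⟨by simp [tor, h1], by simp [tor, h2], by simp [tor, h3]⟩
      rw [hf1 _ hx', hf1 x hx]
      ext <;> dsimp only [tor, w1] <;> ring1)
  obtain ⟨s, hs⟩ := fin1 (fun x hx y hy => hB.mul hx hy) (fun x hx => by rw [hBA x hx, hf1 x hx]) hBt
  have h1 : Mp F R1 (fun x => s⁻¹ * x * s⁻¹⁻¹) := mp_conj F le_top (mem_top _)
  refine (h1.comp hB fun x hx => normal_R1 s⁻¹ hx).congr fun x hx => ?_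
  rw [hs _ (normal_R1 s⁻¹ hx)]
  congr 1
  group

theorem lift2_core {F : FusionSystem (⊤ : Subgroup P)} (ht : Mp F ⊤ (tor (-1) 1 1)) {k : ZMod 3} {f : P → P}
    (hf : Mp F R2 f) (hf1 : ∀ x ∈ A, f x = w2 k x) : Mp F R2 (w2 k) := by
  have hmul : ∀ x ∈ R2, ∀ y ∈ R2, f (x * y) = f x * f y := fun x hx y hy => hf.mul hx hy
  have hws : ∀ y ∈ A, ∃ x ∈ A, w2 k x = y := by
    rintro y ⟨ya, yb, yc⟩
    refine ⟨⟨0, 0, 0, y.m11 - k * (y.m33 - y.m22), y.m13, y.m33, -y.m12, -y.m23, y.m22⟩, ⟨rfl, rfl, rfl⟩, ?_⟩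
    ext <;> simp [w2, ya, yb, yc]
  have hfR1 : ∀ x ∈ R2, f x ∈ R2 := by
    intro x hx
    have h1 := diff_A A_le_R2 hmul (fun x hx y hy => w2_mul k hx hy) hf1 hws hx
    have h2 : (w2 k x) ∈ R2 := hx
    have h3 := mul_mem h2 (A_le_R2 h1)
    rwa [mul_inv_cancel_left] at h3
  have hfA : ∀ x ∈ A, f x ∈ A := by
    intro x hx
    rw [hf1 x hx]
    obtain ⟨xa, xb, xc⟩ := hx
    exact ⟨by simp [w2, xc], by simp [w2, xb], by simp [w2, xa]⟩
  obtain ⟨B, hB, -, hBA, hBt⟩ := exists_comm A_le_R2 ht (f := f)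
    (by
      intro x
      ext <;> dsimp only [tor] <;> ring1)
    (by
      intro x (hx : x.b = 0)
      show (1 : ZMod 3) * x.b = 0
      rw [hx, mul_zero])
    (by
      rintro x ⟨h1, h2, h3⟩
      exact ⟨by simp [tor, h1], by simp [tor, h2], by simp [tor, h3]⟩)
    hf hfR1 hfA
    (by
      intro x hx
      have hx' : tor (-1) 1 1 x ∈ A := by
        obtain ⟨h1, h2, h3⟩ := hx
        exact ⟨by simp [tor, h1], by simp [tor, h2], by simp [tor, h3]⟩
      rw [hf1 _ hx', hf1 x hx]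
      ext <;> dsimp only [tor, w2] <;> ring1)
  obtain ⟨s, hs⟩ := fin2 (fun x hx y hy => hB.mul hx hy) (fun x hx => by rw [hBA x hx, hf1 x hx]) hBt
  have h1 : Mp F R2 (fun x => s⁻¹ * x * s⁻¹⁻¹) := mp_conj F le_top (mem_top _)
  refine (h1.comp hB fun x hx => normal_R2 s⁻¹ hx).congr fun x hx => ?_
  rw [hs _ (normal_R2 s⁻¹ hx)]
  congr 1
  group

end Cfsg.Agent.H623.CoLift
end

-- part: H623/CoLiftFin
section
/-!
# S5227, task C10: `lift1`, `lift2` (helper623)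

`ext_GF` (also task C9) is proved here as well.
-/

set_option autoImplicit false
set_option linter.style.longLine false

namespace Cfsg.Agent.H623.CoLift

open Subgroup Cfsg Cfsg.Agent.H752 Cfsg.Agent.H776.Co P Cfsg.FusionSystem

theorem normalizerIn_A : normalizerIn (⊤ : Subgroup P) A = ⊤ := by
  refine eq_top_iff.2 fun x _ => ⟨mem_top x, ?_⟩
  refine mem_normalizer_iff.2 ?_
  intro y
  refine ⟨fun hy => conj_A x hy, fun hy => ?_⟩
  have := conj_A x⁻¹ hy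
  have h1 : x⁻¹ * (x * y * x⁻¹) * x⁻¹⁻¹ = y := by group
  rwa [h1] at this

theorem receptive_A {F : FusionSystem (⊤ : Subgroup P)} (hF : F.IsSaturated 3) : F.IsReceptive A := by
  have : Fact (Nat.Prime 3) := ⟨Nat.prime_three⟩
  refine Cfsg.Agent.H802.isReceptive_of_isFullyNormalized (isPGroup_P.to_subgroup ⊤) hF ⟨le_top, fun Q _ => ?_⟩
  rw [normalizerIn_A]
  exact Subgroup.card_le_of_le le_top

theorem ext_GF {F : FusionSystem (⊤ : Subgroup P)} (hF : F.IsSaturated 3) {g : Lin.L} (hg : g ∈ GF F) {R : Subgroup P} (hR : A ≤ R)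
    (hn : ∀ r ∈ R, g * Lin.tl r.a r.b r.c * g⁻¹ ∈ Lin.T) :
    ∃ f, Mp F R f ∧ (∀ x ∈ A, f x = lft g x) ∧ ∀ r ∈ R, Lin.tl (f r).a (f r).b (f r).c = g * Lin.tl r.a r.b r.c * g⁻¹ := by
  obtain ⟨φ, hφ, h1⟩ := hg
  have hr : φ.range = A := Cfsg.Agent.H802.range_eq_of_mapsTo hφ fun x => by rw [h1 x x.2]; exact lft_mem _ _
  obtain ⟨ψ, hψ, h2⟩ := (receptive_A hF).2 A φ hφ hr
  have hle : R ≤ extender ⊤ A φ := by
    intro r hrR
    refine Subgroup.subset_closure ⟨mem_top r, ?_, ?_⟩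
    · have : r ∈ normalizerIn (⊤ : Subgroup P) A := by rw [normalizerIn_A]; exact mem_top r
      exact this.2
    · obtain ⟨a, b, c, habc⟩ := hn r hrR
      refine ⟨⟨a, b, c, 0, 0, 0, 0, 0, 0⟩, mem_top _, fun x hx => ?_⟩
      rw [h1 _ hx, h1 x x.2]
      obtain ⟨v, hv⟩ : ∃ v, (x : P) = vec v := ⟨crd x, (vec_crd x.2).symm⟩
      rw [hv, conj_vec, lft_vec, lft_vec, conj_vec]
      congr 1
      have h3 : g * Lin.tl r.a r.b r.c = Lin.tl a b c * g := by rw [← habc]; group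
      exact LinearEquiv.congr_fun h3 v
  have hf : Mp F R (ex ψ) := (mp_ex hψ).res hle
  have hfA : ∀ x ∈ A, ex ψ x = lft g x := by
    intro x hx
    rw [ex_apply _ (hle (hR hx)), h2 x hx, h1 x hx]
  refine ⟨ex ψ, hf, hfA, fun r hrR => ?_⟩
  rw [eq_mul_inv_iff_mul_eq]
  refine LinearEquiv.ext fun v => ?_
  have h3 : ex ψ (r * vec v) = ex ψ (r * vec v * r⁻¹) * ex ψ r := by
    rw [← hf.mul (hR (conj_A r (vec_mem v))) hrR, inv_mul_cancel_right]
  rw [hf.mul hrR (hR (vec_mem v)), conj_vec, hfA _ (vec_mem _), hfA _ (vec_mem _), lft_vec, lft_vec,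
    ← mul_inv_eq_iff_eq_mul, conj_vec] at h3
  exact vec_injective h3

theorem lift1 {F : FusionSystem (⊤ : Subgroup P)} (hF : F.IsSaturated 3) (ht : Mp F ⊤ (tor 1 (-1) 1))
    (hw : ∃ g ∈ GF F, ∀ v, g v = Lin.w1f v) : Mp F R1 w1 := by
  obtain ⟨g, hg, hgv⟩ := hw
  obtain ⟨f, hf, hfA, -⟩ := ext_GF hF hg A_le_R1 (norm_w1 hgv)
  exact lift1_core ht hf fun x hx => by rw [hfA x hx, lft_w1 hgv hx]

theorem lift2 {F : FusionSystem (⊤ : Subgroup P)} (hF : F.IsSaturated 3) (ht : Mp F ⊤ (tor (-1) 1 1)) {k : ZMod 3}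
    (hw : ∃ g ∈ GF F, ∀ v, g v = Lin.w2f k v) : Mp F R2 (w2 k) := by
  obtain ⟨g, hg, hgv⟩ := hw
  obtain ⟨f, hf, hfA, -⟩ := ext_GF hF hg A_le_R2 (norm_w2 hgv)
  exact lift2_core ht hf fun x hx => by rw [hfA x hx, lft_w2 hgv hx]

end Cfsg.Agent.H623.CoLift
end

-- part: H615/Co1/Reg
section
/-!
# Automorphisms of `A⟨t⟩`, `t` regular (S5227, task 3770; helper615)
-/

set_option autoImplicit false
set_option linter.style.longLine false

namespace Cfsg.Agent.H615.Co1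

open Subgroup Cfsg Cfsg.Agent.H752 Cfsg.Agent.H776.Co P
open Cfsg.Agent.H975.Co1 (mem_of_A exists_GF ext_GF)

theorem tl_injective {a b c a' b' c' : ZMod 3} (h : Lin.tl a b c = Lin.tl a' b' c') : a = a' ∧ b = b' ∧ c = c' := by
  have e1 := congrArg (fun g : Lin.L => g ![0, 0, 0, 0, 1, 0]) h
  have e2 := congrArg (fun g : Lin.L => g ![0, 0, 0, 0, 0, 1]) h
  have f1 := congrFun e1 3
  have f2 := congrFun e2 3
  have f3 := congrFun e2 4
  simp [Lin.tf] at f1 f2 f3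
  exact ⟨f1, f3, f2⟩

theorem sq_eq_one2 {a : ZMod 3} (h : a ≠ 0) : a * a = 1 := by
  revert a
  decide

/-- the cohomological computation: `ker (1 + s + s²) = im (1 - s)` -/
theorem exists_coboundary {a b c : ZMod 3} (ha : a ≠ 0) (hb : b ≠ 0) {d : Lin.V}
    (h : d + Lin.tf a b c d + Lin.tf a b c (Lin.tf a b c d) = 0) : ∃ e : Lin.V, d = e - Lin.tf a b c e := by
  have h30 : (3 : ZMod 3) = 0 := rfl
  have ha' : a * a = 1 := sq_eq_one2 ha
  have hb' : b * b = 1 := sq_eq_one2 hb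
  have e3 : d 3 + (d 3 + a * d 4 + c * d 5) + ((d 3 + a * d 4 + c * d 5) + a * (d 4 + b * d 5) + c * d 5) = 0 := congrFun h 3
  have e0 : d 0 + (d 0 + 2 * a * d 1 + 2 * c * d 3 + a ^ 2 * d 2 + 2 * a * c * d 4 + c ^ 2 * d 5) +
      (d 0 + 2 * a * d 1 + 2 * c * d 3 + a ^ 2 * d 2 + 2 * a * c * d 4 + c ^ 2 * d 5 +
        2 * a * (d 1 + a * d 2 + c * d 4 + b * (d 3 + a * d 4 + c * d 5)) + 2 * c * (d 3 + a * d 4 + c * d 5) +
        a ^ 2 * (d 2 + 2 * b * d 4 + b ^ 2 * d 5) + 2 * a * c * (d 4 + b * d 5) + c ^ 2 * d 5) = 0 := congrFun h 0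
  have k5 : d 5 = 0 := by
    have e3' : a * b * d 5 = 0 := by linear_combination e3 - (d 3 + a * d 4 + c * d 5) * h30
    linear_combination a * b * e3' - a * a * d 5 * hb' - d 5 * ha'
  rw [k5] at e0
  have hR : d 2 + a * b * d 3 - (a * c + b) * d 4 = 0 := by
    linear_combination 2 * e0 + (-10 * d 2 - 8 * b * d 4) * ha' +
      (-3 * d 2 - a * b * d 3 - 7 * a * c * d 4 - 3 * b * d 4 - 2 * (d 0 + 2 * a * d 1 + 2 * c * d 3)) * h30
  obtain ⟨w5, hw5⟩ : ∃ w5, w5 = -b * d 4 := ⟨_, rfl⟩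
  obtain ⟨w4, hw4⟩ : ∃ w4, w4 = a * (-d 3 - c * w5) := ⟨_, rfl⟩
  obtain ⟨w2, hw2⟩ : ∃ w2, w2 = a * (-d 1 - c * w4 - a * b * w4 - b * c * w5) := ⟨_, rfl⟩
  obtain ⟨w1, hw1⟩ : ∃ w1, w1 = 2 * a * (-d 0 - a ^ 2 * w2 - 2 * a * c * w4 - c ^ 2 * w5) := ⟨_, rfl⟩
  refine ⟨![0, w1, w2, 0, w4, w5], ?_⟩
  refine Lin.ext6 ?_ ?_ ?_ ?_ ?_ ?_ <;> dsimp only [Pi.sub_apply, Lin.tf, Matrix.cons_val]
  · linear_combination (2 * a) * hw1 + (4 * (-d 0 - a ^ 2 * w2 - 2 * a * c * w4 - c ^ 2 * w5)) * ha' + (-d 0 - a ^ 2 * w2 - 2 * a * c * w4 - c ^ 2 * w5) * h30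
  · linear_combination a * hw2 + (-d 1 - c * w4 - a * b * w4 - b * c * w5) * ha'
  · linear_combination hR + (2 * b) * hw4 + (b ^ 2 - 2 * b * a * c) * hw5 + ((2 * a * c - b) * d 4) * hb' + (-a * b * d 3 + a * c * d 4) * h30
  · linear_combination a * hw4 + (-d 3 - c * w5) * ha'
  · linear_combination b * hw5 - d 4 * hb'
  · linear_combination k5

theorem cube_mem (t : P) : t ^ 3 ∈ A := by
  have h30 : (3 : ZMod 3) = 0 := rfl
  rw [pow_succ, pow_two, mem_A]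
  refine ⟨?_, ?_, ?_⟩
  · simp only [mul_a]
    linear_combination t.a * h30
  · simp only [mul_b]
    linear_combination t.b * h30
  · simp only [mul_a, mul_c]
    linear_combination (t.c + t.a * t.b) * h30

theorem cube_mul (s : P) (d : Lin.V) :
    (vec d * s) ^ 3 = vec (d + Lin.tf s.a s.b s.c d + Lin.tf s.a s.b s.c (Lin.tf s.a s.b s.c d)) * s ^ 3 := by
  rw [vec_add, vec_add, ← conj_vec s d, ← conj_vec s (Lin.tf s.a s.b s.c d), ← conj_vec s d]
  simp only [pow_succ, pow_zero, one_mul]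
  group

/-- `A⟨t⟩` is contained in the set of elements whose image in `T` is a power of the image of `t` -/
theorem mem_sup {t x : P} (hx : x ∈ A ⊔ zpowers t) : ∃ k : ZMod 3, x.a = k * t.a ∧ x.b = k * t.b ∧ x.c = k * t.c + (k - k ^ 2) * (t.a * t.b) := by
  have h30 : (3 : ZMod 3) = 0 := rfl
  let K : Subgroup P :=
    { carrier := {x | ∃ k : ZMod 3, x.a = k * t.a ∧ x.b = k * t.b ∧ x.c = k * t.c + (k - k ^ 2) * (t.a * t.b)}
      mul_mem' := by
        rintro x y ⟨k, h1, h2, h3⟩ ⟨l, h4, h5, h6⟩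
        refine ⟨k + l, ?_, ?_, ?_⟩
        · rw [mul_a, h1, h4]; ring
        · rw [mul_b, h2, h5]; ring
        · rw [mul_c, h3, h6, h1, h5]
          linear_combination (k * l * t.a * t.b) * h30
      one_mem' := ⟨0, by simp, by simp, by simp⟩
      inv_mem' := by
        rintro x ⟨k, h1, h2, h3⟩
        refine ⟨-k, ?_, ?_, ?_⟩
        · rw [inv_a, h1]; ring
        · rw [inv_b, h2]; ring
        · rw [inv_c, h3, h1, h2]
          linear_combination (k ^ 2 * t.a * t.b) * h30 }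
  have hle : A ⊔ zpowers t ≤ K := by
    refine sup_le ?_ ?_
    · rintro y ⟨h1, h2, h3⟩
      exact ⟨0, by simp [h1], by simp [h2], by simp [h3]⟩
    · rw [zpowers_le]
      exact ⟨1, by ring, by ring, by ring⟩
  exact hle hx

/-- the images in `T` -/
theorem conj_tl {F : FusionSystem (⊤ : Subgroup P)} {R : Subgroup P} {f : P → P} (hR : A ≤ R) (hf : Mp F R f) {g : Lin.L}
    (hg : ∀ x ∈ A, f x = lft g x) {r : P} (hr : r ∈ R) :
    g * Lin.tl r.a r.b r.c * g⁻¹ = Lin.tl (f r).a (f r).b (f r).c := by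
  rw [mul_inv_eq_iff_eq_mul]
  apply LinearEquiv.ext
  intro v
  show g (Lin.tf r.a r.b r.c v) = Lin.tf (f r).a (f r).b (f r).c (g v)
  apply vec_injective
  rw [← conj_vec (f r), ← lft_vec, ← lft_vec, ← hg _ (vec_mem _), ← hg _ (vec_mem v), ← hf.inv hr,
    ← hf.mul hr (hR (vec_mem v)), ← hf.mul (R.mul_mem hr (hR (vec_mem v))) (R.inv_mem hr), conj_vec]

theorem agree_on_sup {f f' : P → P} {F F' : FusionSystem (⊤ : Subgroup P)} {B : Subgroup P} {t : P} (hf : Mp F (B ⊔ zpowers t) f)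
    (hf' : Mp F' (B ⊔ zpowers t) f') (h1 : ∀ x ∈ B, f x = f' x) (h2 : f t = f' t) : ∀ x ∈ B ⊔ zpowers t, f x = f' x := by
  intro x hx
  have hB : B ≤ B ⊔ zpowers t := le_sup_left
  have hT : zpowers t ≤ B ⊔ zpowers t := le_sup_right
  let K : Subgroup P :=
    { carrier := {x | x ∈ B ⊔ zpowers t ∧ f x = f' x}
      mul_mem' := by
        rintro x y ⟨hx, h3⟩ ⟨hy, h4⟩
        exact ⟨mul_mem hx hy, by rw [hf.mul hx hy, hf'.mul hx hy, h3, h4]⟩
      one_mem' := ⟨one_mem _, by rw [hf.one, hf'.one]⟩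
      inv_mem' := by
        rintro x ⟨hx, h3⟩
        exact ⟨inv_mem hx, by rw [hf.inv hx, hf'.inv hx, h3]⟩ }
  have hle : B ⊔ zpowers t ≤ K := by
    refine sup_le (fun y hy => ⟨hB hy, h1 y hy⟩) ?_
    rw [zpowers_le]
    exact ⟨hT (mem_zpowers t), h2⟩
  exact (hle hx).2

/-- C11: the automorphisms of `A⟨t⟩`, `t` regular, are determined by `GF` -/
theorem auts_reg {F F' : FusionSystem (⊤ : Subgroup P)} (_hF : F.IsSaturated 3) (hF' : F'.IsSaturated 3) (hG : GF F ≤ GF F')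
    {t : P} (ha : t.a ≠ 0) (hb : t.b ≠ 0) :
    ∀ f, Mp F (A ⊔ zpowers t) f → (∀ x ∈ A ⊔ zpowers t, f x ∈ A ⊔ zpowers t) → Mp F' (A ⊔ zpowers t) f := by
  intro f hf hfQ
  have hA : A ≤ A ⊔ zpowers t := le_sup_left
  have htQ : t ∈ A ⊔ zpowers t := le_sup_right (a := A) (mem_zpowers t)
  obtain ⟨g, hg, hgf⟩ := exists_GF hA hf
  obtain ⟨f', hf', hf'A, hf'T⟩ := ext_GF hF' (hG hg) hA (fun r hr => by
    rw [conj_tl hA hf hgf hr]
    exact ⟨_, _, _, rfl⟩)
  -- `f t` and `f' t` have the same image in `T`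
  have hft := hf'T t htQ
  rw [conj_tl hA hf hgf htQ] at hft
  obtain ⟨ea, eb, ec⟩ := tl_injective hft
  -- this image is regular
  obtain ⟨k, ka, kb, kc⟩ := mem_sup (hfQ t htQ)
  have hk : k ≠ 0 := by
    rintro rfl
    have h1 := conj_tl hA hf hgf htQ
    rw [ka, kb, kc] at h1
    simp only [zero_mul, zero_add, ne_eq, OfNat.ofNat_ne_zero, not_false_eq_true, zero_pow, sub_self] at h1
    rw [Lin.tl_one, mul_inv_eq_one, mul_eq_left, ← Lin.tl_one] at h1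
    exact ha (tl_injective h1).1
  have hsa : (f' t).a ≠ 0 := by rw [ea, ka]; exact mul_ne_zero hk ha
  have hsb : (f' t).b ≠ 0 := by rw [eb, kb]; exact mul_ne_zero hk hb
  -- the difference
  have hdA : f t * (f' t)⁻¹ ∈ A := ⟨by simp [ea], by simp [eb], by simp [ea, eb, ec]⟩
  set d := crd (f t * (f' t)⁻¹) with hd
  have hd1 : f t = vec d * f' t := by rw [hd, vec_crd hdA, inv_mul_cancel_right]
  have hcube : f (t ^ 3) = f' (t ^ 3) := by rw [hgf _ (cube_mem t), hf'A _ (cube_mem t)]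
  rw [hf.pow htQ, hf'.pow htQ, hd1, cube_mul, mul_eq_right, ← vec_zero, vec_injective.eq_iff] at hcube
  obtain ⟨e, he⟩ := exists_coboundary hsa hsb hcube
  have hm : Mp F' (A ⊔ zpowers t) (fun x => vec e * f' x * (vec e)⁻¹) :=
    hf'.comp (mp_conj F' le_top (mem_top (vec e))) (fun x _ => mem_top _)
  refine hm.congr (agree_on_sup hf hm ?_ ?_)
  · intro x hx
    rw [hgf x hx, ← hf'A x hx]
    have h1 : f' x ∈ A := by rw [hf'A x hx]; exact lft_mem g x
    rw [eq_mul_inv_iff_mul_eq, ← vec_crd h1, ← vec_add, ← vec_add, add_comm]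
  · rw [hd1, he, sub_eq_add_neg, vec_add]
    have h1 : vec (-Lin.tf (f' t).a (f' t).b (f' t).c e) = f' t * (vec e)⁻¹ * (f' t)⁻¹ := by
      have h2 : vec (Lin.tf (f' t).a (f' t).b (f' t).c e) * vec (-Lin.tf (f' t).a (f' t).b (f' t).c e) = 1 := by
        rw [← vec_add, add_neg_cancel, vec_zero]
      rw [← inv_eq_of_mul_eq_one_right h2, ← conj_vec]
      group
    rw [h1]
    group

end Cfsg.Agent.H615.Co1
end

-- part: H615/Co1/Ess
section
/-!
# Essential subgroups containing `A` (S5227, task 3770; helper615)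
-/

set_option autoImplicit false
set_option linter.style.longLine false

namespace Cfsg.Agent.H615.Co1

open Subgroup Cfsg Cfsg.Agent.H752 Cfsg.Agent.H776.Co P
open Cfsg.Agent.H975.Co1 (mem_of_A exists_GF ext_GF)

/-- An element of `S` inducing on an essential subgroup an automorphism that stabilizes a chain of invariant subgroups. -/
theorem mem_of_chain' {Ω : Type*} [Group Ω] {S : Subgroup Ω} [Finite S] {p : ℕ} [Fact p.Prime] (hS : IsPGroup p S)
    {F : FusionSystem S} {E : Subgroup Ω} (hE : F.IsEssential p E) (n : ℕ) (c : ℕ → Subgroup Ω)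
    (h0 : c 0 = E) (hn : c n = ⊥)
    (hinv : ∀ f : Ω → Ω, Mp F E f → (∀ x ∈ E, f x ∈ E) → ∀ i ≤ n, ∀ x ∈ c i, f x ∈ c i)
    {g : Ω} (hg : g ∈ S) (hgE : g ∈ normalizer (E : Set Ω))
    (hst : ∀ i < n, ∀ x ∈ c i, x⁻¹ * (g * x * g⁻¹) ∈ c (i + 1)) : g ∈ E := by
  obtain ⟨τ, hτ⟩ := Cfsg.Agent.H802.exists_conjAut hgE
  have hES : E ≤ S := hE.1.1
  refine Cfsg.Agent.H765.Ess.mem_of_chain hS hE n (fun i => (c i).subgroupOf E) ?_ ?_ ?_ hg hτ ?_
  · show (c 0).subgroupOf E = ⊤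
    rw [h0, subgroupOf_self]
  · show (c n).subgroupOf E = ⊥
    rw [hn, bot_subgroupOf]
  · intro i hi α hα x hx
    have hm : Mp F E (ex fun x => ((α x : E) : Ω)) := (mp_iff_autGroup hES α).1 hα
    have h3 := hinv _ hm (fun y hy => by rw [ex_apply _ hy]; exact (α ⟨y, hy⟩).2) i hi x hx
    rw [ex_coe] at h3
    exact h3
  · intro i hi x hx
    show (x : Ω)⁻¹ * ((τ x : E) : Ω) ∈ c (i + 1)
    rw [hτ x]
    exact hst i hi x hx

theorem vec_neg (v : Lin.V) : vec (-v) = (vec v)⁻¹ := by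
  rw [eq_inv_iff_mul_eq_one, ← vec_add, neg_add_cancel, vec_zero]

/-- the commutator of an element with an element of `A` -/
theorem comm_A (q : P) {x : P} (hx : x ∈ A) : q * x * q⁻¹ * x⁻¹ = vec (Lin.tf q.a q.b q.c (crd x) - crd x) := by
  conv_lhs => rw [← vec_crd hx]
  rw [conj_vec, sub_eq_add_neg, vec_add, vec_neg]

theorem comm_A' (q : P) {x : P} (hx : x ∈ A) : x⁻¹ * (q * x * q⁻¹) = vec (Lin.tf q.a q.b q.c (crd x) - crd x) := by
  conv_lhs => rw [← vec_crd hx]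
  rw [conj_vec, ← vec_neg, ← vec_add, sub_eq_add_neg, add_comm]

theorem commute_iff (q : P) {x : P} (hx : x ∈ A) : q * x = x * q ↔ Lin.tf q.a q.b q.c (crd x) - crd x = 0 := by
  rw [← vec_injective.eq_iff, vec_zero, ← comm_A q hx, mul_inv_eq_one, mul_inv_eq_iff_eq_mul]

/-- `[A, U2]` -/
def M3 : Subgroup P where
  carrier := {x | x.a = 0 ∧ x.b = 0 ∧ x.c = 0 ∧ x.m22 = 0 ∧ x.m23 = 0 ∧ x.m33 = 0}
  mul_mem' := by
    rintro x y ⟨h1, h2, h3, h7, h9, h11⟩ ⟨h4, h5, h6, h8, h10, h12⟩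
    exact ⟨by simp [h1, h4], by simp [h2, h5], by simp [h1, h3, h6], by simp [h2, h7, h8],
      by simp [h2, h9, h10], by simp [h11, h12]⟩
  one_mem' := ⟨rfl, rfl, rfl, rfl, rfl, rfl⟩
  inv_mem' := by
    rintro x ⟨h1, h2, h3, h7, h9, h11⟩
    exact ⟨by simp [h1], by simp [h2], by simp [h1, h3], by simp [h2, h7], by simp [h2, h9], by simp [h11]⟩

/-- `A ⟨z⟩` -/
def Y : Subgroup P where
  carrier := {x | x.a = 0 ∧ x.b = 0}
  mul_mem' := by
    rintro x y ⟨h1, h2⟩ ⟨h4, h5⟩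
    exact ⟨by simp [h1, h4], by simp [h2, h5]⟩
  one_mem' := ⟨rfl, rfl⟩
  inv_mem' := by
    rintro x ⟨h1, h2⟩
    exact ⟨by simp [h1], by simp [h2]⟩

/-- the maximal subgroup `A⟨z, t⟩` -/
def H (a b : ZMod 3) : Subgroup P where
  carrier := {x | x.a * b = x.b * a}
  mul_mem' := by
    intro x y (h1 : x.a * b = x.b * a) (h2 : y.a * b = y.b * a)
    show (x.a + y.a) * b = (x.b + y.b) * a
    rw [add_mul, add_mul, h1, h2]
  one_mem' := by
    show (0 : ZMod 3) * b = 0 * a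
    rw [zero_mul, zero_mul]
  inv_mem' := by
    intro x (h1 : x.a * b = x.b * a)
    show -x.a * b = -x.b * a
    rw [neg_mul, neg_mul, h1]

theorem mem_M3 {x : P} : x ∈ M3 ↔ x.a = 0 ∧ x.b = 0 ∧ x.c = 0 ∧ x.m22 = 0 ∧ x.m23 = 0 ∧ x.m33 = 0 := Iff.rfl
theorem mem_H {a b : ZMod 3} {x : P} : x ∈ H a b ↔ x.a * b = x.b * a := Iff.rfl

theorem W5_le : W5 ≤ A := fun _ hx => ⟨hx.1, hx.2.1, hx.2.2.1⟩
theorem W3_le : W3 ≤ A := fun _ hx => ⟨hx.1, hx.2.1, hx.2.2.1⟩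
theorem W1_le : W1 ≤ A := fun _ hx => ⟨hx.1, hx.2.1, hx.2.2.1⟩
theorem M3_le : M3 ≤ A := fun _ hx => ⟨hx.1, hx.2.1, hx.2.2.1⟩

theorem sq_eq_one' {a : ZMod 3} (h : a ≠ 0) : a * a = 1 := by
  revert a
  decide

/-! ### case `R1` -/

theorem L5 {q x : P} (hq : q.a = 0) (hx : x ∈ A) : q * x * q⁻¹ * x⁻¹ ∈ W5 := by
  rw [comm_A q hx, mem_W5]
  simp [vec, Lin.tf, crd, hq]

theorem L3 {q x : P} (hq : q.a = 0) (hx : x ∈ W5) : q * x * q⁻¹ * x⁻¹ ∈ W3 := by
  rw [comm_A q (W5_le hx), mem_W3]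
  simp [vec, Lin.tf, crd, hq, hx.2.2.2]

theorem L1 {q x : P} (hq : q.a = 0) (hx : x ∈ W3) : q * x = x * q := by
  rw [commute_iff q (W3_le hx)]
  obtain ⟨h1, h2, h3, h4, h5, h6⟩ := hx
  refine Lin.ext6 ?_ ?_ ?_ ?_ ?_ ?_ <;> dsimp only [Pi.sub_apply, Pi.zero_apply, Lin.tf, crd, Matrix.cons_val] <;>
    simp only [hq, h4, h5, h6] <;> ring1

theorem L4 {u x : P} (hu : u.a = 0) (hu' : u ∉ A) (hx : x ∈ A) (h : u * x * u⁻¹ * x⁻¹ ∈ W3) : x ∈ W5 := by
  rw [comm_A u hx, mem_W3] at h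
  simp [vec, Lin.tf, crd, hu] at h
  obtain ⟨h1, h2⟩ := h
  refine ⟨hx.1, hx.2.1, hx.2.2, ?_⟩
  by_contra h3
  apply hu'
  refine ⟨hu, ?_, ?_⟩
  · rcases h2 with h2 | h2
    · exact h2
    · exact absurd h2 h3
  · rcases h1 with h1 | h1
    · exact h1
    · exact absurd h1 h3

theorem arith2 : ∀ b c m n : ZMod 3, (b ≠ 0 ∨ c ≠ 0) → 2 * c * m = 0 → c * n + b * m = 0 → 2 * b * n = 0 → m = 0 ∧ n = 0 := by
  decide

theorem L2 {u x : P} (hu : u.a = 0) (hu' : u ∉ A) (hx : x ∈ A) (h : u * x = x * u) : x ∈ W3 := by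
  have h5 : x ∈ W5 := L4 hu hu' hx (by
    rw [h, mul_inv_cancel_right, mul_inv_cancel]
    exact W3.one_mem)
  rw [commute_iff u hx] at h
  have e0 := congrFun h 0
  have e1 := congrFun h 1
  have e2 := congrFun h 2
  have h33 := h5.2.2.2
  have hbc : u.b ≠ 0 ∨ u.c ≠ 0 := by
    by_contra hcon
    push Not at hcon
    exact hu' ⟨hu, hcon.1, hcon.2⟩
  have k := arith2 u.b u.c x.m13 x.m23 hbc
    (by simpa [Lin.tf, crd, hu, h33, -mul_eq_zero] using e0)
    (by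
      have e : x.m12 + u.c * x.m23 + u.b * x.m13 - x.m12 = 0 := by simpa [Lin.tf, crd, hu, h33, -mul_eq_zero] using e1
      linear_combination e)
    (by simpa [Lin.tf, crd, hu, h33, -mul_eq_zero] using e2)
  exact ⟨hx.1, hx.2.1, hx.2.2, k.1, k.2, h33⟩

theorem L6 {x y : P} (hx : x.a = 0) (hy : y.a = 0) : x⁻¹ * (y * x * y⁻¹) ∈ A := by
  refine ⟨?_, ?_, ?_⟩
  · simp [hx, hy]
  · simp
  · simp [hx, hy]

/-! ### case `R2` -/

theorem K5 {q x : P} (hq : q.b = 0) (hx : x ∈ A) : q * x * q⁻¹ * x⁻¹ ∈ M3 := by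
  rw [comm_A q hx, mem_M3]
  simp [vec, Lin.tf, crd, hq]

theorem K3 {q x : P} (hq : q.b = 0) (hx : x ∈ M3) : q * x * q⁻¹ * x⁻¹ ∈ W1 := by
  rw [comm_A q (M3_le hx), mem_W1]
  obtain ⟨h1, h2, h3, h4, h5, h6⟩ := hx
  simp [vec, Lin.tf, crd, hq, h4, h5, h6]

theorem K1 (q : P) {x : P} (hx : x ∈ W1) : q * x = x * q := by
  rw [commute_iff q (W1_le hx)]
  obtain ⟨h1, h2, h3, h4, h5, h6, h7, h8⟩ := hx
  refine Lin.ext6 ?_ ?_ ?_ ?_ ?_ ?_ <;> dsimp only [Pi.sub_apply, Pi.zero_apply, Lin.tf, crd, Matrix.cons_val] <;>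
    simp only [h4, h5, h6, h7, h8] <;> ring1

theorem K6 {x y : P} (hx : x.b = 0) (hy : y.b = 0) : x⁻¹ * (y * x * y⁻¹) ∈ A := by
  refine ⟨?_, ?_, ?_⟩
  · simp
  · simp [hx, hy]
  · simp [hx, hy]

theorem arith3 : ∀ a c x0 x1 x3 : ZMod 3, (a ≠ 0 ∨ c ≠ 0) → ∃ v : Fin 6 → ZMod 3,
    2 * a * v 1 + 2 * c * v 3 + a ^ 2 * v 2 + 2 * a * c * v 4 + c ^ 2 * v 5 = x0 ∧ a * v 2 + c * v 4 = x1 ∧ a * v 4 + c * v 5 = x3 := by
  intro a c x0 x1 x3 h
  have h30 : (3 : ZMod 3) = 0 := rfl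
  by_cases ha : a = 0
  · have hc : c * c = 1 := sq_eq_one' (by rcases h with h | h; exact absurd ha h; exact h)
    subst ha
    refine ⟨![0, 0, 0, c * (2 * (x0 - c * x3)), c * x1, c * x3], ?_, ?_, ?_⟩
    · dsimp only [Matrix.cons_val]
      linear_combination (4 * (x0 - c * x3) + c * x3) * hc + (x0 - c * x3) * h30
    · dsimp only [Matrix.cons_val]
      linear_combination x1 * hc
    · dsimp only [Matrix.cons_val]
      linear_combination x3 * hc
  · have ha' : a * a = 1 := sq_eq_one' ha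
    refine ⟨![0, a * 2 * (x0 - (a * (x1 - c * (a * x3)) + 2 * c * x3)), a * (x1 - c * (a * x3)), 0, a * x3, 0], ?_, ?_, ?_⟩
    · dsimp only [Matrix.cons_val]
      linear_combination (4 * (x0 - (a * (x1 - c * (a * x3)) + 2 * c * x3)) + a * (x1 - c * (a * x3)) + 2 * c * x3) * ha' + (x0 - (a * (x1 - c * (a * x3)) + 2 * c * x3)) * h30
    · dsimp only [Matrix.cons_val]
      linear_combination (x1 - c * a * x3) * ha'
    · dsimp only [Matrix.cons_val]
      linear_combination x3 * ha'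

theorem K4 {u x : P} (hu : u.b = 0) (hu' : u ∉ A) (hx : x ∈ M3) : ∃ y ∈ A, u * y * u⁻¹ * y⁻¹ = x := by
  have hac : u.a ≠ 0 ∨ u.c ≠ 0 := by
    by_contra hcon
    push Not at hcon
    exact hu' ⟨hcon.1, hu, hcon.2⟩
  obtain ⟨v, h0, h1, h3⟩ := arith3 u.a u.c x.m11 x.m12 x.m13 hac
  refine ⟨vec v, vec_mem v, ?_⟩
  rw [comm_A u (vec_mem v), crd_vec, ← vec_crd (M3_le hx), vec_injective.eq_iff]
  obtain ⟨k1, k2, k3, k4, k5, k6⟩ := hx
  refine Lin.ext6 ?_ ?_ ?_ ?_ ?_ ?_ <;> dsimp only [Pi.sub_apply, Lin.tf, crd, Matrix.cons_val]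
  · linear_combination h0
  · rw [hu]
    linear_combination h1
  · rw [hu, k4]
    ring1
  · linear_combination h3
  · rw [hu, k5]
    ring1
  · rw [k6]
    ring1

theorem K2 {u x : P} (hu : u.b = 0) (hu' : u ∉ A) (hx : x ∈ W1) : ∃ y ∈ M3, u * y * u⁻¹ * y⁻¹ = x := by
  have hac : u.a ≠ 0 ∨ u.c ≠ 0 := by
    by_contra hcon
    push Not at hcon
    exact hu' ⟨hcon.1, hu, hcon.2⟩
  have key : ∀ a c m : ZMod 3, (a ≠ 0 ∨ c ≠ 0) → ∃ v w : ZMod 3, 2 * a * v + 2 * c * w = m := by decide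
  obtain ⟨v, w, h⟩ := key u.a u.c x.m11 hac
  refine ⟨vec ![0, v, 0, w, 0, 0], ⟨rfl, rfl, rfl, rfl, rfl, rfl⟩, ?_⟩
  rw [comm_A u (vec_mem _), crd_vec, ← vec_crd (W1_le hx), vec_injective.eq_iff]
  obtain ⟨k1, k2, k3, k4, k5, k6, k7, k8⟩ := hx
  refine Lin.ext6 ?_ ?_ ?_ ?_ ?_ ?_ <;> dsimp only [Pi.sub_apply, Lin.tf, crd, Matrix.cons_val]
  · linear_combination h
  · rw [hu, k4]
    ring1
  · rw [k5]
    ring1
  · rw [k6]
    ring1
  · rw [k7]
    ring1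
  · rw [k8]
    ring1

/-! ### the three cases -/

theorem hPtop : IsPGroup 3 (⊤ : Subgroup P) := isPGroup_P.of_equiv Subgroup.topEquiv.symm

/-- an element commuting with everything modulo `A` normalizes `Q ≥ A` -/
theorem mem_normalizer_of {Q : Subgroup P} {g : P} (h : ∀ x ∈ Q, x⁻¹ * (g * x * g⁻¹) ∈ Q) :
    g ∈ normalizer (Q : Set P) := by
  have h1 : ∀ x ∈ Q, g * x * g⁻¹ ∈ Q := fun x hx => by
    have := Q.mul_mem hx (h x hx)
    rwa [mul_inv_cancel_left] at this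
  rw [Subgroup.mem_normalizer_iff]
  have h2 : Q.map (MulAut.conj g).toMonoidHom ≤ Q := by
    rintro _ ⟨x, hx, rfl⟩
    exact h1 x hx
  have h3 : Q.map (MulAut.conj g).toMonoidHom = Q :=
    Subgroup.eq_of_le_of_card_ge h2 (Nat.card_congr (Q.equivMapOfInjective _ (MulAut.conj g).injective).toEquiv).le
  intro x
  refine ⟨h1 x, fun hx => ?_⟩
  have hx : g * x * g⁻¹ ∈ Q := hx
  show x ∈ Q
  rw [← h3] at hx
  obtain ⟨y, hy, hyx⟩ := hx
  have h4 : g * y * g⁻¹ = g * x * g⁻¹ := hyx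
  have h5 : y = x := mul_left_cancel (mul_right_cancel h4)
  exact h5 ▸ hy

theorem case_R1 {F : FusionSystem (⊤ : Subgroup P)} {Q : Subgroup P} (hQ : F.IsEssential 3 Q) (hA : A ≤ Q) (hR : Q ≤ R1)
    (hQA : Q ≠ A) : Q = R1 := by
  by_contra hne
  obtain ⟨u, huQ, huA⟩ := SetLike.exists_of_lt (lt_of_le_of_ne hA (Ne.symm hQA))
  obtain ⟨g, hgR, hgQ⟩ := SetLike.exists_of_lt (lt_of_le_of_ne hR hne)
  have hua : u.a = 0 := hR huQ
  have hga : g.a = 0 := hgR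
  apply hgQ
  refine mem_of_chain' hPtop hQ 4 (fun i => match i with
    | 0 => Q
    | 1 => A
    | 2 => W5
    | 3 => W3
    | _ => ⊥) rfl rfl ?_ (mem_top g) (mem_normalizer_of fun x hx => hA (L6 (hR hx) hga)) ?_
  · intro f hf hfQ
    have hfA := mem_of_A hA hf
    have hsurj : ∀ y ∈ Q, ∃ x ∈ Q, f x = y := fun y hy => hf.surj hfQ hy
    obtain ⟨v, hvQ, hv⟩ := hsurj u huQ
    have hva : v.a = 0 := hR hvQ
    have h3 : ∀ x ∈ W3, f x ∈ W3 := by
      intro x hx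
      refine L2 hua huA (hfA x (W3_le hx)) ?_
      rw [← hv, ← hf.mul hvQ (hA (W3_le hx)), ← hf.mul (hA (W3_le hx)) hvQ, L1 hva hx]
    have h2 : ∀ x ∈ W5, f x ∈ W5 := by
      intro x hx
      have hxQ : x ∈ Q := hA (W5_le hx)
      refine L4 hua huA (hfA x (W5_le hx)) ?_
      rw [← hv, ← hf.inv hvQ, ← hf.inv hxQ, ← hf.mul hvQ hxQ, ← hf.mul (Q.mul_mem hvQ hxQ) (Q.inv_mem hvQ),
        ← hf.mul (Q.mul_mem (Q.mul_mem hvQ hxQ) (Q.inv_mem hvQ)) (Q.inv_mem hxQ)]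
      exact h3 _ (L3 hva hx)
    intro i hi
    interval_cases i
    · exact hfQ
    · exact hfA
    · exact h2
    · exact h3
    · intro x hx
      rw [show x = 1 from mem_bot.1 hx, hf.one]
      exact one_mem _
  · intro i hi
    interval_cases i
    · intro x hx
      exact L6 (hR hx) hga
    · intro x hx
      show x⁻¹ * (g * x * g⁻¹) ∈ W5
      rw [comm_A' g hx, ← comm_A g hx]
      exact L5 hga hx
    · intro x hx
      show x⁻¹ * (g * x * g⁻¹) ∈ W3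
      rw [comm_A' g (W5_le hx), ← comm_A g (W5_le hx)]
      exact L3 hga hx
    · intro x hx
      show x⁻¹ * (g * x * g⁻¹) ∈ ⊥
      rw [L1 hga hx, mul_inv_cancel_right, inv_mul_cancel]
      exact one_mem _

theorem case_R2 {F : FusionSystem (⊤ : Subgroup P)} {Q : Subgroup P} (hQ : F.IsEssential 3 Q) (hA : A ≤ Q) (hR : Q ≤ R2)
    (hQA : Q ≠ A) : Q = R2 := by
  by_contra hne
  obtain ⟨u, huQ, huA⟩ := SetLike.exists_of_lt (lt_of_le_of_ne hA (Ne.symm hQA))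
  obtain ⟨g, hgR, hgQ⟩ := SetLike.exists_of_lt (lt_of_le_of_ne hR hne)
  have hua : u.b = 0 := hR huQ
  have hga : g.b = 0 := hgR
  apply hgQ
  refine mem_of_chain' hPtop hQ 4 (fun i => match i with
    | 0 => Q
    | 1 => A
    | 2 => M3
    | 3 => W1
    | _ => ⊥) rfl rfl ?_ (mem_top g) (mem_normalizer_of fun x hx => hA (K6 (hR hx) hga)) ?_
  · intro f hf hfQ
    have hfA := mem_of_A hA hf
    have hfu : (f u).b = 0 := hR (hfQ u huQ)
    have hcomm : ∀ y ∈ Q, f (u * y * u⁻¹ * y⁻¹) = f u * f y * (f u)⁻¹ * (f y)⁻¹ := by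
      intro y hy
      rw [← hf.inv huQ, ← hf.inv hy, ← hf.mul huQ hy, ← hf.mul (Q.mul_mem huQ hy) (Q.inv_mem huQ),
        ← hf.mul (Q.mul_mem (Q.mul_mem huQ hy) (Q.inv_mem huQ)) (Q.inv_mem hy)]
    have h2 : ∀ x ∈ M3, f x ∈ M3 := by
      intro x hx
      obtain ⟨y, hy, rfl⟩ := K4 hua huA hx
      rw [hcomm y (hA hy)]
      exact K5 hfu (hfA y hy)
    have h3 : ∀ x ∈ W1, f x ∈ W1 := by
      intro x hx
      obtain ⟨y, hy, rfl⟩ := K2 hua huA hx
      rw [hcomm y (hA (M3_le hy))]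
      exact K3 hfu (h2 y hy)
    intro i hi
    interval_cases i
    · exact hfQ
    · exact hfA
    · exact h2
    · exact h3
    · intro x hx
      rw [show x = 1 from mem_bot.1 hx, hf.one]
      exact one_mem _
  · intro i hi
    interval_cases i
    · intro x hx
      exact K6 (hR hx) hga
    · intro x hx
      show x⁻¹ * (g * x * g⁻¹) ∈ M3
      rw [comm_A' g hx, ← comm_A g hx]
      exact K5 hga hx
    · intro x hx
      show x⁻¹ * (g * x * g⁻¹) ∈ W1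
      rw [comm_A' g (M3_le hx), ← comm_A g (M3_le hx)]
      exact K3 hga hx
    · intro x hx
      show x⁻¹ * (g * x * g⁻¹) ∈ ⊥
      rw [K1 g hx, mul_inv_cancel_right, inv_mul_cancel]
      exact one_mem _

/-- the centralizer in `A` of a regular element is small -/
theorem small_centralizer {y : P} (ha : y.a ≠ 0) (hb : y.b ≠ 0) {x x' : P} (hx : x ∈ A) (hx' : x' ∈ A) (h : y * x = x * y)
    (h' : y * x' = x' * y) (h0 : x.m11 = x'.m11) (h2 : x.m22 = x'.m22) : x = x' := by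
  rw [commute_iff y hx] at h
  rw [commute_iff y hx'] at h'
  have key : ∀ a b c x0 x1 x2 x3 x4 x5 : ZMod 3, a ≠ 0 → b ≠ 0 →
      2 * a * x1 + 2 * c * x3 + a ^ 2 * x2 + 2 * a * c * x4 + c ^ 2 * x5 = 0 →
      a * x2 + c * x4 + b * (x3 + a * x4 + c * x5) = 0 → a * x4 + c * x5 = 0 → b * x5 = 0 →
      x5 = 0 ∧ x4 = 0 ∧ x3 = - a * b * x2 ∧ x1 = a * (2 * c * x3 + a ^ 2 * x2) := by
    intro a b c x0 x1 x2 x3 x4 x5 ha hb e0 e1 e3 e4
    have ha' : a * a = 1 := sq_eq_one' ha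
    have hb' : b * b = 1 := sq_eq_one' hb
    have h30 : (3 : ZMod 3) = 0 := rfl
    have k5 : x5 = 0 := by linear_combination b * e4 - x5 * hb'
    have k4 : x4 = 0 := by linear_combination a * e3 - x4 * ha' - a * c * k5
    subst k5 k4
    refine ⟨rfl, rfl, ?_, ?_⟩
    · linear_combination b * e1 - x3 * hb'
    · linear_combination (-a) * e0 + (2 * x1) * ha' + x1 * h30
  have key2 : ∀ x : P, x ∈ A → Lin.tf y.a y.b y.c (crd x) - crd x = 0 →
      x.m33 = 0 ∧ x.m23 = 0 ∧ x.m13 = - y.a * y.b * x.m22 ∧ x.m12 = y.a * (2 * y.c * x.m13 + y.a ^ 2 * x.m22) := by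
    intro x hx h
    refine key y.a y.b y.c x.m11 x.m12 x.m22 x.m13 x.m23 x.m33 ha hb ?_ ?_ ?_ ?_
    · have e := congrFun h 0
      simp [Lin.tf, crd, -mul_eq_zero] at e
      linear_combination e
    · have e := congrFun h 1
      simp [Lin.tf, crd, -mul_eq_zero] at e
      linear_combination e
    · have e := congrFun h 3
      simp [Lin.tf, crd, -mul_eq_zero] at e
      linear_combination e
    · have e := congrFun h 4
      simp [Lin.tf, crd, -mul_eq_zero] at e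
      linear_combination e
  obtain ⟨p1, p2, p3, p4⟩ := key2 x hx h
  obtain ⟨q1, q2, q3, q4⟩ := key2 x' hx' h'
  obtain ⟨r1, r2, r3⟩ := hx
  obtain ⟨s1, s2, s3⟩ := hx'
  ext
  · rw [r1, s1]
  · rw [r2, s2]
  · rw [r3, s3]
  · exact h0
  · rw [p4, q4, p3, q3, h2]
  · exact h2
  · rw [p3, q3, h2]
  · rw [p2, q2]
  · rw [p1, q1]


theorem A_le_Y : A ≤ Y := fun _ hx => ⟨hx.1, hx.2.1⟩

theorem Y_le_H (a b : ZMod 3) : Y ≤ H a b := by
  intro x hx
  rw [mem_H, hx.1, hx.2, zero_mul, zero_mul]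

theorem case_H {F : FusionSystem (⊤ : Subgroup P)} {a b : ZMod 3} (ha : a ≠ 0) (hb : b ≠ 0) (hQ : F.IsEssential 3 (H a b)) :
    False := by
  have hA : A ≤ H a b := A_le_Y.trans (Y_le_H a b)
  set g : P := ⟨0, 1, 0, 0, 0, 0, 0, 0, 0⟩ with hg
  set z : P := ⟨0, 0, 1, 0, 0, 0, 0, 0, 0⟩ with hz
  have hga : g.a = 0 := rfl
  have hzY : z ∈ Y := ⟨rfl, rfl⟩
  have hzQ : z ∈ H a b := Y_le_H a b hzY
  have hzA : z ∉ A := fun h => one_ne_zero h.2.2
  suffices hgQ : g ∈ H a b by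
    rw [mem_H] at hgQ
    simp [hg] at hgQ
    exact ha hgQ.symm
  have hPY : ∀ x : P, x⁻¹ * (g * x * g⁻¹) ∈ Y := fun x => ⟨by simp, by simp⟩
  refine mem_of_chain' hPtop hQ 5 (fun i => match i with
    | 0 => H a b
    | 1 => Y
    | 2 => A
    | 3 => W5
    | 4 => W3
    | _ => ⊥) rfl rfl ?_ (mem_top g) (mem_normalizer_of fun x _ => Y_le_H a b (hPY x)) ?_
  · intro f hf hfQ
    have hfA := mem_of_A hA hf
    have hfY : ∀ y ∈ Y, f y ∈ Y := by
      intro y hy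
      have hyQ := Y_le_H a b hy
      have hfy := mem_H.1 (hfQ y hyQ)
      by_contra hnot
      have hfa : (f y).a ≠ 0 := by
        intro h0
        apply hnot
        refine ⟨h0, ?_⟩
        rw [h0, zero_mul] at hfy
        rcases mul_eq_zero.1 hfy.symm with h1 | h1
        · exact h1
        · exact absurd h1 ha
      have hfb : (f y).b ≠ 0 := by
        intro h0
        rw [h0, zero_mul] at hfy
        rcases mul_eq_zero.1 hfy with h1 | h1
        · exact hfa h1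
        · exact hb h1
      have hW : ∀ v : Fin 3 → ZMod 3, (⟨0, 0, 0, v 0, v 1, v 2, 0, 0, 0⟩ : P) ∈ W3 := fun v => ⟨rfl, rfl, rfl, rfl, rfl, rfl⟩
      have hinj : Function.Injective (fun v : Fin 3 → ZMod 3 => (((f ⟨0, 0, 0, v 0, v 1, v 2, 0, 0, 0⟩).m11,
          (f ⟨0, 0, 0, v 0, v 1, v 2, 0, 0, 0⟩).m22) : ZMod 3 × ZMod 3)) := by
        intro v v' hvv
        have e1 := congrArg Prod.fst hvv
        have e2 := congrArg Prod.snd hvv
        have hc : ∀ w ∈ W3, f y * f w = f w * f y := by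
          intro w hw
          rw [← hf.mul hyQ (hA (W3_le hw)), ← hf.mul (hA (W3_le hw)) hyQ, L1 hy.1 hw]
        have e3 := small_centralizer hfa hfb (hfA _ (W3_le (hW v))) (hfA _ (W3_le (hW v'))) (hc _ (hW v)) (hc _ (hW v')) e1 e2
        have e4 := hf.inj (hA (W3_le (hW v))) (hA (W3_le (hW v'))) e3
        funext i
        fin_cases i
        · exact congrArg P.m11 e4
        · exact congrArg P.m12 e4
        · exact congrArg P.m22 e4
      have hcard := Fintype.card_le_of_injective _ hinj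
      simp [ZMod.card] at hcard
    have hfzA : f z ∉ A := by
      intro h
      obtain ⟨x, hx, hxz⟩ := (hf.res hA).surj hfA h
      rw [hf.inj (hA hx) hzQ hxz] at hx
      exact hzA hx
    have h4 : ∀ x ∈ W3, f x ∈ W3 := by
      intro x hx
      refine L2 (hfY z hzY).1 hfzA (hfA x (W3_le hx)) ?_
      rw [← hf.mul hzQ (hA (W3_le hx)), ← hf.mul (hA (W3_le hx)) hzQ, L1 hzY.1 hx]
    have h3 : ∀ x ∈ W5, f x ∈ W5 := by
      intro x hx
      have hxQ : x ∈ H a b := hA (W5_le hx)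
      refine L4 (hfY z hzY).1 hfzA (hfA x (W5_le hx)) ?_
      rw [← hf.inv hzQ, ← hf.inv hxQ, ← hf.mul hzQ hxQ, ← hf.mul (mul_mem hzQ hxQ) (inv_mem hzQ),
        ← hf.mul (mul_mem (mul_mem hzQ hxQ) (inv_mem hzQ)) (inv_mem hxQ)]
      exact h4 _ (L3 hzY.1 hx)
    intro i hi
    interval_cases i
    · exact hfQ
    · exact hfY
    · exact hfA
    · exact h3
    · exact h4
    · intro x hx
      rw [show x = 1 from mem_bot.1 hx, hf.one]
      exact one_mem _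
  · intro i hi
    interval_cases i
    · intro x _
      exact hPY x
    · intro x hx
      exact L6 hx.1 hga
    · intro x hx
      show x⁻¹ * (g * x * g⁻¹) ∈ W5
      rw [comm_A' g hx, ← comm_A g hx]
      exact L5 hga hx
    · intro x hx
      show x⁻¹ * (g * x * g⁻¹) ∈ W3
      rw [comm_A' g (W5_le hx), ← comm_A g (W5_le hx)]
      exact L3 hga hx
    · intro x hx
      show x⁻¹ * (g * x * g⁻¹) ∈ ⊥
      rw [L1 hga hx, mul_inv_cancel_right, inv_mul_cancel]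
      exact one_mem _

theorem pow_a (x : P) (n : ℕ) : (x ^ n).a = n * x.a := by
  induction n with
  | zero => simp
  | succ n ih => rw [pow_succ, mul_a, ih]; push_cast; ring

theorem pow_b (x : P) (n : ℕ) : (x ^ n).b = n * x.b := by
  induction n with
  | zero => simp
  | succ n ih => rw [pow_succ, mul_b, ih]; push_cast; ring

theorem pow_c {x : P} (hx : x.a = 0) (n : ℕ) : (x ^ n).c = n * x.c := by
  induction n with
  | zero => simp
  | succ n ih => rw [pow_succ, mul_c, ih, pow_a, hx]; push_cast; ring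

theorem mem_of_mul_pow {Q : Subgroup P} {x t : P} {n : ℕ} (ht : t ∈ Q) (h : x * (t ^ n)⁻¹ ∈ Q) : x ∈ Q := by
  have := Q.mul_mem h (Q.pow_mem ht n)
  rwa [inv_mul_cancel_right] at this

theorem Y_le_of_mem {Q : Subgroup P} (hA : A ≤ Q) {w : P} (hw : w ∈ Q) (hwY : w ∈ Y) (hwA : w ∉ A) : Y ≤ Q := by
  intro y hy
  have hc : w.c ≠ 0 := fun h => hwA ⟨hwY.1, hwY.2, h⟩
  have hc' : w.c * w.c = 1 := sq_eq_one' hc
  refine mem_of_mul_pow (n := (y.c * w.c).val) hw (hA ⟨?_, ?_, ?_⟩)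
  · simp [pow_a, hy.1, hwY.1]
  · simp [pow_b, hy.2, hwY.2]
  · rw [mul_c, inv_c, pow_c hwY.1, pow_a, pow_b, hwY.1, hwY.2, hy.1, ZMod.natCast_zmod_val]
    linear_combination (-y.c) * hc'

theorem exists_regular {Q : Subgroup P} (h1 : ¬ Q ≤ R1) (h2 : ¬ Q ≤ R2) : ∃ t ∈ Q, t.a ≠ 0 ∧ t.b ≠ 0 := by
  obtain ⟨q1, hq1, ha⟩ := SetLike.not_le_iff_exists.1 h1
  obtain ⟨q2, hq2, hb⟩ := SetLike.not_le_iff_exists.1 h2
  rw [mem_R1] at ha
  rw [mem_R2] at hb
  by_cases hb1 : q1.b = 0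
  · by_cases ha2 : q2.a = 0
    · exact ⟨q1 * q2, Q.mul_mem hq1 hq2, by rwa [mul_a, ha2, add_zero], by rwa [mul_b, hb1, zero_add]⟩
    · exact ⟨q2, hq2, ha2, hb⟩
  · exact ⟨q1, hq1, ha, hb1⟩

/-- C11: the essential subgroups containing `A` -/
theorem essential_ge_A {F : FusionSystem (⊤ : Subgroup P)} (hF : F.IsSaturated 3) {Q : Subgroup P} (hQ : F.IsEssential 3 Q) (hA : A ≤ Q) :
    Q = A ∨ Q = R1 ∨ Q = R2 ∨ ∃ t : P, t.a ≠ 0 ∧ t.b ≠ 0 ∧ Q = A ⊔ zpowers t := by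
  by_cases hQA : Q = A
  · exact Or.inl hQA
  by_cases h1 : Q ≤ R1
  · exact Or.inr (Or.inl (case_R1 hQ hA h1 hQA))
  by_cases h2 : Q ≤ R2
  · exact Or.inr (Or.inr (Or.inl (case_R2 hQ hA h2 hQA)))
  obtain ⟨t, htQ, ha, hb⟩ := exists_regular h1 h2
  refine Or.inr (Or.inr (Or.inr ⟨t, ha, hb, ?_⟩))
  by_contra hne
  have hle : A ⊔ zpowers t ≤ Q := sup_le hA ((zpowers_le).2 htQ)
  obtain ⟨q, hqQ, hq⟩ := SetLike.exists_of_lt (lt_of_le_of_ne hle (Ne.symm hne))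
  have ha' : t.a * t.a = 1 := sq_eq_one' ha
  have hb' : t.b * t.b = 1 := sq_eq_one' hb
  -- reduction of elements of `H` modulo `Y`
  have hred : ∀ x : P, x.a * t.b = x.b * t.a → x * (t ^ (x.a * t.a).val)⁻¹ ∈ Y := by
    intro x hx
    refine ⟨?_, ?_⟩
    · rw [mul_a, inv_a, pow_a, ZMod.natCast_zmod_val]
      linear_combination (-x.a) * ha'
    · rw [mul_b, inv_b, pow_b, ZMod.natCast_zmod_val]
      linear_combination (-x.b) * ha' - t.a * hx
  -- `Y ≤ Q`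
  have hY : Y ≤ Q := by
    by_cases hprop : q.a * t.b = q.b * t.a
    · refine Y_le_of_mem hA (Q.mul_mem hqQ (Q.inv_mem (Q.pow_mem htQ _))) (hred q hprop) fun h => hq ?_
      exact mem_of_mul_pow (le_sup_right (a := A) (mem_zpowers t)) (le_sup_left (b := zpowers t) h)
    · refine Y_le_of_mem hA (w := t * q * t⁻¹ * q⁻¹)
        (Q.mul_mem (Q.mul_mem (Q.mul_mem htQ hqQ) (Q.inv_mem htQ)) (Q.inv_mem hqQ)) ⟨by simp, by simp⟩ fun h => hprop ?_
      have h3 := h.2.2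
      simp at h3
      linear_combination -h3
  by_cases hH : Q ≤ H t.a t.b
  · have hQH : Q = H t.a t.b := by
      refine le_antisymm hH fun x hx => ?_
      exact mem_of_mul_pow htQ (hY (hred x hx))
    rw [hQH] at hQ
    exact case_H ha hb hQ
  · obtain ⟨r, hrQ, hr⟩ := SetLike.not_le_iff_exists.1 hH
    rw [mem_H] at hr
    apply Cfsg.Agent.H802.ne_of_isEssential hPtop hF hQ
    rw [eq_top_iff]
    intro x _
    have hD : (t.a * r.b - t.b * r.a) * (t.a * r.b - t.b * r.a) = 1 :=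
      sq_eq_one' fun h => hr (by linear_combination -h)
    set D := t.a * r.b - t.b * r.a with hDdef
    refine mem_of_mul_pow (n := (D * (t.a * x.b - t.b * x.a)).val) hrQ ?_
    refine mem_of_mul_pow (n := (D * (x.a * r.b - x.b * r.a)).val) htQ (hY ⟨?_, ?_⟩)
    · rw [mul_a, mul_a, inv_a, inv_a, pow_a, pow_a, ZMod.natCast_zmod_val, ZMod.natCast_zmod_val]
      linear_combination (-x.a) * hD - D * x.a * hDdef
    · rw [mul_b, mul_b, inv_b, inv_b, pow_b, pow_b, ZMod.natCast_zmod_val, ZMod.natCast_zmod_val]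
      linear_combination (-x.b) * hD - D * x.b * hDdef

end Cfsg.Agent.H615.Co1
end

-- part: H83/Co/Real
section
/-!
S5227, D0: the fusion system of a finite group on the image of `P`.
-/

set_option autoImplicit false
set_option linter.style.longLine false

namespace Cfsg.Agent.H83.Co

open Subgroup Cfsg Cfsg.Agent.H752 Cfsg.Agent.H776.Co Cfsg.Agent.H776.Co.P

/-- the realisation in a group of `Type` -/
theorem exists_real_zero {G0 : Type} [Group G0] [Finite G0] (φ : P →* G0) (hφ : Function.Injective φ)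
    (hS : ∃ T : Sylow 3 G0, (T : Subgroup G0) = φ.range) :
    ∃ F : FusionSystem (⊤ : Subgroup P), F.IsSaturated 3 ∧ F.IsRealizable 3 ∧
      ∀ (Q : Subgroup P) (f : P → P), Mp F Q f ↔ ∃ g : G0, ∀ x ∈ Q, φ (f x) = g * φ x * g⁻¹ := by
  have : Fact (Nat.Prime 3) := ⟨Nat.prime_three⟩
  obtain ⟨T, hT⟩ := hS
  set ι : (⊤ : Subgroup P) →* G0 := φ.comp (⊤ : Subgroup P).subtype with hι
  have hιi : Function.Injective ι := fun x y h => Subtype.ext (hφ h)
  have hTι : (T : Subgroup G0) = ι.range := by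
    rw [hT]
    ext y
    constructor
    · rintro ⟨x, rfl⟩
      exact ⟨⟨x, mem_top x⟩, rfl⟩
    · rintro ⟨x, rfl⟩
      exact ⟨x, rfl⟩
  have hr : (H781.pullback ι hιi).IsRealizedBy ι := H781.pullback_isRealizedBy ι hιi
  have hreal : (H781.pullback ι hιi).IsRealizable 3 := ⟨G0, inferInstance, inferInstance, ι, hr, T, hTι⟩
  refine ⟨H781.pullback ι hιi, H781.isSaturated_of_isRealizable hreal, hreal, fun Q f => ⟨?_, ?_⟩⟩
  · rintro ⟨ψ, ⟨_, _, g, hg⟩, hψ⟩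
    refine ⟨g, fun x hx => ?_⟩
    rw [← hψ x hx]
    exact hg ⟨x, hx⟩
  · rintro ⟨g, hg⟩
    refine ⟨MonoidHom.mk' (fun x : Q => f x) ?_, ⟨le_top, fun _ => mem_top _, g, fun x => ?_⟩, fun x hx => rfl⟩
    · intro a b
      apply hφ
      rw [map_mul, hg _ a.2, hg _ b.2, hg _ (a * b).2, Subgroup.coe_mul, map_mul]
      group
    · exact hg x x.2

/-- **D0**: the fusion system of a finite group on the image of `P`. -/
theorem exists_real {G0 : Type*} [Group G0] [Finite G0] (φ : P →* G0) (hφ : Function.Injective φ)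
    (hS : ∃ T : Sylow 3 G0, (T : Subgroup G0) = φ.range) :
    ∃ F : FusionSystem (⊤ : Subgroup P), F.IsSaturated 3 ∧ F.IsRealizable 3 ∧
      ∀ (Q : Subgroup P) (f : P → P), Mp F Q f ↔ ∃ g : G0, ∀ x ∈ Q, φ (f x) = g * φ x * g⁻¹ := by
  have : Fact (Nat.Prime 3) := ⟨Nat.prime_three⟩
  have : Small.{0} G0 := Countable.toSmall G0
  obtain ⟨T, hT⟩ := hS
  let e : G0 ≃* Shrink.{0} G0 := (Shrink.mulEquiv (α := G0)).symm
  have : Finite (Shrink.{0} G0) := Finite.of_equiv G0 e.toEquiv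
  obtain ⟨F, h1, h2, h3⟩ := exists_real_zero (G0 := Shrink.{0} G0) (e.toMonoidHom.comp φ)
    (e.injective.comp hφ) ⟨T.mapSurjective e.surjective, by
      rw [Sylow.coe_mapSurjective, hT, MonoidHom.range_comp]⟩
  refine ⟨F, h1, h2, fun Q f => (h3 Q f).trans ⟨?_, ?_⟩⟩
  · rintro ⟨g, hg⟩
    refine ⟨e.symm g, fun x hx => e.injective ?_⟩
    have := hg x hx
    simp only [map_mul, map_inv, MulEquiv.apply_symm_apply]
    exact this
  · rintro ⟨g, hg⟩
    refine ⟨e g, fun x hx => ?_⟩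
    show e (φ (f x)) = e g * e (φ x) * (e g)⁻¹
    rw [hg x hx, map_mul, map_mul, map_inv]

end Cfsg.Agent.H83.Co
end

-- part: H38/Co1/CardInf
section
/-!
# S5227: `|T ∩ K| ≠ 3` (task `Loc.card_inf_ne` of helper776)
-/

set_option autoImplicit false

namespace Cfsg.Agent.H38.Co1

open Subgroup Cfsg.Agent.H776.Co

universe u

section gen

variable {X : Type u} [Group X] [Finite X]

/-- the Sylow index of `T ∩ K`, `K` normal -/
theorem relIndex_dvd (T K : Subgroup X) [K.Normal] : T.relIndex K ∣ T.index := by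
  have h1 := Subgroup.relIndex_mul_relIndex (T ⊓ K) T (T ⊔ K) inf_le_left le_sup_left
  have h2 := Subgroup.relIndex_mul_relIndex (T ⊓ K) K (T ⊔ K) inf_le_right le_sup_right
  rw [Subgroup.inf_relIndex_left] at h1
  rw [Subgroup.inf_relIndex_right, Subgroup.relIndex_sup_right] at h2
  have h3 : K.relIndex T ≠ 0 := Subgroup.index_ne_zero_of_finite
  have h4 : T.relIndex (T ⊔ K) = T.relIndex K := by
    have h5 : K.relIndex T * T.relIndex (T ⊔ K) = K.relIndex T * T.relIndex K := by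
      rw [h1, ← h2, mul_comm]
    exact Nat.eq_of_mul_eq_mul_left (Nat.pos_of_ne_zero h3) h5
  rw [← h4]
  exact Subgroup.relIndex_dvd_index_of_le le_sup_left

/-- Burnside's normal complement theorem for a subgroup `C` with Sylow subgroup `D`. -/
theorem burnside {p : ℕ} [Fact p.Prime] {C D : Subgroup X} (hDC : D ≤ C) (hD : IsPGroup p D)
    (hi : ¬ p ∣ D.relIndex C)
    (hN : ∀ c ∈ C, (∀ d ∈ D, c * d * c⁻¹ ∈ D) → ∀ d ∈ D, d * c = c * d) :
    ∃ R : Subgroup X, R ≤ C ∧ (∀ c ∈ C, ∀ r ∈ R, c * r * c⁻¹ ∈ R) ∧ ¬ p ∣ Nat.card R ∧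
      (∀ c ∈ C, (Nat.Coprime (orderOf c) p) → c ∈ R) ∧ Nat.card R * Nat.card D = Nat.card C := by
  have hD' : IsPGroup p ↥(D.subgroupOf C) := hD.comap_of_injective C.subtype C.subtype_injective
  let P : Sylow p C := hD'.toSylow hi
  have hP : ∀ x : C, x ∈ P ↔ (x : X) ∈ D := fun x => Iff.rfl
  have hn : normalizer (P : Set C) ≤ centralizer (P : Set C) := by
    intro c hc
    rw [mem_centralizer_iff]
    intro d hd
    apply Subtype.ext
    refine hN c c.2 ?_ d hd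
    intro e he
    have := (mem_normalizer_iff.1 hc (⟨e, hDC he⟩ : C)).1 he
    exact this
  obtain ⟨N, hNn, hcompl, hcard, hmem⟩ : ∃ N : Subgroup C, N.Normal ∧ N.IsComplement' (P : Subgroup C) ∧
      ¬ p ∣ Nat.card N ∧ ∀ c : C, Nat.Coprime (orderOf c) p → c ∈ N := by
    refine ⟨(MonoidHom.transferSylow P hn).ker, inferInstance, MonoidHom.ker_transferSylow_isComplement' P hn,
      MonoidHom.not_dvd_card_ker_transferSylow P hn, fun c ho => ?_⟩
    rw [MonoidHom.mem_ker, ← orderOf_eq_one_iff]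
    have h3 : orderOf (MonoidHom.transferSylow P hn c) ∣ orderOf c := orderOf_map_dvd _ c
    obtain ⟨k, hk⟩ := (IsPGroup.iff_orderOf.1 P.2) (MonoidHom.transferSylow P hn c)
    rw [hk] at h3 ⊢
    have h4 : Nat.Coprime (p ^ k) p := Nat.Coprime.coprime_dvd_left h3 ho
    rcases Nat.eq_zero_or_pos k with h0 | h0
    · rw [h0, pow_zero]
    · exfalso
      have h5 : p ∣ p ^ k := dvd_pow_self p (by omega)
      have h6 := Nat.dvd_gcd h5 (dvd_refl p)
      rw [h4] at h6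
      exact (Fact.out : p.Prime).one_lt.ne' (Nat.dvd_one.1 h6)
  have hc : Nat.card ↥(N.map C.subtype) = Nat.card N :=
    (Nat.card_congr (N.equivMapOfInjective _ C.subtype_injective).toEquiv).symm
  refine ⟨N.map C.subtype, ?_, ?_, ?_, ?_, ?_⟩
  · rintro _ ⟨c, -, rfl⟩
    exact c.2
  · rintro c hc _ ⟨r, hr, rfl⟩
    exact ⟨⟨c, hc⟩ * r * ⟨c, hc⟩⁻¹, hNn.conj_mem r hr ⟨c, hc⟩, rfl⟩
  · rw [hc]; exact hcard
  · intro c hc ho
    exact ⟨⟨c, hc⟩, hmem ⟨c, hc⟩ (by rwa [Subgroup.orderOf_mk]), rfl⟩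
  · have h3 := hcompl.card_mul
    rw [hc, ← h3]
    congr 1
    exact (Nat.card_congr (Subgroup.subgroupOfEquivOfLe hDC).toEquiv).symm

end gen

variable {Γ : Type u} [Group Γ] [Finite Γ] {T U1 U2 : Subgroup Γ} {z : Γ} {Z : Subgroup Γ}

theorem z_mem (h : Loc T U1 U2 z Z) : z ∈ T := by
  have h1 : z ∈ U1 ⊓ U2 := by rw [h.inf]; exact mem_zpowers z
  exact h.le1 h1.1

theorem z_order (h : Loc T U1 U2 z Z) : orderOf z = 3 :=
  orderOf_eq_prime (h.exp z (z_mem h)) h.z_ne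

theorem T_pgroup (h : Loc T U1 U2 z Z) : IsPGroup 3 T :=
  IsPGroup.of_card (n := 3) (by rw [h.card_T]; norm_num)

/-- **Task L3.** -/
theorem card_inf_ne (h : Loc T U1 U2 z ⊥) {K : Subgroup Γ} (hK : K.Normal) (hs : IsSimpleGroup K)
    (hc : ¬ IsMulCommutative K) (hz : z ∈ K) : Nat.card ↥(T ⊓ K) ≠ 3 := by
  intro h3
  have : Fact (Nat.Prime 3) := ⟨Nat.prime_three⟩
  have hzT := z_mem h
  have hzo := z_order h
  have hz3 : z ^ 3 = 1 := h.exp z hzT
  set D := zpowers z with hD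
  have hDc : Nat.card D = 3 := by rw [hD, Nat.card_zpowers, hzo]
  have hDK : D = T ⊓ K := by
    apply Subgroup.eq_of_le_of_card_ge
    · rw [hD, zpowers_le]; exact ⟨hzT, hz⟩
    · rw [h3, hDc]
  have hDp : IsPGroup 3 D := IsPGroup.of_card (n := 1) (by rw [hDc]; norm_num)
  have hDi : ¬ 3 ∣ D.relIndex K := by
    intro h4
    rw [hDK, Subgroup.inf_relIndex_right] at h4
    exact h.syl (h4.trans (relIndex_dvd T K))
  have hmemD : ∀ x ∈ D, x = 1 ∨ x = z ∨ x = z⁻¹ := by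
    intro x hx
    obtain ⟨i, rfl⟩ := mem_zpowers_iff.1 hx
    have h5 := Int.emod_nonneg i (by norm_num : (3 : ℤ) ≠ 0)
    have h6 := Int.emod_lt_of_pos i (by norm_num : (0 : ℤ) < 3)
    have h7 : z ^ i = z ^ (i % 3) := by
      rw [← Int.emod_add_mul_ediv i 3, zpow_add, zpow_mul]
      have : z ^ (3 : ℤ) = 1 := by exact_mod_cast hz3
      simp [this]
    rw [h7]
    have h8 : i % 3 = 0 ∨ i % 3 = 1 ∨ i % 3 = 2 := by omega
    rcases h8 with h8 | h8 | h8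
    · left; rw [h8, zpow_zero]
    · right; left; rw [h8, zpow_one]
    · right; right
      rw [h8, eq_inv_iff_mul_eq_one]
      have : z ^ (2 : ℤ) * z = z ^ (3 : ℤ) := by rw [← zpow_add_one]; norm_num
      rw [this]; exact_mod_cast hz3
  have hzinv : z ≠ z⁻¹ := by
    intro h4
    have h5 : z ^ 2 = 1 := by rw [sq]; nth_rewrite 2 [h4]; rw [mul_inv_cancel]
    have h6 := orderOf_dvd_of_pow_eq_one h5
    rw [hzo] at h6
    norm_num at h6
  -- the centraliser of `z` in `K`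
  have hcent : ∀ c ∈ K, c * z = z * c → c ∈ D := by
    set C := centralizer {z} ⊓ K with hC
    have hDC : D ≤ C := by
      rw [hD, zpowers_le]
      exact ⟨mem_centralizer_singleton_iff.2 rfl, hz⟩
    have hcomm : ∀ c ∈ C, ∀ d ∈ D, d * c = c * d := by
      intro c hc' d hd
      have h5 : c * z = z * c := mem_centralizer_singleton_iff.1 hc'.1
      obtain ⟨i, rfl⟩ := mem_zpowers_iff.1 hd
      exact ((Commute.zpow_right (h5 : Commute c z) i)).eq.symm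
    have hi : ¬ 3 ∣ D.relIndex C := by
      intro h5
      apply hDi
      rw [← Subgroup.relIndex_mul_relIndex D C K hDC inf_le_right]
      exact h5.mul_right _
    obtain ⟨R, hRC, hRn, hR3, hRc, hRcard⟩ := burnside (p := 3) hDC hDp hi (fun c hc' _ => hcomm c hc')
    have hR : R ≤ ⊥ := by
      apply h.sig R _ hR3
      intro t ht r hr
      apply hRc
      · have hr' := hRC hr
        refine ⟨mem_centralizer_singleton_iff.2 ?_, hK.conj_mem r hr'.2 t⟩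
        have h5 : r * z = z * r := mem_centralizer_singleton_iff.1 hr'.1
        have h6 : t * z = z * t := h.z_comm t ht
        calc t * r * t⁻¹ * z = t * r * (t⁻¹ * (z * t)) * t⁻¹ := by group
          _ = t * (r * z) * t⁻¹ := by rw [← h6]; group
          _ = (t * z) * r * t⁻¹ := by rw [h5]; group
          _ = z * (t * r * t⁻¹) := by rw [h6]; group
      · have h5 : orderOf (t * r * t⁻¹) = orderOf r := by
          have := orderOf_injective (MulAut.conj t).toMonoidHom (MulAut.conj t).injective r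
          exact this
        rw [h5]
        have h6 : orderOf r ∣ Nat.card R := by
          have := orderOf_dvd_natCard (⟨r, hr⟩ : R)
          rwa [Subgroup.orderOf_mk] at this
        rw [Nat.coprime_comm]
        exact (Nat.Prime.coprime_iff_not_dvd Nat.prime_three).2 fun h7 => hR3 (h7.trans h6)
    have hR1 : Nat.card R = 1 := by
      rw [le_bot_iff] at hR
      rw [hR]; exact Subgroup.card_bot
    rw [hR1, one_mul] at hRcard
    have hDC' : D = C := Subgroup.eq_of_le_of_card_ge hDC (by rw [hRcard])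
    intro c hc' h5
    rw [hDC']
    exact ⟨mem_centralizer_singleton_iff.2 h5, hc'⟩
  -- an element inverting `z`
  obtain ⟨s, hsK, hsz⟩ : ∃ s ∈ K, s * z * s⁻¹ = z⁻¹ := by
    by_contra hcon
    push Not at hcon
    have hN : ∀ c ∈ K, (∀ d ∈ D, c * d * c⁻¹ ∈ D) → ∀ d ∈ D, d * c = c * d := by
      intro c hc' h5 d hd
      have h6 : c * z = z * c := by
        rcases hmemD _ (h5 z (mem_zpowers z)) with h7 | h7 | h7
        · exfalso
          apply h.z_ne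
          have h8 : z = c⁻¹ * (c * z * c⁻¹) * c := by group
          rw [h8, h7]; group
        · exact mul_inv_eq_iff_eq_mul.1 h7
        · exact absurd h7 (hcon c hc')
      obtain ⟨i, rfl⟩ := mem_zpowers_iff.1 hd
      exact ((Commute.zpow_right (h6 : Commute c z) i)).eq.symm
    have hDK' : D ≤ K := by rw [hD, zpowers_le]; exact hz
    obtain ⟨R, hRK, hRn, hR3, hRc, hRcard⟩ := burnside (p := 3) hDK' hDp hDi hN
    have hRnorm : (R.subgroupOf K).Normal := ⟨fun r hr k => hRn k k.2 r hr⟩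
    rcases hRnorm.eq_bot_or_eq_top with h5 | h5
    · have h6 : R = ⊥ := by
        have := (Subgroup.subgroupOf_eq_bot.1 h5)
        exact (disjoint_of_le_iff_left_eq_bot hRK).1 this
      rw [h6, Subgroup.card_bot, one_mul, hDc] at hRcard
      apply hc
      have : Fact (Nat.card K).Prime := ⟨by rw [← hRcard]; exact Nat.prime_three⟩
      have : IsCyclic K := isCyclic_of_prime_card (p := Nat.card K) rfl
      exact IsCyclic.isMulCommutative
    · have h6 : R = K := le_antisymm hRK (Subgroup.subgroupOf_eq_top.1 h5)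
      apply hR3
      rw [h6, ← hRcard, hDc]
      exact dvd_mul_left 3 _
  -- `s` is an involution
  have hs2 : s * s = 1 := by
    have h5 : s * s * z = z * (s * s) := by
      have h6 : s * z = z⁻¹ * s := mul_inv_eq_iff_eq_mul.1 hsz
      have h7 : s * z⁻¹ = z * s := by
        have h8 : s * z⁻¹ * s⁻¹ = (s * z * s⁻¹)⁻¹ := by group
        rw [hsz, inv_inv] at h8
        exact mul_inv_eq_iff_eq_mul.1 h8
      rw [mul_assoc, h6, ← mul_assoc, h7, mul_assoc]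
    have h6 := hmemD _ (hcent (s * s) (mul_mem hsK hsK) h5)
    have h7 : s * (s * s) * s⁻¹ = s * s := by group
    rcases h6 with h8 | h8 | h8
    · exact h8
    · exfalso
      rw [h8, hsz] at h7
      exact hzinv h7.symm
    · exfalso
      have h9 : s * z⁻¹ * s⁻¹ = z := by
        have : s * z⁻¹ * s⁻¹ = (s * z * s⁻¹)⁻¹ := by group
        rw [this, hsz, inv_inv]
      rw [h8, h9] at h7
      exact hzinv h7
  have hsinv : s⁻¹ = s := inv_eq_of_mul_eq_one_left hs2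
  -- every element of `T` is in `C(s) ⟨z⟩`
  have hfac : ∀ t ∈ T, ∃ w ∈ D, (t * w) * s = s * (t * w) := by
    intro t ht
    have h5 : t * s * t⁻¹ * s⁻¹ ∈ D := by
      apply hcent
      · exact mul_mem (hK.conj_mem s hsK t) (inv_mem hsK)
      · have h6 : t * z = z * t := h.z_comm t ht
        have h7 : s⁻¹ * z * s = z⁻¹ := by rw [hsinv]; rw [hsinv] at hsz; exact hsz
        have h8 : s⁻¹ * z = z⁻¹ * s⁻¹ := by rw [← h7]; group
        have h9 : t⁻¹ * z⁻¹ = z⁻¹ * t⁻¹ := by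
          rw [← mul_inv_rev, ← mul_inv_rev, h6]
        have h10 : s * z⁻¹ = z * s := by
          have h8 : s * z⁻¹ * s⁻¹ = (s * z * s⁻¹)⁻¹ := by group
          rw [hsz, inv_inv] at h8
          exact mul_inv_eq_iff_eq_mul.1 h8
        calc t * s * t⁻¹ * s⁻¹ * z = t * s * t⁻¹ * (s⁻¹ * z) := by group
          _ = t * s * (t⁻¹ * z⁻¹) * s⁻¹ := by rw [h8]; group
          _ = t * (s * z⁻¹) * t⁻¹ * s⁻¹ := by rw [h9]; group
          _ = (t * z) * s * t⁻¹ * s⁻¹ := by rw [h10]; group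
          _ = z * (t * s * t⁻¹ * s⁻¹) := by rw [h6]; group
    -- `t s t⁻¹ = d s`, `d ∈ D`; take `w = d` (as `d s d⁻¹ = d² s = d⁻¹ s`)
    set d := t * s * t⁻¹ * s⁻¹ with hd
    have hdd : s * d = d⁻¹ * s := by
      have h6 : s * z = z⁻¹ * s := mul_inv_eq_iff_eq_mul.1 hsz
      have h7 : s * z⁻¹ = z * s := by
        have h8 : s * z⁻¹ * s⁻¹ = (s * z * s⁻¹)⁻¹ := by group
        rw [hsz, inv_inv] at h8
        exact mul_inv_eq_iff_eq_mul.1 h8
      rcases hmemD _ h5 with h8 | h8 | h8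
      · rw [h8]; group
      · rw [h8, h6]
      · rw [h8, h7, inv_inv]
    have hdt : d * t = t * d := by
      have h6 : t * z = z * t := h.z_comm t ht
      rcases hmemD _ h5 with h8 | h8 | h8
      · rw [h8]; group
      · rw [h8, h6]
      · rw [h8]
        calc z⁻¹ * t = z⁻¹ * (t * z) * z⁻¹ := by group
          _ = t * z⁻¹ := by rw [h6]; group
    have hd3 : d * d * d = 1 := by
      have h6 : z * z * z = 1 := by rw [← sq, ← pow_succ]; exact hz3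
      rcases hmemD _ h5 with h8 | h8 | h8
      · rw [h8]; group
      · rw [h8, h6]
      · rw [h8]
        have : z⁻¹ * z⁻¹ * z⁻¹ = (z * z * z)⁻¹ := by group
        rw [this, h6, inv_one]
    have hts : t * s = d * s * t := by rw [hd]; group
    refine ⟨d, h5, ?_⟩
    have hsd : d * s = s * d⁻¹ := by
      have h6 : s * d⁻¹ = d * s := by
        calc s * d⁻¹ = s * d⁻¹ * s⁻¹ * s := by group
          _ = (s * d * s⁻¹)⁻¹ * s := by group
          _ = (d⁻¹ * s * s⁻¹)⁻¹ * s := by rw [hdd]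
          _ = d * s := by group
      exact h6.symm
    have hdinv : d⁻¹ * d⁻¹ = d := by
      have h6 : d * d = d⁻¹ := eq_inv_of_mul_eq_one_left hd3
      rw [← mul_inv_rev, h6, inv_inv]
    calc t * d * s = t * (d * s) := by group
      _ = (t * s) * d⁻¹ := by rw [hsd]; group
      _ = (d * s) * (t * d⁻¹) := by rw [hts]; group
      _ = s * d⁻¹ * (t * d⁻¹) := by rw [hsd]
      _ = s * (d⁻¹ * t) * d⁻¹ := by group
      _ = s * (t * d⁻¹) * d⁻¹ := by
          have : d⁻¹ * t = t * d⁻¹ := by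
            calc d⁻¹ * t = d⁻¹ * (t * d) * d⁻¹ := by group
              _ = d⁻¹ * (d * t) * d⁻¹ := by rw [hdt]
              _ = t * d⁻¹ := by group
          rw [this]
      _ = s * (t * (d⁻¹ * d⁻¹)) := by group
      _ = s * (t * d) := by rw [hdinv]
  -- the subgroup `E = C_T(s)`
  set E := T ⊓ centralizer {s} with hE
  have hEne : E ≠ ⊥ := by
    intro h5
    have h6 : T ≤ D := by
      intro t ht
      obtain ⟨w, hw, h7⟩ := hfac t ht
      have hwT : w ∈ T := by rw [hDK] at hw; exact hw.1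
      have h8 : t * w ∈ E := ⟨mul_mem ht hwT, mem_centralizer_singleton_iff.2 h7⟩
      rw [h5, Subgroup.mem_bot] at h8
      rw [eq_inv_of_mul_eq_one_left h8]
      exact inv_mem hw
    have h7 := Subgroup.card_le_of_le h6
    rw [h.card_T, hDc] at h7
    norm_num at h7
  have hEp : IsPGroup 3 E := (T_pgroup h).to_le inf_le_left
  have : Nontrivial E := (Subgroup.nontrivial_iff_ne_bot _).2 hEne
  have := hEp.center_nontrivial
  obtain ⟨⟨e, he⟩, hne⟩ := exists_ne (1 : center E)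
  have he1 : (e : Γ) ≠ 1 := fun h5 => hne (Subtype.ext (Subtype.ext h5))
  have hec : ∀ y ∈ T, (e : Γ) * y = y * e := by
    intro y hy
    obtain ⟨w, hw, h7⟩ := hfac y hy
    have hwT : w ∈ T := by rw [hDK] at hw; exact hw.1
    have h8 : y * w ∈ E := ⟨mul_mem hy hwT, mem_centralizer_singleton_iff.2 h7⟩
    have h9 := congrArg Subtype.val (mem_center_iff.1 he ⟨y * w, h8⟩)
    have h9' : y * w * e = e * (y * w) := h9
    have h10 : (e : Γ) * w = w * e := by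
      have h11 : (e : Γ) * z = z * e := h.z_comm _ e.2.1
      obtain ⟨i, rfl⟩ := mem_zpowers_iff.1 hw
      exact (Commute.zpow_right (h11 : Commute (e : Γ) z) i).eq
    calc (e : Γ) * y = e * (y * w) * w⁻¹ := by group
      _ = y * (w * e) * w⁻¹ := by rw [← h9']; group
      _ = y * e := by rw [← h10]; group
  have heD : (e : Γ) ∈ D := h.center _ e.2.1 hec
  have hes : (e : Γ) * s = s * e := mem_centralizer_singleton_iff.1 e.2.2
  rcases hmemD _ heD with h5 | h5 | h5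
  · exact he1 h5
  · rw [h5] at hes
    apply hzinv
    rw [← hsz, ← hes, mul_inv_cancel_right]
  · rw [h5] at hes
    apply hzinv
    have h6 : z * s = s * z := by
      calc z * s = z * (s * z⁻¹) * z := by group
        _ = z * (z⁻¹ * s) * z := by rw [hes]
        _ = s * z := by group
    rw [← hsz, ← h6, mul_inv_cancel_right]

end Cfsg.Agent.H38.Co1
end

-- part: H896/Co1/SimpleList
section
/-!
# Simple groups with nonabelian Sylow 3-subgroups of order 27 and order dividing `2^13·3^3·5·7·11²·13²`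
(helper896, task for S5227)
-/

set_option autoImplicit false

namespace Cfsg.Agent.H896.Co1

open Cfsg Cfsg.Agent

theorem g2_num {r a n : ℕ} (hr : r.Prime) (ha : 1 ≤ a) (h2 : r = 2 → 1 < a)
    (hn : n = (r ^ a) ^ 6 * ((r ^ a) ^ 2 - 1) * ((r ^ a) ^ 6 - 1)) (hd : n ∣ 2 ^ 13 * 3 ^ 3 * 5 * 7 * 11 ^ 2 * 13 ^ 2) :
    False := by
  have h1 : (r ^ a) ^ 6 ∣ 2 ^ 13 * 19324305 := by
    refine (Dvd.intro _ (by rw [hn, mul_assoc])).trans (hd.trans ?_)
    norm_num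
  by_cases hr2 : r = 2
  · subst hr2
    have h3 : (2 ^ a) ^ 6 ∣ 2 ^ 13 := by
      refine Nat.Coprime.dvd_of_dvd_mul_right ?_ h1
      rw [← pow_mul]
      exact Nat.Coprime.pow_left _ (by norm_num)
    rw [← pow_mul, Nat.pow_dvd_pow_iff_le_right (by norm_num)] at h3
    have h4 : a = 2 := by
      have := h2 rfl
      omega
    subst h4
    rw [hn] at hd
    norm_num at hd
  · have h3 : r ^ 6 ∣ 19324305 := by
      have h4 : r ^ 6 ∣ 2 ^ 13 * 19324305 := by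
        refine dvd_trans ?_ h1
        rw [← pow_mul]
        exact pow_dvd_pow _ (by omega)
      refine Nat.Coprime.dvd_of_dvd_mul_left ?_ h4
      refine Nat.Coprime.pow_left _ (Nat.Coprime.pow_right _ ?_)
      exact (Nat.coprime_primes hr Nat.prime_two).2 hr2
    have h5 : r < 17 := by
      by_contra hc
      push Not at hc
      have h6 := Nat.le_of_dvd (by norm_num) h3
      have h7 : 17 ^ 6 ≤ r ^ 6 := Nat.pow_le_pow_left hc 6
      omega
    have h6 := hr.two_le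
    interval_cases r <;> omega

/-- **Task E1.** -/
theorem simple_list {K : Type*} [Group K] [Finite K] [IsSimpleGroup K] (hc : ¬ IsMulCommutative K) (T : Sylow 3 K)
    (h27 : Nat.card T = 27) (hna : ¬ ∀ x y : T, x * y = y * x) (hd : Nat.card K ∣ 2 ^ 13 * 3 ^ 3 * 5 * 7 * 11 ^ 2 * 13 ^ 2) :
    Nat.card K = 5616 ∨ Nat.card K = 6048 ∨ Nat.card K = 95040 := by
  have h3 : Fact (Nat.Prime 3) := ⟨by norm_num⟩
  have hE : IsExtraspecial 3 ↥(T : Subgroup K) := by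
    refine J2Type.ExtCube.isExtraspecial_of_card_cube (p := 3) (P := ↥(T : Subgroup K)) (by rw [h27]; norm_num) ?_
    push Not at hna
    exact hna
  have hK : IsCompositionKGroup K := fun H _ N _ hs _ => by
    have := hs
    exact S0000.result
  rcases S2215.result hc hK T hE (by rw [h27]; norm_num) with h | h | h | h | h | h | h | h | h
  · rcases h with ⟨⟨e⟩⟩ | ⟨_, F, _, _, hF, ⟨e⟩⟩
    · left
      rw [Nat.card_congr e.toEquiv]
      exact SmallSimple.PSLFacts.card_psl_three_three (ZMod.card 3)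
    · right; left
      rw [Nat.card_congr e.toEquiv]
      exact SmallSimple.PSLFacts.card_psu_three_three (by rw [hF]; norm_num)
  · exact absurd h.1 (by norm_num)
  · rcases h with ⟨_, ⟨F, _, _, hF, ⟨e⟩⟩ | ⟨F, _, _, r, a, hr, _, ha, _, h2, hF, ⟨e⟩⟩⟩
    · right; left
      rw [Nat.card_congr e.toEquiv]
      exact SmallSimple.PSLFacts.card_psu_three_three hF
    · exfalso
      rw [Nat.card_congr e.toEquiv, S1059.result hF] at hd
      exact g2_num hr ha h2 rfl hd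
  · exfalso
    rcases h with ⟨_, h | ⟨F, _, _, m, hm, _, hF, ⟨e⟩⟩⟩
    · rw [NotCT.Orders.tits h] at hd
      norm_num at hd
    · rw [Nat.card_congr e.toEquiv, S1068.result hF] at hd
      have h4 : 2 ^ 36 ∣ 2 ^ 13 * 3 ^ 3 * 5 * 7 * 11 ^ 2 * 13 ^ 2 := by
        refine dvd_trans ?_ hd
        refine ((((?_ : 2 ^ 36 ∣ (2 ^ (2 * m + 1)) ^ 12).mul_right _).mul_right _).mul_right _).mul_right _
        rw [← pow_mul]
        exact pow_dvd_pow _ (by omega)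
      norm_num at h4
  · rcases h with ⟨_, h | h | h | h | h | h⟩
    · right; right
      exact NotCT.Orders.m12 h
    · exfalso
      rw [NotCT.Orders.m24 h] at hd
      norm_num at hd
    · exfalso
      rw [NotCT.Orders.j2 h] at hd
      norm_num at hd
    · exfalso
      rw [NotCT.Orders.j4 h] at hd
      norm_num at hd
    · exfalso
      rw [NotCT.Orders.he h] at hd
      norm_num at hd
    · exfalso
      rw [NotCT.Orders.ru h] at hd
      norm_num at hd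
  · exact absurd h.1 (by norm_num)
  · exact absurd h.1 (by norm_num)
  · exact absurd h.1 (by norm_num)
  · exact absurd h.1 (by norm_num)

end Cfsg.Agent.H896.Co1
end

-- part: H776/Co/In
section
/-!
The inputs of the proof of S5227, proved in the imported modules.
-/

set_option autoImplicit false
set_option linter.style.longLine false

namespace Cfsg.Agent.H776.Co

open Subgroup Cfsg Cfsg.Agent.H752 P

/-! abstract and linear inputs -/

theorem depsLoc : Cfsg.Agent.H531.Co1.DepsLoc where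
  symm := fun h => Cfsg.Agent.H12.Co1.Loc.symm h
  quot := fun h _ => Cfsg.Agent.H12.Co1.Loc.quot h
  exists_simple := fun h => Cfsg.Agent.H511.Co.exists_simple h
  card_inf_ne := fun h _ hK hs hc hz => Cfsg.Agent.H38.Co1.card_inf_ne h hK hs hc hz
  card_inf_ne' := fun h _ hK hs hc hz => Cfsg.Agent.H536.Nine.Loc.card_inf_ne' h hK hs hc hz
  move1 := fun h _ hK hs hc hT => Cfsg.Agent.H410.Co1.move1_of_list
    (fun _ _ _ _ hc T h27 hna hd => Cfsg.Agent.H896.Co1.simple_list hc T h27 hna hd) h hK hs hc hT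
  simple_list := fun hc T h27 hna hd => Cfsg.Agent.H896.Co1.simple_list hc T h27 hna hd

theorem depsLin : Cfsg.Agent.H531.Co1.DepsLin where
  sig := fun R hT h3 => Cfsg.Agent.H300.Co.sig R hT h3
  tri := fun x hx h1 P Q hP hQ hPx hQx => Cfsg.Agent.H300.Co.tri x hx h1 P Q hP hQ hPx hQx
  reg := fun x hx h1 h2 C hC h3 => Cfsg.Agent.H395.CoReg.reg x hx h1 h2 C hC h3
  type := fun g x hx hg => Cfsg.Agent.H300.Co.type g x hx hg
  not_conj := fun g => Cfsg.Agent.H300.Co.not_conj g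
  core := fun hG h1 h3 N hN hNn hp => Cfsg.Agent.H300.Co.core hG h1 h3 N hN hNn hp
  ord := fun hG => Cfsg.Agent.H300.Co.ord hG
  k_ne_one := fun hG h1 _ h2 => Cfsg.Agent.H447.Co.k_ne_one hG h1 h2

namespace Lin

theorem star {G : Subgroup L} (hG : Syl G) (h1 : ∃ g ∈ G, ∃ v, inW1 v ∧ ¬ inW1 (g v)) (h3 : ∃ g ∈ G, ∃ v, inW3 v ∧ ¬ inW3 (g v))
    (ht : ∃ g ∈ G, ∀ v, g v = sf 1 (-1) 1 v) :
    (∃ g ∈ G, (∀ u ∈ U1, g * u * g⁻¹ ∈ U1) ∧ g * tl 0 0 1 * g⁻¹ ∉ zpowers (tl 0 0 1)) ∧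
    (∃ g ∈ G, (∀ u ∈ U2, g * u * g⁻¹ ∈ U2) ∧ g * tl 0 0 1 * g⁻¹ ∉ zpowers (tl 0 0 1)) :=
  Cfsg.Agent.H531.Co1.star depsLoc depsLin hG h1 h3 ht

theorem explicit {G : Subgroup L} (hG : Syl G) (hN : ∀ g ∈ G, (∀ t ∈ T, g * t * g⁻¹ ∈ T) → ∃ t ∈ T, IsSign (t * g))
    (h1 : ∃ g ∈ G, (∀ u ∈ U1, g * u * g⁻¹ ∈ U1) ∧ g * tl 0 0 1 * g⁻¹ ∉ zpowers (tl 0 0 1))
    (h2 : ∃ g ∈ G, (∀ u ∈ U2, g * u * g⁻¹ ∈ U2) ∧ g * tl 0 0 1 * g⁻¹ ∉ zpowers (tl 0 0 1)) :
    (∃ g ∈ G, ∀ v, g v = sf 1 (-1) 1 v) ∧ (∃ g ∈ G, ∀ v, g v = sf (-1) 1 1 v) ∧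
    (∃ i : ZMod 3, ∃ g ∈ G, ∀ v, g v = df i (w1f (df (-i) v))) ∧ (∃ j : ZMod 3, ∃ g ∈ G, ∀ v, g v = w2f j v) :=
  Cfsg.Agent.H119.Co1.explicit hG hN h1 h2

theorem k_ne_one {G : Subgroup L} (hG : Syl G) (h1 : ∃ g ∈ G, ∀ v, g v = w1f v) {k : ZMod 3} (h2 : ∃ g ∈ G, ∀ v, g v = w2f k v) :
    k ≠ 1 := Cfsg.Agent.H447.Co.k_ne_one hG h1 h2

theorem final {G : Subgroup L} (hG : Syl G) (h1 : ∃ g ∈ G, ∀ v, g v = w1f v) {k : ZMod 3} (h2 : ∃ g ∈ G, ∀ v, g v = w2f k v)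
    (h3 : ∃ g ∈ G, ∀ v, g v = sf 1 (-1) 1 v) :
    ∀ g ∈ G, ∃ h ∈ Subgroup.closure ((T : Set L) ∪ {x | ∀ v, x v = w1f v} ∪ {x | ∀ v, x v = w2f k v}), ∃ n ∈ G,
      (∀ t ∈ T, n * t * n⁻¹ ∈ T) ∧ g = h * n :=
  Cfsg.Agent.H531.Co1.final depsLoc depsLin hG h1 h2 h3

end Lin

/-! fusion inputs -/

theorem exists_max {Ω : Type*} [Group Ω] {S : Subgroup Ω} [Finite S] {p : ℕ} [Fact p.Prime] (hS : IsPGroup p S)
    {F : FusionSystem S} {Q D : Subgroup Ω} (hQ : F.IsEssential p Q) (hD : D ≤ Q)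
    (hDn : ∀ q ∈ Q, ∀ d ∈ D, q * d * q⁻¹ ∈ D) {b : Ω} (hbS : b ∈ S) (hbN : b ∈ normalizer (Q : Set Ω)) (hbQ : b ∉ Q)
    (hb1 : ∀ q ∈ Q, b * q * b⁻¹ * q⁻¹ ∈ D) (hb2 : ∀ d ∈ D, b * d = d * b) :
    ∃ a : Ω → Ω, Mp F Q a ∧ (∀ x ∈ Q, a x ∈ Q) ∧ (∃ d ∈ D, a d ∉ D) ∧
      (∀ n ∈ S, n ∈ normalizer (Q : Set Ω) → n ∉ Q → ∃ d ∈ D, ∀ d' ∈ D, n * a d * n⁻¹ ≠ a d') ∧
      (∀ n ∈ S, n ∈ normalizer (Q : Set Ω) → n ∉ Q → (∀ d ∈ D, n * d = d * n) →
        ∀ d ∈ D, a d ∉ D → ¬ (n * a d * n⁻¹ * (a d)⁻¹ ∈ D ∧ ∃ d' ∈ D, n * a d * n⁻¹ * (a d)⁻¹ = a d')) :=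
  Cfsg.Agent.H575.Co.exists_max hS hQ hD hDn hbS hbN hbQ hb1 hb2

theorem lemE3 {Q D1 : Subgroup P} (h1 : D1 ≤ Q) (h2 : ∀ q ∈ Q, ∀ d ∈ D1, q * d * q⁻¹ ∈ D1)
    (h3 : Nat.card D1 = Nat.card ↥(Q ⊓ A)) (h4 : ∀ x ∈ D1, ∀ y ∈ D1, x * y = y * x) (h5 : ∀ x ∈ D1, x ^ 3 = 1)
    (h6 : ∀ x : P, (∀ q ∈ Q, x * q = q * x) → x ∈ Q) (h7 : ¬ A ≤ Q) (h8 : D1 ≠ Q ⊓ A)
    (h9 : ∀ b ∈ A, b ∉ Q → (∀ q ∈ Q, b * q * b⁻¹ ∈ Q) → ∀ y ∈ D1, y ∉ A → y * b * y⁻¹ * b⁻¹ ∉ D1) :
    (Q ⊓ A = W5 ∧ ∃ i, D1 = DD i) ∨ ∃ i, Q = DD i :=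
  Cfsg.Agent.H276.Co1.lemE3 h1 h2 h3 h4 h5 h6 h7 h8 h9

theorem not_essential_DD (F : FusionSystem (⊤ : Subgroup P)) (hF : F.IsSaturated 3) (i : ZMod 3) : ¬ F.IsEssential 3 (DD i) :=
  Cfsg.Agent.H834.Co1.not_essential_DD F hF i

theorem auts_R3_basic {f : P → P} (hm : ∀ x ∈ R3, f x ∈ R3) (hmul : ∀ x ∈ R3, ∀ y ∈ R3, f (x * y) = f x * f y)
    (hinj : ∀ x ∈ R3, ∀ y ∈ R3, f x = f y → x = y) :
    (∀ x ∈ W1, f x ∈ W1) ∧ (∀ x ∈ W3, f x ∈ W3) ∧ (∀ x ∈ R1 ⊓ R3, f x ∈ R1) ∧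
    ((∀ x ∈ W5, f x ∈ W5) ∨ ∃ i, ∀ x ∈ W5, f x ∈ DD i) ∧ (∀ i, (∀ x ∈ DD i, f x ∈ W5) ∨ ∃ j, ∀ x ∈ DD i, f x ∈ DD j) :=
  Cfsg.Agent.H328.CoP.auts_R3_basic hm hmul hinj

theorem aut_P {f : P → P} (hmul : ∀ x y, f (x * y) = f x * f y) (hinj : Function.Injective f) :
    (∀ x ∈ A, f x ∈ A) ∧ (∀ x ∈ W1, f x ∈ W1) ∧ (∀ x ∈ W3, f x ∈ W3) ∧
    ∃ e1 e2 e3 : ZMod 3, e1 ^ 2 = 1 ∧ e2 ^ 2 = 1 ∧ e3 ^ 2 = 1 ∧ ∀ x, (f x).a = e1 * x.a ∧ (f x).b = e2 * x.b ∧ (f x).m33 = e3 * x.m33 :=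
  Cfsg.Agent.H587.CoC6.aut_P hmul hinj

theorem pow_of_trivial {f : P → P} (hmul : ∀ x y, f (x * y) = f x * f y) (hinj : Function.Injective f)
    (h : ∀ x, (f x).a = x.a ∧ (f x).b = x.b ∧ (f x).m33 = x.m33) : ∃ k : ℕ, ∀ x, f^[3 ^ k] x = x :=
  Cfsg.Agent.H587.CoC6.pow_of_trivial hmul hinj h

theorem exists_norm (F : FusionSystem (⊤ : Subgroup P)) (hF : F.IsSaturated 3) :
    ∃ α : P ≃* P, ∀ f, Mp F ⊤ f → ∃ (s : P) (e1 e2 e3 : ZMod 3), e1 ^ 2 = 1 ∧ e2 ^ 2 = 1 ∧ e3 ^ 2 = 1 ∧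
      ∀ x, α (f (α.symm x)) = s * tor e1 e2 e3 x * s⁻¹ := Cfsg.Agent.H800.Co.exists_norm F hF

theorem exists_conj (F : FusionSystem (⊤ : Subgroup P)) (α : P ≃* P) :
    ∃ F' : FusionSystem (⊤ : Subgroup P), (∀ (Q : Subgroup P) (f : P → P), Mp F' (Q.map α.toMonoidHom) (fun x => α (f (α.symm x))) ↔ Mp F Q f) ∧
      (F.IsSaturated 3 → F'.IsSaturated 3) ∧ (F.core = ⊥ → F'.core = ⊥) ∧ (F'.IsRealizable 3 → F.IsRealizable 3) :=
  Cfsg.Agent.H800.Co.exists_conj F α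

theorem t3_of_move {F : FusionSystem (⊤ : Subgroup P)} (h : Nrm F)
    (hm : ∃ f, Mp F R3 f ∧ (∀ x ∈ R3, f x ∈ R3) ∧ ∃ x ∈ W5, f x ∉ W5) : Mp F ⊤ (tor 1 (-1) 1) :=
  Cfsg.Agent.H62.Co8.t3_of_move h hm

theorem w3_of_move {F : FusionSystem (⊤ : Subgroup P)} (h : Nrm F)
    (hm : ∃ f, Mp F R3 f ∧ (∀ x ∈ R3, f x ∈ R3) ∧ ∃ x ∈ W5, f x ∉ W5) : Mp F R3 w3 :=
  Cfsg.Agent.H62.Co8.w3_of_move h hm

theorem mem_of_A {F : FusionSystem (⊤ : Subgroup P)} {R : Subgroup P} {f : P → P} (hR : A ≤ R) (hf : Mp F R f) : ∀ x ∈ A, f x ∈ A :=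
  Cfsg.Agent.H975.Co1.mem_of_A hR hf

theorem exists_GF {F : FusionSystem (⊤ : Subgroup P)} {R : Subgroup P} {f : P → P} (hR : A ≤ R) (hf : Mp F R f) :
    ∃ g ∈ GF F, ∀ x ∈ A, f x = lft g x := Cfsg.Agent.H975.Co1.exists_GF hR hf

theorem syl_GF {F : FusionSystem (⊤ : Subgroup P)} (hF : F.IsSaturated 3) : Lin.Syl (GF F) := Cfsg.Agent.H975.Co1.syl_GF hF

theorem norm_GF {F : FusionSystem (⊤ : Subgroup P)} (h : Nrm F) : ∀ g ∈ GF F, (∀ t ∈ Lin.T, g * t * g⁻¹ ∈ Lin.T) →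
    ∃ t ∈ Lin.T, Lin.IsSign (t * g) := Cfsg.Agent.H975.Co1.norm_GF h

theorem sign_lift {F : FusionSystem (⊤ : Subgroup P)} (h : Nrm F) {e1 e2 e3 : ZMod 3} (h1 : e1 ^ 2 = 1) (h2 : e2 ^ 2 = 1) (h3 : e3 ^ 2 = 1)
    (hg : ∃ g ∈ GF F, ∀ v, g v = Lin.sf e1 e2 e3 v) : Mp F ⊤ (tor e1 e2 e3) := Cfsg.Agent.H975.Co1.sign_lift h h1 h2 h3 hg

theorem norm_GF' {F F' : FusionSystem (⊤ : Subgroup P)} (hF : F.IsSaturated 3) (htop : ∀ f, Mp F ⊤ f → Mp F' ⊤ f) :
    ∀ g ∈ GF F, (∀ t ∈ Lin.T, g * t * g⁻¹ ∈ Lin.T) → g ∈ GF F' := Cfsg.Agent.H975.Co1.norm_GF' hF htop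

theorem lift1 {F : FusionSystem (⊤ : Subgroup P)} (hF : F.IsSaturated 3) (ht : Mp F ⊤ (tor 1 (-1) 1))
    (hw : ∃ g ∈ GF F, ∀ v, g v = Lin.w1f v) : Mp F R1 w1 := Cfsg.Agent.H623.CoLift.lift1 hF ht hw

theorem lift2 {F : FusionSystem (⊤ : Subgroup P)} (hF : F.IsSaturated 3) (ht : Mp F ⊤ (tor (-1) 1 1)) {k : ZMod 3}
    (hw : ∃ g ∈ GF F, ∀ v, g v = Lin.w2f k v) : Mp F R2 (w2 k) := Cfsg.Agent.H623.CoLift.lift2 hF ht hw

theorem auts_R3 {F F' : FusionSystem (⊤ : Subgroup P)} (hF : F.IsSaturated 3) (h3 : Mp F R3 w3) (h3' : Mp F' R3 w3)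
    (htop : ∀ f, Mp F ⊤ f → Mp F' ⊤ f) : ∀ f, Mp F R3 f → (∀ x ∈ R3, f x ∈ R3) → Mp F' R3 f :=
  Cfsg.Agent.H20.Co1.auts_R3' (fun f h1 h2 h3 => by
    obtain ⟨q1, q2, q3, q4, -⟩ := auts_R3_basic (f := f) h1 h2 h3
    exact ⟨q1, q2, q3, q4⟩) hF h3 h3' htop

theorem auts_R1 {F F' : FusionSystem (⊤ : Subgroup P)} (hF : F.IsSaturated 3) (h3 : Mp F R1 w1) (h3' : Mp F' R1 w1)
    (htop : ∀ f, Mp F ⊤ f → Mp F' ⊤ f) : ∀ f, Mp F R1 f → (∀ x ∈ R1, f x ∈ R1) → Mp F' R1 f :=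
  Cfsg.Agent.H20.Co1.auts_R1' (fun _ h1 h2 h3 => Cfsg.Agent.H328.CoP.A_unique h1 h2 h3) hF h3 h3' htop

theorem auts_R2 {F F' : FusionSystem (⊤ : Subgroup P)} (hF : F.IsSaturated 3) {k : ZMod 3} (h3 : Mp F R2 (w2 k)) (h3' : Mp F' R2 (w2 k))
    (htop : ∀ f, Mp F ⊤ f → Mp F' ⊤ f) : ∀ f, Mp F R2 f → (∀ x ∈ R2, f x ∈ R2) → Mp F' R2 f :=
  Cfsg.Agent.H20.Co1.auts_R2' (fun _ h1 h2 h3 => Cfsg.Agent.H328.CoP.A_unique h1 h2 h3) hF h3 h3' htop

theorem auts_reg {F F' : FusionSystem (⊤ : Subgroup P)} (hF : F.IsSaturated 3) (hF' : F'.IsSaturated 3) (hG : GF F ≤ GF F')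
    {t : P} (ha : t.a ≠ 0) (hb : t.b ≠ 0) :
    ∀ f, Mp F (A ⊔ zpowers t) f → (∀ x ∈ A ⊔ zpowers t, f x ∈ A ⊔ zpowers t) → Mp F' (A ⊔ zpowers t) f :=
  Cfsg.Agent.H615.Co1.auts_reg hF hF' hG ha hb

theorem essential_ge_A {F : FusionSystem (⊤ : Subgroup P)} (hF : F.IsSaturated 3) {Q : Subgroup P} (hQ : F.IsEssential 3 Q) (hA : A ≤ Q) :
    Q = A ∨ Q = R1 ∨ Q = R2 ∨ ∃ t : P, t.a ≠ 0 ∧ t.b ≠ 0 ∧ Q = A ⊔ zpowers t :=
  Cfsg.Agent.H615.Co1.essential_ge_A hF hQ hA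

/-! groups -/

theorem exists_real {G0 : Type*} [Group G0] [Finite G0] (φ : P →* G0) (hφ : Function.Injective φ) (hS : ∃ T : Sylow 3 G0, (T : Subgroup G0) = φ.range) :
    ∃ F : FusionSystem (⊤ : Subgroup P), F.IsSaturated 3 ∧ F.IsRealizable 3 ∧
      ∀ (Q : Subgroup P) (f : P → P), Mp F Q f ↔ ∃ g : G0, ∀ x ∈ Q, φ (f x) = g * φ x * g⁻¹ :=
  Cfsg.Agent.H83.Co.exists_real φ hφ hS

theorem real_sp : ∃ (G0 : Type) (_ : Group G0) (_ : Finite G0), Cfsg.Agent.H83.Co.RealData 0 False G0 := Cfsg.Agent.H83.Co.real_sp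
theorem real_gsp : ∃ (G0 : Type) (_ : Group G0) (_ : Finite G0), Cfsg.Agent.H83.Co.RealData 0 True G0 := Cfsg.Agent.H83.Co.real_gsp
theorem real_co1 : ∃ (G0 : Type) (_ : Group G0) (_ : Finite G0), Cfsg.Agent.H83.Co.RealData 2 True G0 := Cfsg.Agent.H956.Co1P.real_co1
theorem sylow_co1 (T : Sylow 3 Cfsg.Spor.Co1) : Nonempty (P ≃* ↥(T : Subgroup Cfsg.Spor.Co1)) := Cfsg.Agent.H956.Co1P.sylow_co1 T

end Cfsg.Agent.H776.Co
end

private theorem dce_c5bd76e5497b : _root_.True := by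
  try have : _root_.True := by simp only [_root_.Cfsg.Agent.H623.CoLift.u13.eq_1]
  try have : _root_.True := by simp only [_root_.Cfsg.Agent.H447.Co.xf.eq_1]
  try have : _root_.True := by simp only [_root_.Cfsg.Agent.H395.CoReg.u2.eq_1]
  try have : _root_.True := by simp only [_root_.Cfsg.Agent.H623.CoLift.u12.eq_1]
  try have : _root_.True := by simp only [_root_.Cfsg.Agent.H447.Co.x3f.eq_1]
  try have : _root_.True := by simp only [_root_.Cfsg.Agent.H395.CoReg.ps.eq_1]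
  try have : _root_.True := by simp only [_root_.Cfsg.Agent.H447.Co.x2f.eq_1]
  try have : _root_.True := by simp only [_root_.Cfsg.Agent.H447.Co.x6f.eq_1]
  try have : _root_.True := by simp only [_root_.Cfsg.Agent.H395.CoReg.mat.eq_1]
  try have : _root_.True := by simp only [_root_.Cfsg.Agent.H623.CoLift.u23.eq_1]
  try have : _root_.True := by simp only [_root_.Cfsg.Agent.H395.CoReg.ph.eq_1]
  try have : _root_.True := by simp only [_root_.Cfsg.Agent.H395.CoReg.u1.eq_1]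
  exact _root_.True.intro
end

-- part: H776/Co/FusA
section
set_option linter.all false
open scoped Cfsg.Agent.FastGrp

/-!
Fusion systems on `P`: essential subgroups not containing `A`.
-/

set_option autoImplicit false
set_option linter.style.longLine false

namespace Cfsg.Agent.H776.Co

open Subgroup Cfsg Cfsg.Agent.H752 P

variable {F : FusionSystem (⊤ : Subgroup P)}

theorem isPGroup_top : IsPGroup 3 (⊤ : Subgroup P) := isPGroup_P.to_subgroup ⊤

theorem cent_of_centric {Q : Subgroup P} (hQ : F.IsCentric Q) (x : P) (hx : ∀ q ∈ Q, x * q = q * x) : x ∈ Q := by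
  have h : x ∈ centralizer (Q : Set P) := by
    rw [mem_centralizer_iff]
    intro q hq
    exact (hx q hq).symm
  exact hQ.2 Q (H802.isConj_refl F hQ.1) ⟨mem_top x, h⟩

/-- `N_A(Q)` is not contained in `Q` -/
theorem exists_norm_A {Q : Subgroup P} (hA : ¬ A ≤ Q) : ∃ b ∈ A, b ∉ Q ∧ b ∈ normalizer (Q : Set P) := by
  have hlt : Q < Q ⊔ A := lt_of_le_of_ne le_sup_left fun h => hA (by rw [h]; exact le_sup_right)
  obtain ⟨g, hg, hgQ, hgN⟩ := H759.exists_mem_normalizer_not_mem isPGroup_top (le_top : Q ⊔ A ≤ ⊤) hlt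
  have hAn : A.Normal := ⟨fun a ha g => A_conj ha g⟩
  obtain ⟨q, hq, b, hb, rfl⟩ := Subgroup.mem_sup_of_normal_right.1 hg
  refine ⟨b, hb, fun h => hgQ (mul_mem hq h), ?_⟩
  have h1 : q⁻¹ * (q * b) ∈ normalizer (Q : Set P) := mul_mem (le_normalizer (Q.inv_mem hq)) hgN
  simpa using h1

/-- **Theorem E** -/
theorem essential_eq_R3 (hF : F.IsSaturated 3) {Q : Subgroup P} (hQ : F.IsEssential 3 Q) (hA : ¬ A ≤ Q) : Q = R3 := by
  obtain ⟨b, hbA, hbQ, hbN⟩ := exists_norm_A hA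
  have hb1 : ∀ q ∈ Q, b * q * b⁻¹ * q⁻¹ ∈ Q ⊓ A := by
    intro q hq
    refine ⟨mul_mem ((mem_normalizer_iff.1 hbN q).1 hq) (Q.inv_mem hq), ?_⟩
    have h1 : b * (q * b⁻¹ * q⁻¹) ∈ A := mul_mem hbA (A_conj (inv_mem hbA) q)
    simpa [mul_assoc] using h1
  obtain ⟨a, ha, haQ, ⟨d0, hd0, had0⟩, hN, hP⟩ := exists_max isPGroup_top hQ (D := Q ⊓ A) inf_le_left
    (fun q hq d hd => ⟨Q.mul_mem (Q.mul_mem hq hd.1) (Q.inv_mem hq), A_conj hd.2 q⟩) (mem_top b) hbN hbQ hb1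
    (fun d hd => A_comm hbA hd.2)
  obtain ⟨D1, hD1, -, hcard⟩ := ha.exists_image (R := Q ⊓ A) inf_le_left
  have hD1Q : D1 ≤ Q := by
    intro y hy
    obtain ⟨x, hx, rfl⟩ := (hD1 y).1 hy
    exact haQ x hx.1
  have hE3 := lemE3 (Q := Q) (D1 := D1) hD1Q ?_ hcard ?_ ?_ (cent_of_centric hQ.1) hA ?_ ?_
  · rcases hE3 with ⟨hW, i, hi⟩ | ⟨i, hi⟩
    · have h5 : W5 ≤ Q := by rw [← hW]; exact inf_le_left
      have hDQ : DD i ≤ Q := by rw [← hi]; exact hD1Q
      have hQL : ∀ x : P, x.a = 0 → x.m33 = 0 → x ∈ Q := fun x h1 h2 => mem_of_QL h5 hDQ h1 h2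
      have hx : xa 1 ∈ Q := by
        by_contra hc
        obtain ⟨d, hd, h6⟩ := hN (xa 1) (mem_top _)
          (mem_normalizer_iff.2 fun x => ⟨fun hx => normal_of_QL hQL _ hx, fun hx => by
            have := normal_of_QL hQL (xa 1)⁻¹ hx
            simpa [mul_assoc] using this⟩) hc
        have h7 : a d ∈ DD i := by rw [← hi]; exact (hD1 _).2 ⟨d, hd, rfl⟩
        have h8 := DD_xa h7
        rw [← hi] at h8
        obtain ⟨d', hd', h9⟩ := (hD1 _).1 h8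
        exact h6 d' hd' h9.symm
      exact eq_R3 (R3_le hQL hx) hA
    · subst hi
      exact absurd hQ (not_essential_DD F hF i)
  · intro q hq d hd
    obtain ⟨x, hx, rfl⟩ := (hD1 d).1 hd
    obtain ⟨q', hq', rfl⟩ := ha.surj haQ hq
    refine (hD1 _).2 ⟨q' * x * q'⁻¹, ⟨Q.mul_mem (Q.mul_mem hq' hx.1) (Q.inv_mem hq'), A_conj hx.2 q'⟩, ?_⟩
    rw [ha.mul (Q.mul_mem hq' hx.1) (Q.inv_mem hq'), ha.mul hq' hx.1, ha.inv hq']
  · intro x hx y hy
    obtain ⟨x', hx', rfl⟩ := (hD1 x).1 hx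
    obtain ⟨y', hy', rfl⟩ := (hD1 y).1 hy
    rw [← ha.mul hx'.1 hy'.1, A_comm hx'.2 hy'.2, ha.mul hy'.1 hx'.1]
  · intro x hx
    obtain ⟨x', hx', rfl⟩ := (hD1 x).1 hx
    rw [← ha.pow hx'.1, A_cube hx'.2, ha.one]
  · intro h
    apply had0
    have : a d0 ∈ D1 := (hD1 _).2 ⟨d0, hd0, rfl⟩
    rwa [h] at this
  · intro n hn hnQ hnN y hy hyA hc
    obtain ⟨x, hx, rfl⟩ := (hD1 y).1 hy
    have hnn : n⁻¹ = n * n := by
      rw [inv_eq_iff_mul_eq_one, ← pow_two, ← pow_succ']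
      exact A_cube hn
    have hnN' : n ∈ normalizer (Q : Set P) := by
      rw [mem_normalizer_iff]
      intro q
      refine ⟨hnN q, fun h => ?_⟩
      have h1 := hnN _ (hnN _ h)
      have h2 : n * (n * (n * q * n⁻¹) * n⁻¹) * n⁻¹ = (n * n * n) * q * (n * n * n)⁻¹ := by group
      have h3 : n * n * n = 1 := by rw [← hnn]; exact inv_mul_cancel n
      rw [h2, h3] at h1
      simpa using h1
    have h4 : n * a x * n⁻¹ * (a x)⁻¹ = (a x * n * (a x)⁻¹ * n⁻¹)⁻¹ := by group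
    have h5 : n * a x * n⁻¹ * (a x)⁻¹ ∈ D1 := by rw [h4]; exact inv_mem hc
    refine hP n (mem_top n) hnN' hnQ (fun d hd => A_comm hn hd.2) x hx (fun h => hyA h.2) ⟨⟨hD1Q h5, ?_⟩, ?_⟩
    · rw [h4]
      exact A.inv_mem (A.mul_mem (A_conj hn _) (A.inv_mem hn))
    · obtain ⟨d', hd', h6⟩ := (hD1 _).1 h5
      exact ⟨d', hd', h6.symm⟩

end Cfsg.Agent.H776.Co
end
end
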